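import Cfsg.Agent.Lib.CosetGraph.SylowIn
import Cfsg.Agent.Lib.Involutions.BaerSuzuki
import Cfsg.Agent.Lib.PLocal.CoprimeGen
import Cfsg.Agent.Lib.OffenderComp.Facts

/-!
# Groups in which involution centralisers are 2-groups: elementary facts

Owner: helper2. The consequences of the hypothesis used everywhere: centralisers of non-trivial
2-elements are 2-groups, so elements of odd order act fixed point freely on the 2-groups they
normalise, also on their sections; in a non-2-closed 2-local `H` with `Q = O₂(H)` and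
`V = Ω₁(Z(Q))` one has `C_H(V) ≤ Q` and every involution of `H/Q` acts freely on `V`.
-/

set_option autoImplicit false
set_option linter.style.haveILetI false
set_option linter.unusedSectionVars false

open Cfsg

namespace Cfsg.Agent.Lib.CIT

open Cfsg.Agent.Lib.CosetGraph.SylowIn

variable {G : Type*} [Group G]

/-- Every involution centraliser is a 2-group. -/
def IsCIT (G : Type*) [Group G] : Prop :=
  ∀ t : G, orderOf t = 2 → IsPGroup 2 ↥(Subgroup.centralizer ({t} : Set G))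

theorem mem_centralizer_singleton' {g u : G} (h : g * u = u * g) :
    g ∈ Subgroup.centralizer ({u} : Set G) :=
  Subgroup.mem_centralizer_singleton_iff.2 h

section Two

variable [Finite G]

theorem eq_one_of_odd_of_two {x : G} {P : Subgroup G} (hP : IsPGroup 2 P) (hx : x ∈ P)
    (hodd : Odd (orderOf x)) : x = 1 := by
  obtain ⟨k, hk⟩ := hP ⟨x, hx⟩
  have h1 : x ^ 2 ^ k = 1 := by simpa using congrArg Subtype.val hk
  obtain ⟨j, -, hj⟩ := (Nat.dvd_prime_pow Nat.prime_two).1 (orderOf_dvd_of_pow_eq_one h1)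
  rcases Nat.eq_zero_or_pos j with rfl | hj0
  · exact orderOf_eq_one_iff.1 (by simpa using hj)
  · rw [hj] at hodd
    exact absurd hodd (Nat.not_odd_iff_even.2 (even_two.pow_of_ne_zero (by omega)))

theorem isPGroup_zpowers_of_mem {u : G} {P : Subgroup G} (hP : IsPGroup 2 P) (hu : u ∈ P) :
    IsPGroup 2 ↥(Subgroup.zpowers u) :=
  hP.to_le (Subgroup.zpowers_le.2 hu)

theorem isPGroup_zpowers_of_sq {u : G} {P : Subgroup G} (hP : IsPGroup 2 P) (hu : u * u ∈ P) :
    IsPGroup 2 ↥(Subgroup.zpowers u) := by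
  obtain ⟨k, hk⟩ := hP ⟨_, hu⟩
  have h : (u * u) ^ 2 ^ k = 1 := by simpa using congrArg Subtype.val hk
  have h1 : u ^ 2 ^ (k + 1) = 1 := by rw [pow_succ', pow_mul, pow_two, h]
  obtain ⟨j, -, hj⟩ := (Nat.dvd_prime_pow Nat.prime_two).1 (orderOf_dvd_of_pow_eq_one h1)
  exact IsPGroup.of_card (n := j) (by rw [Nat.card_zpowers, hj])

/-- A subgroup which is not a 2-group has a non-trivial element of odd order. -/
theorem exists_odd_ne_one {H : Subgroup G} (h : ¬ IsPGroup 2 H) :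
    ∃ x ∈ H, x ≠ 1 ∧ Odd (orderOf x) := by
  by_contra hno
  push Not at hno
  refine h ?_
  obtain ⟨a, m, hm, hcard⟩ := Nat.exists_eq_two_pow_mul_odd (n := Nat.card H) Nat.card_pos.ne'
  by_cases hm1 : m = 1
  · exact IsPGroup.of_card (n := a) (by rw [hcard, hm1, mul_one])
  have hfact : Fact (Nat.minFac m).Prime := ⟨Nat.minFac_prime hm1⟩
  obtain ⟨x, hx⟩ := exists_prime_orderOf_dvd_card' (G := H) (Nat.minFac m)
    (hcard ▸ (Nat.minFac_dvd m).mul_left _)
  have hx1 : (x : G) ≠ 1 := by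
    intro e
    rw [show x = 1 from Subtype.ext e, orderOf_one] at hx
    exact hfact.1.ne_one hx.symm
  refine absurd ?_ (hno x x.2 hx1)
  rw [Subgroup.orderOf_coe, hx]
  exact hm.of_dvd_nat (Nat.minFac_dvd m)

namespace IsCIT

variable (hG : IsCIT G)
include hG

/-- The centraliser of a non-trivial 2-element is a 2-group. -/
theorem isPGroup_centralizer {P : Subgroup G} (hP : IsPGroup 2 P) {u : G} (hu : u ∈ P)
    (hu1 : u ≠ 1) : IsPGroup 2 ↥(Subgroup.centralizer ({u} : Set G)) := by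
  obtain ⟨k, hk⟩ := IsPGroup.iff_orderOf.1 hP ⟨u, hu⟩
  rw [Subgroup.orderOf_mk] at hk
  rcases Nat.eq_zero_or_pos k with rfl | hk0
  · exact absurd (orderOf_eq_one_iff.1 (by simpa using hk)) hu1
  obtain ⟨j, rfl⟩ : ∃ j, k = j + 1 := ⟨k - 1, by omega⟩
  have ht : orderOf (u ^ 2 ^ j) = 2 := by
    rw [orderOf_pow_of_dvd (by positivity) (hk ▸ Nat.pow_dvd_pow 2 (by omega)), hk,
      Nat.pow_div (by omega) (by norm_num)]
    simp
  refine (hG _ ht).to_le fun g hg => mem_centralizer_singleton' ?_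
  exact ((show Commute g u from Subgroup.mem_centralizer_singleton_iff.1 hg).pow_right _).eq

theorem isPGroup_of_commute {P H : Subgroup G} (hP : IsPGroup 2 P) {u : G} (hu : u ∈ P)
    (hu1 : u ≠ 1) (hH : ∀ g ∈ H, g * u = u * g) : IsPGroup 2 H :=
  (hG.isPGroup_centralizer hP hu hu1).to_le fun g hg => mem_centralizer_singleton' (hH g hg)

theorem isPGroup_of_le_centralizer {K H : Subgroup G} (hK : IsPGroup 2 K) (hne : K ≠ ⊥)
    (hH : H ≤ Subgroup.centralizer (K : Set G)) : IsPGroup 2 H := by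
  obtain ⟨u, hu, hu1⟩ := K.bot_or_exists_ne_one.resolve_left hne
  exact hG.isPGroup_of_commute hK hu hu1 fun g hg =>
    (Subgroup.mem_centralizer_iff.1 (hH hg) u hu).symm

/-- Elements of odd order commuting with a non-trivial 2-element are trivial. -/
theorem eq_one {P : Subgroup G} (hP : IsPGroup 2 P) {x u : G} (hu : u ∈ P) (hu1 : u ≠ 1)
    (hx : Odd (orderOf x)) (hc : x * u = u * x) : x = 1 :=
  eq_one_of_odd_of_two (hG.isPGroup_centralizer hP hu hu1) (mem_centralizer_singleton' hc) hx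

/-- Fixed point freeness on sections of 2-groups. -/
theorem eq_one_of_mod {P K : Subgroup G} (hP : IsPGroup 2 P) (hKP : K ≤ P) {u : G} (hu : u ∈ P)
    (huK : u ∉ K) {x : G} (hx : Odd (orderOf x)) (hxK : x ∈ Subgroup.normalizer (K : Set G))
    (hc : u⁻¹ * (x * u * x⁻¹) ∈ K) : x = 1 := by
  by_contra hx1
  have hord : orderOf x ≠ 1 := fun e => hx1 (orderOf_eq_one_iff.1 e)
  set r := Nat.minFac (orderOf x) with hr_def
  have hr : r.Prime := Nat.minFac_prime hord
  have hfact : Fact r.Prime := ⟨hr⟩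
  set y := x ^ (orderOf x / r) with hy_def
  have hy : orderOf y = r := orderOf_pow_orderOf_div (orderOf_pos x).ne' (Nat.minFac_dvd _)
  have hrodd : Odd r := hx.of_dvd_nat (Nat.minFac_dvd _)
  let L : Subgroup G :=
    { carrier := {g | g ∈ Subgroup.normalizer (K : Set G) ∧ u⁻¹ * (g * u * g⁻¹) ∈ K}
      one_mem' := ⟨one_mem _, by simp⟩
      mul_mem' := fun {a b} ha hb => ⟨mul_mem ha.1 hb.1, by
        have h1 : a * (u⁻¹ * (b * u * b⁻¹)) * a⁻¹ ∈ K :=
          (Subgroup.mem_normalizer_iff.1 ha.1 _).1 hb.2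
        have h2 := K.mul_mem ha.2 h1
        convert h2 using 1; group⟩
      inv_mem' := fun {a} ha => ⟨inv_mem ha.1, by
        have h1 := (Subgroup.mem_normalizer_iff.1 (inv_mem ha.1) _).1 (K.inv_mem ha.2)
        convert h1 using 1; group⟩ }
  have hyL : Subgroup.zpowers y ≤ L :=
    Subgroup.zpowers_le.2 (Subgroup.pow_mem _ (show x ∈ L from ⟨hxK, hc⟩) _)
  obtain ⟨m, hm⟩ := IsPGroup.iff_card.1 (hP.to_le hKP)
  have hcop : (Nat.card K).Coprime r := by
    rw [hm]
    exact Nat.Coprime.pow_left _ ((Nat.coprime_primes Nat.prime_two hr).2 fun e => by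
      rw [← e] at hrodd
      exact absurd hrodd (by decide))
  obtain ⟨w, hwK, hw⟩ := PLocal.exists_fixed_in_coset (p := r) (B := Subgroup.zpowers y) (M := K)
    (IsPGroup.of_card (n := 1) (by rw [Nat.card_zpowers, hy, pow_one]))
    (fun g hg => (hyL hg).1) hcop (x := u) (fun g hg => (hyL hg).2)
  have hwP : w ∈ P := by simpa using P.mul_mem hu (hKP hwK)
  have hw1 : w ≠ 1 := by
    rintro rfl
    exact huK (by simpa using K.inv_mem hwK)
  have hy1 := hG.eq_one hP hwP hw1 (hy ▸ hrodd) (hw y (Subgroup.mem_zpowers y))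
  rw [hy1, orderOf_one] at hy
  exact hr.ne_one hy.symm

end IsCIT

end Two

/-! ### Non-2-closed 2-locals -/

/-- `Ω₁(Z(O₂(H)))`. -/
abbrev Vof (H : Subgroup G) : Subgroup G := omegaCenter 2 (pCoreOf 2 H)

/-- `H` has `O₂(H) ≠ 1` and a non-normal Sylow 2-subgroup `P`. -/
structure Loc (H P : Subgroup G) : Prop where
  syl : IsSylowIn 2 P H
  ne : pCoreOf 2 H ≠ ⊥
  ncl : ¬ H ≤ Subgroup.normalizer (P : Set G)

theorem mem_omegaCenter {T : Subgroup G} {x : G} :
    x ∈ omegaCenter 2 T ↔ x ∈ T ∧ (∀ y ∈ T, y * x = x * y) ∧ x * x = 1 := by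
  constructor
  · intro hx
    let W : Subgroup G :=
      { carrier := {x | x ∈ T ∧ (∀ y ∈ T, y * x = x * y) ∧ x * x = 1}
        one_mem' := ⟨one_mem _, fun y _ => by rw [mul_one, one_mul], one_mul 1⟩
        mul_mem' := fun {a b} ha hb => ⟨mul_mem ha.1 hb.1,
          fun y hy => ((show Commute y a from ha.2.1 y hy).mul_right (hb.2.1 y hy)).eq, by
          rw [mul_assoc, ← mul_assoc b a b, ← (show a * b = b * a from hb.2.1 a ha.1), mul_assoc a b b,
            hb.2.2, mul_one, ha.2.2]⟩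
        inv_mem' := fun {a} ha => ⟨inv_mem ha.1, fun y hy =>
          ((show Commute y a from ha.2.1 y hy).inv_right).eq,
          by rw [← mul_inv_rev, ha.2.2, inv_one]⟩ }
    have h : omegaCenter 2 T ≤ W := by
      refine (Subgroup.closure_le W).2 fun a ha => ?_
      exact ⟨ha.1.1, fun y hy => Subgroup.mem_centralizer_iff.1 ha.1.2 y hy,
        by rw [← pow_two]; exact ha.2⟩
    exact h hx
  · rintro ⟨h1, h2, h3⟩
    exact Subgroup.subset_closure ⟨⟨h1, Subgroup.mem_centralizer_iff.2 h2⟩, by rw [pow_two, h3]⟩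

theorem Vof_sq {H : Subgroup G} {v : G} (hv : v ∈ Vof H) : v * v = 1 :=
  (mem_omegaCenter.1 hv).2.2

theorem Vof_inv {H : Subgroup G} {v : G} (hv : v ∈ Vof H) : v⁻¹ = v :=
  inv_eq_of_mul_eq_one_right (Vof_sq hv)

theorem Vof_le (H : Subgroup G) : Vof H ≤ pCoreOf 2 H := fun _ hv => (mem_omegaCenter.1 hv).1

theorem Vof_comm {H : Subgroup G} {v q : G} (hv : v ∈ Vof H) (hq : q ∈ pCoreOf 2 H) :
    q * v = v * q := (mem_omegaCenter.1 hv).2.1 q hq

theorem Vof_comm' {H : Subgroup G} {v w : G} (hv : v ∈ Vof H) (hw : w ∈ Vof H) :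
    w * v = v * w := Vof_comm hv (Vof_le H hw)

theorem le_normalizer_Vof (H : Subgroup G) : H ≤ Subgroup.normalizer (Vof H : Set G) := by
  intro g hg
  rw [mem_normalizer_iff_map, omegaCenter_conj,
    conj_map_eq_self (le_normalizer_pCoreOf 2 H hg)]

theorem conj_mem_Vof {H : Subgroup G} {g v : G} (hg : g ∈ H) (hv : v ∈ Vof H) :
    g * v * g⁻¹ ∈ Vof H :=
  (Subgroup.mem_normalizer_iff.1 (le_normalizer_Vof H hg) v).1 hv

section Local

variable [Finite G]

theorem Vof_isPGroup (H : Subgroup G) : IsPGroup 2 (Vof H) :=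
  (isPGroup_pCoreOf 2 H).to_le (Vof_le H)

namespace Loc

variable {H P : Subgroup G} (h : Loc H P)
include h

theorem isPGroup : IsPGroup 2 P := h.syl.isPGroup

theorem Q_le : pCoreOf 2 H ≤ P := pCoreOf_le_sylow h.syl

theorem not_le_Q : ¬ P ≤ pCoreOf 2 H := fun hle =>
  h.ncl (le_antisymm hle h.Q_le ▸ le_normalizer_pCoreOf 2 H)

theorem Vof_ne_bot : Vof H ≠ ⊥ := by
  intro he
  refine h.ne ?_
  have h1 := eq_bot_of_omegaOne_eq_bot
    ((isPGroup_pCoreOf 2 H).to_le (inf_le_left (b := Subgroup.centralizer (pCoreOf 2 H : Set G)))) he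
  by_contra hne
  haveI : Nontrivial (pCoreOf 2 H) := (Subgroup.nontrivial_iff_ne_bot _).2 hne
  haveI : Fact (Nat.Prime 2) := ⟨Nat.prime_two⟩
  haveI := (isPGroup_pCoreOf 2 H).center_nontrivial
  obtain ⟨⟨z, hz⟩, hz1⟩ := exists_ne (1 : Subgroup.center (pCoreOf 2 H))
  refine hz1 (Subtype.ext (Subtype.ext ?_))
  have : (z : G) ∈ pCoreOf 2 H ⊓ Subgroup.centralizer (pCoreOf 2 H : Set G) :=
    ⟨z.2, Subgroup.mem_centralizer_iff.2 fun y hy =>
      congrArg Subtype.val (Subgroup.mem_center_iff.1 hz ⟨y, hy⟩)⟩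
  rw [h1] at this
  simpa using this

variable (hG : IsCIT G)
include hG

/-- The centraliser in `H` of a non-trivial normal 2-subgroup lies in `O₂(H)`. -/
theorem centralizer_le {K : Subgroup G} (hK : IsPGroup 2 K) (hne : K ≠ ⊥)
    (hn : H ≤ Subgroup.normalizer (K : Set G)) :
    H ⊓ Subgroup.centralizer (K : Set G) ≤ pCoreOf 2 H := by
  refine le_pCoreOf inf_le_left ?_ (hG.isPGroup_of_le_centralizer hK hne inf_le_right)
  intro g hg
  rw [mem_normalizer_iff_map, Subgroup.map_inf_eq _ _ _ (MulAut.conj g).injective,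
    centralizer_map_equiv, conj_map_eq_self (hn hg), conj_map_eq_self (Subgroup.le_normalizer hg)]

/-- An element of `H` centralising `V` lies in `O₂(H)`. -/
theorem mem_Q {g : G} (hg : g ∈ H) (hc : ∀ v ∈ Vof H, g * v = v * g) : g ∈ pCoreOf 2 H :=
  h.centralizer_le hG (Vof_isPGroup H) h.Vof_ne_bot (le_normalizer_Vof H)
    ⟨hg, Subgroup.mem_centralizer_iff.2 fun v hv => (hc v hv).symm⟩

/-- `Ω₁(Z(P)) ≤ V`. -/
theorem omegaCenter_le : omegaCenter 2 P ≤ Vof H := by
  intro x hx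
  obtain ⟨h1, h2, h3⟩ := mem_omegaCenter.1 hx
  refine mem_omegaCenter.2 ⟨h.centralizer_le hG (isPGroup_pCoreOf 2 H) h.ne
    (le_normalizer_pCoreOf 2 H) ⟨h.syl.le h1, Subgroup.mem_centralizer_iff.2 fun q hq => h2 q (h.Q_le hq)⟩,
    fun q hq => h2 q (h.Q_le hq), h3⟩

omit hG in
/-- Baer-Suzuki in `H`. -/
theorem exists_conj_not_two {u : G} (hu : u ∈ H) (h2 : IsPGroup 2 ↥(Subgroup.zpowers u))
    (huQ : u ∉ pCoreOf 2 H) :
    ∃ g ∈ H, ¬ IsPGroup 2 ↥(Subgroup.closure ({u, g * u * g⁻¹} : Set G)) := by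
  by_contra hno
  push Not at hno
  have hz : IsPGroup 2 ↥(Subgroup.zpowers (⟨u, hu⟩ : H)) := by
    have e : (Subgroup.zpowers (⟨u, hu⟩ : H)).map H.subtype = Subgroup.zpowers u :=
      MonoidHom.map_zpowers _ _
    rw [← e] at h2
    exact h2.of_equiv ((Subgroup.zpowers _).equivMapOfInjective _ H.subtype_injective).symm
  obtain ⟨N, hN, hNp, huN⟩ := Cfsg.Agent.Lib.Involutions.BaerSuzuki.baer_suzuki_elem (p := 2) hz fun g => by
    have e : (Subgroup.closure ({(⟨u, hu⟩ : H), g * ⟨u, hu⟩ * g⁻¹} : Set H)).map H.subtype =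
        Subgroup.closure ({u, (g : G) * u * (g : G)⁻¹} : Set G) := by
      rw [MonoidHom.map_closure, Set.image_pair]; rfl
    have h3 := hno g g.2
    rw [← e] at h3
    exact h3.of_equiv ((Subgroup.closure _).equivMapOfInjective _ H.subtype_injective).symm
  exact huQ ⟨⟨u, hu⟩, Cfsg.Agent.Lib.Cores.le_pCore (hN := hN) hNp huN, rfl⟩

/-- An element acting as an involution on `V` acts freely. -/
theorem free {u : G} (hu : u ∈ H) (hu2 : u * u ∈ pCoreOf 2 H) (huQ : u ∉ pCoreOf 2 H) :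
    (Nat.card ↥(Vof H ⊓ Subgroup.centralizer ({u} : Set G)) *
        Nat.card ↥(Vof H ⊓ Subgroup.centralizer ({u} : Set G)) = Nat.card (Vof H)) ∧
      (∀ v ∈ Vof H, u * v * u⁻¹ * v⁻¹ ∈ Vof H ⊓ Subgroup.centralizer ({u} : Set G)) ∧
      ∀ c ∈ Vof H ⊓ Subgroup.centralizer ({u} : Set G), ∃ v ∈ Vof H, u * v * u⁻¹ * v⁻¹ = c := by
  set V := Vof H with hV
  set C := V ⊓ Subgroup.centralizer ({u} : Set G) with hC
  have hcomm : ∀ a ∈ V, ∀ b ∈ V, a * b = b * a := fun a ha b hb => Vof_comm' hb ha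
  have hmem : ∀ v ∈ V, u * v * u⁻¹ * v⁻¹ ∈ C := by
    intro v hv
    have h1 := conj_mem_Vof hu hv
    refine ⟨V.mul_mem h1 (V.inv_mem hv), mem_centralizer_singleton' ?_⟩
    have h2 : u * (u * v * u⁻¹) * u⁻¹ = v := by
      have h4 := Vof_comm hv hu2
      calc u * (u * v * u⁻¹) * u⁻¹ = u * u * v * (u * u)⁻¹ := by group
        _ = v := by rw [h4]; group
    have h5 : u * (u * v * u⁻¹ * v⁻¹) * u⁻¹ = u * v * u⁻¹ * v⁻¹ := by
      calc u * (u * v * u⁻¹ * v⁻¹) * u⁻¹
          = u * (u * v * u⁻¹) * u⁻¹ * (u * v * u⁻¹)⁻¹ := by group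
        _ = v * (u * v * u⁻¹)⁻¹ := by rw [h2]
        _ = v⁻¹ * (u * v * u⁻¹) := by rw [Vof_inv h1, Vof_inv hv]
        _ = u * v * u⁻¹ * v⁻¹ := (hcomm _ h1 _ (V.inv_mem hv)).symm
    calc u * v * u⁻¹ * v⁻¹ * u = u * (u * v * u⁻¹ * v⁻¹) * u⁻¹ * u := by rw [h5]
      _ = u * (u * v * u⁻¹ * v⁻¹) := by group
  let φ : ↥V →* ↥C := MonoidHom.mk' (fun v => ⟨u * v * u⁻¹ * (v : G)⁻¹, hmem v v.2⟩) fun a b =>
    Subtype.ext (by
      show u * ((a : G) * b) * u⁻¹ * ((a : G) * b)⁻¹ = _ * _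
      calc u * ((a : G) * b) * u⁻¹ * ((a : G) * b)⁻¹
          = u * a * u⁻¹ * ((u * b * u⁻¹ * (b : G)⁻¹) * (a : G)⁻¹) := by group
        _ = u * a * u⁻¹ * ((a : G)⁻¹ * (u * b * u⁻¹ * (b : G)⁻¹)) := by
            rw [hcomm _ (hmem b b.2).1 _ (V.inv_mem a.2)]
        _ = _ := by simp [mul_assoc])
  have hker : φ.ker = C.subgroupOf V := by
    ext v
    rw [MonoidHom.mem_ker, Subgroup.mem_subgroupOf, Subtype.ext_iff]
    show u * (v : G) * u⁻¹ * (v : G)⁻¹ = 1 ↔ _
    rw [mul_inv_eq_one, mul_inv_eq_iff_eq_mul]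
    exact ⟨fun e => ⟨v.2, mem_centralizer_singleton' e.symm⟩,
      fun e => (Subgroup.mem_centralizer_singleton_iff.1 e.2).symm⟩
  have hcardeq : Nat.card ↥V = Nat.card ↥C * Nat.card φ.range := by
    rw [← φ.ker.card_mul_index, Subgroup.index_ker, hker,
      Nat.card_congr (Subgroup.subgroupOfEquivOfLe (inf_le_left : C ≤ V)).toEquiv]
  obtain ⟨g, hg, hng⟩ := h.exists_conj_not_two hu (isPGroup_zpowers_of_sq (isPGroup_pCoreOf 2 H) hu2) huQ
  set C' := C.map (MulAut.conj g).toMonoidHom with hC'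
  have hC'V : C' ≤ V := by
    rintro _ ⟨c, hc, rfl⟩
    exact conj_mem_Vof hg hc.1
  have hbot : C ⊓ C' = ⊥ := by
    rw [Subgroup.eq_bot_iff_forall]
    rintro v ⟨⟨hvV, hv⟩, c, hc, hcv⟩
    by_contra hv1
    refine hng (hG.isPGroup_of_commute (Vof_isPGroup H) hvV hv1 ?_)
    have hle : Subgroup.closure ({u, g * u * g⁻¹} : Set G) ≤ Subgroup.centralizer ({v} : Set G) := by
      refine (Subgroup.closure_le _).2 ?_
      rintro y (rfl | rfl)
      · exact mem_centralizer_singleton' (Subgroup.mem_centralizer_singleton_iff.1 hv).symm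
      · refine mem_centralizer_singleton' ?_
        rw [← hcv]
        show g * u * g⁻¹ * (g * c * g⁻¹) = g * c * g⁻¹ * (g * u * g⁻¹)
        calc g * u * g⁻¹ * (g * c * g⁻¹) = g * (u * c) * g⁻¹ := by group
          _ = g * (c * u) * g⁻¹ := by rw [Subgroup.mem_centralizer_singleton_iff.1 hc.2]
          _ = g * c * g⁻¹ * (g * u * g⁻¹) := by group
    exact fun y hy => Subgroup.mem_centralizer_singleton_iff.1 (hle hy)
  have hup : Nat.card ↥C * Nat.card ↥C ≤ Nat.card ↥V := by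
    have h1 := OffenderComp.Aux.card_sup_inf (H := C) (K := C') (fun a ha => by
      rw [Subgroup.mem_normalizer_iff]
      intro b
      constructor
      · intro hb
        rwa [hcomm a ha.1 b (hC'V hb), mul_inv_cancel_right]
      · intro hb
        have hbV : b ∈ V := by
          simpa [mul_assoc] using conj_mem_Vof (g := a⁻¹)
            (H.inv_mem ((pCoreOf_le 2 H) (Vof_le H ha.1))) (hC'V hb)
        rwa [hcomm a ha.1 b hbV, mul_inv_cancel_right] at hb)
    rw [hbot, Subgroup.card_bot, mul_one, hC',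
      Subgroup.card_map_of_injective (f := (MulAut.conj g).toMonoidHom) (MulAut.conj g).injective] at h1
    rw [← h1]
    exact Subgroup.card_le_of_le (sup_le inf_le_left hC'V)
  have hrle : Nat.card φ.range ≤ Nat.card ↥C := Subgroup.card_le_card_group _
  have hCpos : 0 < Nat.card ↥C := Nat.card_pos
  have hreq : Nat.card φ.range = Nat.card ↥C := by nlinarith
  refine ⟨by rw [hcardeq, hreq], hmem, fun c hc => ?_⟩
  have htop : φ.range = ⊤ := Subgroup.eq_top_of_card_eq _ hreq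
  obtain ⟨v, hv⟩ := (htop.symm ▸ Subgroup.mem_top (⟨c, hc⟩ : C) : (⟨c, hc⟩ : C) ∈ φ.range)
  exact ⟨v, v.2, congrArg Subtype.val hv⟩

end Loc

end Local

end Cfsg.Agent.Lib.CIT
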