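import Cfsg.Agent.Lib.CIT.Shape

/-!
# Existence of an amalgam, or TI Sylow 2-subgroups

Owner: helper2.
-/

set_option autoImplicit false
set_option linter.style.haveILetI false
set_option linter.unusedSectionVars false

open Cfsg

namespace Cfsg.Agent.Lib.CIT

open scoped Pointwise
open Cfsg.Agent.Lib.CosetGraph.SylowIn

variable {G : Type*} [Group G]

/-- `S` is a maximal 2-subgroup, that is, a Sylow 2-subgroup. -/
structure MaxTwo (S : Subgroup G) : Prop where
  isP : IsPGroup 2 S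
  max : ∀ Y : Subgroup G, IsPGroup 2 Y → S ≤ Y → Y = S

variable [Finite G]

theorem MaxTwo.isSylowIn {S H : Subgroup G} (h : MaxTwo S) (hSH : S ≤ H) : IsSylowIn 2 S H := by
  haveI : Fact (Nat.Prime 2) := ⟨Nat.prime_two⟩
  obtain ⟨T, hT, hle⟩ := IsSylowIn.exists_le h.isP hSH
  rwa [h.max T hT.isPGroup hle] at hT

theorem maxTwo_sylow (T : Sylow 2 G) : MaxTwo (T : Subgroup G) :=
  ⟨T.2, fun _ hY hle => T.3 hY hle⟩

/-- An element of `(Y ∩ N(P)) ∖ P` with square in `P`. -/
theorem exists_sq_mem {P Y : Subgroup G} (hY : IsPGroup 2 Y) (hlt : P < Y) :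
    ∃ s ∈ Y, s ∈ Subgroup.normalizer (P : Set G) ∧ s ∉ P ∧ s * s ∈ P := by
  classical
  haveI : Fact (Nat.Prime 2) := ⟨Nat.prime_two⟩
  haveI : Group.IsNilpotent Y := hY.isNilpotent
  obtain ⟨g, ⟨hgY, hgn⟩, hgP⟩ :=
    SetLike.exists_of_lt (Involutions.StronglyEmbedded.lt_inf_normalizer hlt)
  obtain ⟨k, hk⟩ := hY ⟨g, hgY⟩
  have hk' : g ^ 2 ^ k = 1 := by simpa using congrArg Subtype.val hk
  have hex : ∃ j, g ^ 2 ^ j ∈ P := ⟨k, by rw [hk']; exact one_mem _⟩
  have hj := Nat.find_spec hex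
  obtain ⟨j, hjeq⟩ : ∃ j, Nat.find hex = j + 1 := by
    rcases Nat.eq_zero_or_pos (Nat.find hex) with e | e
    · rw [e] at hj
      exact absurd (by simpa using hj) hgP
    · exact ⟨_, (Nat.succ_pred_eq_of_pos e).symm⟩
  refine ⟨g ^ 2 ^ j, Y.pow_mem hgY _, Subgroup.pow_mem _ hgn _, Nat.find_min hex (by omega), ?_⟩
  rw [← pow_add, ← two_mul, ← pow_succ', ← hjeq]
  exact hj

/-- A group containing a non-2-closed local, with non-trivial `O₂`, is one too. -/
theorem Loc.of_le {H P K T : Subgroup G} (h : Loc H P) (hHK : H ≤ K) (hne : pCoreOf 2 K ≠ ⊥)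
    (hT : IsSylowIn 2 T K) : Loc K T := by
  haveI : Fact (Nat.Prime 2) := ⟨Nat.prime_two⟩
  refine ⟨hT, hne, fun hn => h.not_le_Q ?_⟩
  obtain ⟨T', hT', hPT'⟩ := IsSylowIn.exists_le h.isPGroup (h.syl.le.trans hHK)
  obtain ⟨g, hg, rfl⟩ := hT.exists_conj hT'
  rw [conj_map_eq_self (hn hg)] at hPT'
  have h2 : T ⊓ H ≤ pCoreOf 2 H := by
    refine le_pCoreOf inf_le_right ?_ (hT.isPGroup.to_le inf_le_left)
    intro x hx
    rw [mem_normalizer_iff_map, Subgroup.map_inf_eq _ _ _ (MulAut.conj x).injective,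
      conj_map_eq_self (hn (hHK hx)), conj_map_eq_self (Subgroup.le_normalizer hx)]
  exact (le_inf hPT' h.syl.le).trans h2

/-- A pair from a local moved by an element normalising its Sylow subgroup. -/
theorem pair_of_swap {K P : Subgroup G} (L : Loc K P)
    (pu : ∀ N : Subgroup G, N ≤ P → N ≠ ⊥ → K ≤ Subgroup.normalizer (N : Set G) →
      ∀ Y : Subgroup G, IsPGroup 2 Y → P ≤ Y → Y ≤ Subgroup.normalizer (N : Set G) → Y = P)
    {s : G} (hs : s ∈ Subgroup.normalizer (P : Set G)) (hsP : s ∉ P) (hs2 : s * s ∈ P) :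
    Pair K (K ^ᶜ s) P := by
  have hsP' : P ^ᶜ s = P := conj_map_eq_self hs
  have L' : Loc (K ^ᶜ s) P := by
    have := L.map_conj s
    rwa [hsP'] at this
  have puK := pu (pCoreOf 2 K) L.Q_le L.ne (le_normalizer_pCoreOf 2 K)
  refine ⟨⟨L, L', fun N hN h1 h2 => ?_⟩, puK, fun Y hY hPY hYn => ?_⟩
  · by_contra hne
    have hss : K ^ᶜ (s * s) = K := conj_map_eq_self (Subgroup.le_normalizer (L.syl.le hs2))
    have hNss : N ^ᶜ (s * s) = N := conj_map_eq_self (h1 (L.syl.le hs2))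
    have h3 : K ≤ Subgroup.normalizer (N ^ᶜ s : Set G) := by
      have h4 := conjSub_le_normalizer h2 s
      rwa [conj_map_map, hss] at h4
    set N' := N ⊔ N ^ᶜ s with hN'
    have hN'P : N' ≤ P := sup_le hN ((Subgroup.map_mono hN).trans hsP'.le)
    have hKN' : K ≤ Subgroup.normalizer (N' : Set G) := by
      intro g hg
      rw [mem_normalizer_iff_map, hN', Subgroup.map_sup, conj_map_eq_self (h1 hg),
        conj_map_eq_self (h3 hg)]
    have hsN' : s ∈ Subgroup.normalizer (N' : Set G) := by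
      rw [mem_normalizer_iff_map, hN', Subgroup.map_sup, conj_map_map, hNss, sup_comm]
    have hY : IsPGroup 2 ↥(P ⊔ Subgroup.zpowers s) :=
      IsPGroup.to_sup_of_normal_left' L.isPGroup (isPGroup_zpowers_of_sq L.isPGroup hs2)
        (Subgroup.zpowers_le.2 hs)
    have e := pu N' hN'P (fun e => hne (le_bot_iff.1 (le_sup_left.trans e.le))) hKN'
      (P ⊔ Subgroup.zpowers s) hY le_sup_left
      (sup_le (L.syl.le.trans hKN') (Subgroup.zpowers_le.2 hsN'))
    exact hsP (e ▸ Subgroup.mem_sup_right (Subgroup.mem_zpowers s))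
  · have h2 : P ≤ Y ^ᶜ s⁻¹ := by
      have := Subgroup.map_mono (f := (MulAut.conj s⁻¹).toMonoidHom) hPY
      rwa [conj_map_eq_self (inv_mem hs)] at this
    have h4 := conjSub_le_normalizer hYn s⁻¹
    rw [pCoreOf_conjSub, conjSub_inv_cancel] at h4
    have e := puK _ (hY.map _) h2 h4
    rw [← conjSub_cancel_inv Y s, e, hsP']

variable [IsSimpleGroup G]

theorem normalizer_ne_top {N : Subgroup G} (hne : N ≠ ⊥) (hne' : N ≠ ⊤) :
    Subgroup.normalizer (N : Set G) ≠ ⊤ := fun e => by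
  rcases (Subgroup.normalizer_eq_top_iff.1 e).eq_bot_or_eq_top with h | h
  exacts [hne h, hne' h]

/-- Odd involution-free lifting: a strongly embedded local with all involutions in `O₂` is 2-closed. -/
theorem no_all_invol {M S : Subgroup G} (hG : IsCIT G) (L : Loc M S)
    (hinv : ∀ t ∈ M, orderOf t = 2 → t ∈ pCoreOf 2 M) : False := by
  classical
  haveI : Fact (Nat.Prime 2) := ⟨Nat.prime_two⟩
  set Q := pCoreOf 2 M with hQ
  have hlt : Q < S := lt_of_le_of_ne L.Q_le fun e => L.not_le_Q e.ge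
  obtain ⟨a, haS, -, haQ, ha2⟩ := exists_sq_mem L.isPGroup hlt
  have ha : a ∈ M := L.syl.le haS
  obtain ⟨g, hg, hng⟩ := L.exists_conj_not_two ha (isPGroup_zpowers_of_sq (isPGroup_pCoreOf 2 M) ha2) haQ
  set b := g * a * g⁻¹ with hb
  have hbM : b ∈ M := mul_mem (mul_mem hg ha) (inv_mem hg)
  have hQn := fun (y : G) (hy : y ∈ M) (z : G) =>
    (Subgroup.mem_normalizer_iff.1 (le_normalizer_pCoreOf 2 M hy) z)
  have hb2 : b * b ∈ Q := by
    have := (hQn g hg _).1 ha2
    convert this using 1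
    rw [hb]; group
  set y := a * b with hy
  have hyM : y ∈ M := mul_mem ha hbM
  have hay : y * (a * y * a⁻¹) ∈ Q := by
    have h1 : a * y * a⁻¹ * y = a * a * (b * b) := by rw [hy]; group
    have h2 : a * y * a⁻¹ * y ∈ Q := h1 ▸ Q.mul_mem ha2 hb2
    have h3 := (hQn y hyM _).1 h2
    convert h3 using 1
    group
  -- `y` is not a 2-element
  have hy2 : ¬ IsPGroup 2 ↥(Subgroup.zpowers y) := by
    intro hy2
    have hR : IsPGroup 2 ↥(Q ⊔ Subgroup.zpowers y) :=
      IsPGroup.to_sup_of_normal_left' (isPGroup_pCoreOf 2 M) hy2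
        (Subgroup.zpowers_le.2 (le_normalizer_pCoreOf 2 M hyM))
    have hle : (Q ⊔ Subgroup.zpowers y) ^ᶜ a ≤ Q ⊔ Subgroup.zpowers y := by
      rw [Subgroup.map_sup, conj_map_eq_self (le_normalizer_pCoreOf 2 M ha), MonoidHom.map_zpowers]
      refine sup_le le_sup_left (Subgroup.zpowers_le.2 ?_)
      have e : (MulAut.conj a).toMonoidHom y = y⁻¹ * (y * (a * y * a⁻¹)) := by
        simp [mul_assoc]
      rw [e]
      exact mul_mem (inv_mem (Subgroup.mem_sup_right (Subgroup.mem_zpowers y)))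
        (Subgroup.mem_sup_left hay)
    have han : a ∈ Subgroup.normalizer ((Q ⊔ Subgroup.zpowers y : Subgroup G) : Set G) := by
      rw [mem_normalizer_iff_map]
      exact Subgroup.eq_of_le_of_card_ge hle
        (Subgroup.card_map_of_injective (MulAut.conj a).injective).ge
    have hR' := IsPGroup.to_sup_of_normal_left' hR
      (isPGroup_zpowers_of_sq (isPGroup_pCoreOf 2 M) ha2) (Subgroup.zpowers_le.2 han)
    refine hng (hR'.to_le ((Subgroup.closure_le _).2 ?_))
    have hmem : a ∈ (Q ⊔ Subgroup.zpowers y) ⊔ Subgroup.zpowers a :=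
      Subgroup.mem_sup_right (Subgroup.mem_zpowers a)
    rintro z (rfl | rfl)
    · exact hmem
    · have e : b = a⁻¹ * y := by rw [hy]; group
      rw [e]
      exact mul_mem (inv_mem hmem) (Subgroup.mem_sup_left (Subgroup.mem_sup_right (Subgroup.mem_zpowers y)))
  obtain ⟨x₀, hx₀, hx₀1, hx₀o⟩ := exists_odd_ne_one hy2
  -- a power of `y` of odd prime order
  have hord : orderOf x₀ ≠ 1 := fun e => hx₀1 (orderOf_eq_one_iff.1 e)
  set r := Nat.minFac (orderOf x₀) with hr_def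
  have hr : r.Prime := Nat.minFac_prime hord
  have hfact : Fact r.Prime := ⟨hr⟩
  have hrodd : Odd r := hx₀o.of_dvd_nat (Nat.minFac_dvd _)
  set x := x₀ ^ (orderOf x₀ / r) with hx_def
  have hxord : orderOf x = r := orderOf_pow_orderOf_div (orderOf_pos x₀).ne' (Nat.minFac_dvd _)
  have hxy : x ∈ Subgroup.zpowers y := Subgroup.pow_mem _ hx₀ _
  have hxo : Odd (orderOf x) := hxord ▸ hrodd
  have hx1 : x ≠ 1 := fun e => hr.ne_one (by rw [← hxord, e, orderOf_one])
  have hxM : x ∈ M := Subgroup.zpowers_le.2 hyM hxy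
  -- `a` inverts `x` modulo `Q`
  let Iv : Subgroup G :=
    { carrier := {z | z ∈ Subgroup.zpowers y ∧ z * (a * z * a⁻¹) ∈ Q}
      one_mem' := ⟨one_mem _, by simp⟩
      mul_mem' := fun {u v} hu hv => ⟨mul_mem hu.1 hv.1, by
        have hcv : u * v = v * u := by
          obtain ⟨i, rfl⟩ := hu.1; obtain ⟨j, rfl⟩ := hv.1
          exact ((Commute.refl y).zpow_zpow i j).eq
        have hvM : v ∈ M := Subgroup.zpowers_le.2 hyM hv.1
        have h1 := (hQn v hvM _).1 hu.2
        have h2 := Q.mul_mem h1 hv.2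
        convert h2 using 1
        rw [show a * (u * v) * a⁻¹ = a * u * a⁻¹ * (a * v * a⁻¹) by group, hcv]
        group⟩
      inv_mem' := fun {u} hu => ⟨inv_mem hu.1, by
        have hc : u * y = y * u := by
          obtain ⟨i, rfl⟩ := hu.1
          exact ((Commute.refl y).zpow_left i).eq
        have huM : u ∈ M := Subgroup.zpowers_le.2 hyM hu.1
        have h1 := (hQn u⁻¹ (inv_mem huM) _).1 (Q.inv_mem hu.2)
        convert h1 using 1
        group⟩ }
  have hxI : x * (a * x * a⁻¹) ∈ Q :=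
    ((Subgroup.zpowers_le.2 (show y ∈ Iv from ⟨Subgroup.mem_zpowers y, hay⟩)) hxy).2
  -- Frattini in `Q⟨x⟩`
  set X := Subgroup.zpowers x with hX
  have hXn : X ≤ Subgroup.normalizer (Q : Set G) :=
    Subgroup.zpowers_le.2 (le_normalizer_pCoreOf 2 M hxM)
  have hbot : ∀ z ∈ X, z ∈ Q → z = 1 := fun z hz hzQ =>
    eq_one_of_odd_of_two (isPGroup_pCoreOf 2 M) hzQ
      (hxo.of_dvd_nat (orderOf_dvd_of_mem_zpowers hz))
  have hXQ : X ⊓ Q = ⊥ := (Subgroup.eq_bot_iff_forall _).2 fun z hz => hbot z hz.1 hz.2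
  set K := X ⊔ Q with hK
  have hcardX : Nat.card X = r := by rw [hX, Nat.card_zpowers, hxord]
  have hcardK : Nat.card K = r * Nat.card Q := by
    have h := OffenderComp.Aux.card_sup_inf hXn
    rwa [hXQ, Subgroup.card_bot, mul_one, hcardX] at h
  have hfac : (Nat.card K).factorization r = 1 := by
    obtain ⟨m, hm⟩ := IsPGroup.iff_card.1 (isPGroup_pCoreOf 2 M : IsPGroup 2 Q)
    rw [hcardK, hm, Nat.factorization_mul hr.ne_zero (by positivity), Finsupp.add_apply,
      hr.factorization_self, Nat.Prime.factorization_pow Nat.prime_two, Finsupp.single_apply,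
      if_neg (fun e => by rw [← e] at hrodd; exact absurd hrodd (by decide)), add_zero]
  have hsylX : IsSylowIn r X K := ⟨le_sup_left, by rw [hfac, pow_one, hcardX]⟩
  have hsylX' : IsSylowIn r (X ^ᶜ a) K := by
    refine ⟨?_, by rw [Subgroup.card_map_of_injective (MulAut.conj a).injective, hfac, pow_one, hcardX]⟩
    rw [hX, MonoidHom.map_zpowers]
    refine Subgroup.zpowers_le.2 ?_
    have e : (MulAut.conj a).toMonoidHom x = x⁻¹ * (x * (a * x * a⁻¹)) := by simp [mul_assoc]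
    rw [e]
    exact mul_mem (inv_mem (Subgroup.mem_sup_left (Subgroup.mem_zpowers x))) (Subgroup.mem_sup_right hxI)
  obtain ⟨k, hk, hke⟩ := hsylX'.exists_conj hsylX
  have hset : ((X ⊔ Q : Subgroup G) : Set G) = (X : Set G) * (Q : Set G) :=
    Subgroup.coe_mul_of_left_le_normalizer_right _ _ hXn
  obtain ⟨z, hz, q, hq, rfl⟩ : k ∈ (X : Set G) * (Q : Set G) := hset ▸ hk
  set u := q * a with hu
  have huX : X ^ᶜ u = X := by
    have h1 := congrArg (fun A : Subgroup G => A ^ᶜ z⁻¹) hke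
    simp only [conj_map_map] at h1
    rw [conj_map_eq_self (Subgroup.le_normalizer (inv_mem hz))] at h1
    convert h1 using 3
    rw [hu]; group
  have huQ : u ∉ Q := fun hm => haQ (by simpa [hu] using Q.mul_mem (Q.inv_mem hq) hm)
  have hu2 : u * u ∈ Q := by
    have h1 := Q.mul_mem (Q.mul_mem hq ((hQn a ha _).1 hq)) ha2
    convert h1 using 1
    rw [hu]; group
  have hu2X : u * u ∈ Subgroup.normalizer (X : Set G) :=
    mul_mem (mem_normalizer_iff_map.2 huX) (mem_normalizer_iff_map.2 huX)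
  have hcomm : u * u * x = x * (u * u) := by
    have h1 : u * u * x * (u * u)⁻¹ * x⁻¹ = 1 := by
      refine hbot _ (X.mul_mem ((Subgroup.mem_normalizer_iff.1 hu2X x).1 (Subgroup.mem_zpowers x))
        (inv_mem (Subgroup.mem_zpowers x))) ?_
      have h2 := Q.mul_mem hu2 ((hQn x hxM _).1 (Q.inv_mem hu2))
      convert h2 using 1
      group
    exact mul_inv_eq_iff_eq_mul.1 (mul_inv_eq_one.1 h1)
  have hu21 : u * u = 1 := by
    by_contra hne
    exact hx1 (hG.eq_one (isPGroup_pCoreOf 2 M) hu2 hne hxo hcomm.symm)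
  have hu1 : u ≠ 1 := fun e => huQ (e ▸ one_mem Q)
  exact huQ (hinv u (mul_mem (pCoreOf_le 2 M hq) ha)
    (orderOf_eq_prime (by rw [pow_two]; exact hu21) hu1))

/-- Either an amalgam exists or the Sylow 2-subgroups are TI. -/
theorem exists_pair_or_ti (hG : IsCIT G) :
    (∃ M₁ M₂ P : Subgroup G, Pair M₁ M₂ P) ∨
      ∀ T : Sylow 2 G, ∀ g : G, g ∉ Subgroup.normalizer ((T : Subgroup G) : Set G) →
        (T : Subgroup G) ⊓ (T : Subgroup G) ^ᶜ g = ⊥ := by
  classical
  haveI : Fact (Nat.Prime 2) := ⟨Nat.prime_two⟩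
  by_cases hex : ∃ H P : Subgroup G, Loc H P
  swap
  · right
    intro T g hg
    push Not at hex
    by_contra hD
    have hne : (T : Subgroup G) ^ᶜ g ≠ T := fun e => hg (mem_normalizer_iff_map.2 e)
    -- a pair of Sylow subgroups with a maximal intersection
    obtain ⟨⟨S₁, S₂⟩, ⟨hS₁, hS₂, h12, hDne⟩, hmax⟩ := Set.Finite.exists_maximalFor
      (fun p : Subgroup G × Subgroup G => Nat.card ↥(p.1 ⊓ p.2))
      {p | MaxTwo p.1 ∧ MaxTwo p.2 ∧ p.1 ≠ p.2 ∧ p.1 ⊓ p.2 ≠ ⊥} (Set.toFinite _)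
      ⟨((T : Subgroup G), (T : Subgroup G) ^ᶜ g), maxTwo_sylow T,
        ⟨T.2.map _, fun Y hY hle => by
          have := (maxTwo_sylow T).max _ (hY.map (MulAut.conj g⁻¹).toMonoidHom) (by
            have := Subgroup.map_mono (f := (MulAut.conj g⁻¹).toMonoidHom) hle
            rwa [conjSub_inv_cancel] at this)
          rw [← conjSub_cancel_inv Y g, this]⟩, hne.symm, hD⟩
    set D := S₁ ⊓ S₂ with hDdef
    set H := Subgroup.normalizer (D : Set G) with hH
    have hlt : ∀ {A : Subgroup G}, MaxTwo A → D ≤ A → D ≠ A → D < A ⊓ H := by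
      intro A hA hDA hne'
      haveI : Group.IsNilpotent A := hA.isP.isNilpotent
      exact Involutions.StronglyEmbedded.lt_inf_normalizer (lt_of_le_of_ne hDA hne')
    have h1 := hlt hS₁ inf_le_left fun e => h12 (hS₁.max _ hS₂.isP (e ▸ inf_le_right)).symm
    have h2 := hlt hS₂ inf_le_right fun e => h12 (hS₂.max _ hS₁.isP (e ▸ inf_le_left))
    obtain ⟨P, hP⟩ := exists_isSylowIn (p := 2) H
    refine hex H P ⟨hP, fun e => hDne (le_bot_iff.1 (e ▸ le_pCoreOf Subgroup.le_normalizer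
      le_rfl (hS₁.isP.to_le inf_le_left))), fun hn => ?_⟩
    have key : ∀ Y : Subgroup G, IsPGroup 2 Y → Y ≤ H → Y ≤ P := by
      intro Y hY hYH
      obtain ⟨P', hP', hle⟩ := IsSylowIn.exists_le hY hYH
      obtain ⟨k, hk, rfl⟩ := hP.exists_conj hP'
      rwa [conj_map_eq_self (hn hk)] at hle
    obtain ⟨S, hS⟩ := hP.isPGroup.exists_le_sylow
    have hS' := maxTwo_sylow S
    have eq : ∀ {A : Subgroup G}, MaxTwo A → D < A ⊓ H → (S : Subgroup G) = A := by
      intro A hA hlt'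
      by_contra hne'
      have hle : A ⊓ H ≤ (S : Subgroup G) ⊓ A :=
        le_inf ((key _ (hA.isP.to_le inf_le_left) inf_le_right).trans hS) inf_le_left
      have hlt2 : D < (S : Subgroup G) ⊓ A := lt_of_lt_of_le hlt' hle
      have h3 : Nat.card D < Nat.card ↥((S : Subgroup G) ⊓ A) :=
        lt_of_le_of_ne (Subgroup.card_le_of_le hlt2.le) fun e =>
          hlt2.ne (Subgroup.eq_of_le_of_card_ge hlt2.le e.ge)
      exact absurd (hmax (j := ((S : Subgroup G), A)) ⟨hS', hA, hne', ne_bot_of_gt hlt2⟩ h3.le) h3.not_ge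
    exact h12 ((eq hS₁ h1).symm.trans (eq hS₂ h2))
  left
  by_cases hfull : ∃ H S : Subgroup G, Loc H S ∧ MaxTwo S
  swap
  · -- no local contains a Sylow subgroup of `G`
    push Not at hfull
    obtain ⟨⟨H, P⟩, hL, hmax⟩ := Set.Finite.exists_maximalFor
      (fun p : Subgroup G × Subgroup G => Nat.card p.2) {p | Loc p.1 p.2} (Set.toFinite _)
      (let ⟨H, P, h⟩ := hex; ⟨(H, P), h⟩)
    change Loc H P at hL
    have hnm := hfull H P hL
    obtain ⟨Y, hY, hPY, hne⟩ : ∃ Y : Subgroup G, IsPGroup 2 Y ∧ P ≤ Y ∧ Y ≠ P := by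
      by_contra hno
      push Not at hno
      exact hnm ⟨hL.isPGroup, hno⟩
    obtain ⟨s, -, hs, hsP, hs2⟩ := exists_sq_mem hY (lt_of_le_of_ne hPY hne.symm)
    refine ⟨H, H ^ᶜ s, P, pair_of_swap hL (fun N hNP hN hHN Y hY hPY hYN => ?_) hs hsP hs2⟩
    obtain ⟨T, hT, hYT⟩ := IsSylowIn.exists_le hY hYN
    have hL' : Loc (Subgroup.normalizer (N : Set G)) T := hL.of_le hHN (fun e => hN (le_bot_iff.1
      (e ▸ le_pCoreOf Subgroup.le_normalizer le_rfl (hL.isPGroup.to_le hNP)))) hT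
    have h1 : Nat.card T ≤ Nat.card P := by
      by_contra hlt
      exact hlt (hmax (j := (Subgroup.normalizer (N : Set G), T)) hL' (le_of_not_ge hlt))
    exact (Subgroup.eq_of_le_of_card_ge hPY ((Subgroup.card_le_of_le hYT).trans h1)).symm
  -- some local contains a Sylow subgroup `S` of `G`
  obtain ⟨H₀, S, hH₀, hS⟩ := hfull
  obtain ⟨M, hM, hmaxM⟩ := Set.Finite.exists_maximalFor (id : Subgroup G → Subgroup G)
    {H | Loc H S} (Set.toFinite _) ⟨H₀, hH₀⟩
  change Loc M S at hM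
  have hMeq : ∀ N : Subgroup G, IsPGroup 2 N → N ≠ ⊥ → N ≤ M → M ≤ Subgroup.normalizer (N : Set G) →
      Subgroup.normalizer (N : Set G) = M := by
    intro N hN hne hNM hn
    have hL : Loc (Subgroup.normalizer (N : Set G)) S :=
      hM.of_le hn (fun e => hne (le_bot_iff.1 (e ▸ le_pCoreOf Subgroup.le_normalizer le_rfl hN)))
        (hS.isSylowIn (hM.syl.le.trans hn))
    exact le_antisymm (hmaxM (j := Subgroup.normalizer (N : Set G)) hL hn) hn
  by_cases hother : ∃ H, Loc H S ∧ ¬ H ≤ M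
  · obtain ⟨H, hH, hHM⟩ := hother
    refine ⟨M, H, S, ⟨hM, hH, fun N hN h1 h2 => ?_⟩, fun Y hY hle _ => hS.max Y hY hle,
      fun Y hY hle _ => hS.max Y hY hle⟩
    by_contra hne
    exact hHM ((hMeq N (hS.isP.to_le hN) hne (hN.trans hM.syl.le) h1) ▸ h2)
  push Not at hother
  have hNS : Subgroup.normalizer (S : Set G) ≤ M := by
    intro g hg
    have h1 := hM.map_conj g
    rw [conj_map_eq_self hg] at h1
    have h2 : M ^ᶜ g = M := Subgroup.eq_of_le_of_card_ge (hother _ h1)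
      (Subgroup.card_map_of_injective (MulAut.conj g).injective).ge
    rw [← hMeq (pCoreOf 2 M) (isPGroup_pCoreOf 2 M) hM.ne (pCoreOf_le 2 M) (le_normalizer_pCoreOf 2 M),
      mem_normalizer_iff_map, ← pCoreOf_conjSub, h2]
  by_cases hall : ∀ X : Subgroup G, X ≤ S → X ≠ ⊥ → Subgroup.normalizer (X : Set G) ≤ M
  · -- strongly embedded: impossible
    exfalso
    have hMtop : M ≠ ⊤ := by
      intro e
      have h0 := hMeq (pCoreOf 2 M) (isPGroup_pCoreOf 2 M) hM.ne (pCoreOf_le 2 M)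
        (le_normalizer_pCoreOf 2 M)
      refine normalizer_ne_top hM.ne (fun e2 => hM.not_le_Q ?_) (h0.trans e)
      rw [e2]; exact le_top
    obtain ⟨T, hT⟩ := hM.syl.exists_sylow
    have hTne : (T : Subgroup M) ≠ ⊥ := fun e => by
      rw [e, Subgroup.map_bot] at hT
      exact hM.ne (le_bot_iff.1 (hT ▸ hM.Q_le))
    have hSE : Cfsg.IsStronglyEmbedded M :=
      (Involutions.StronglyEmbedded.isStronglyEmbedded_iff_normalizer hMtop T hTne).2 fun X hX hX1 =>
        hall _ (hT ▸ Subgroup.map_mono hX) fun e => hX1 <| by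
          rwa [Subgroup.map_eq_bot_iff_of_injective _ M.subtype_injective] at e
    have hfus := ((Involutions.StronglyEmbedded.isStronglyEmbedded_iff_fusion hMtop hSE.2.1).1 hSE).2
    obtain ⟨⟨z, hz⟩, hz2⟩ : ∃ z : pCoreOf 2 M, orderOf z = 2 := by
      haveI := (Subgroup.nontrivial_iff_ne_bot _).2 hM.ne
      obtain ⟨n, hn, hcard⟩ := (isPGroup_pCoreOf 2 M).nontrivial_iff_card.mp this
      exact exists_prime_orderOf_dvd_card' 2 (hcard ▸ dvd_pow_self 2 (by omega))
    rw [Subgroup.orderOf_mk] at hz2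
    refine no_all_invol hG hM fun t ht ht2 => ?_
    obtain ⟨h, hh, rfl⟩ := hfus z (pCoreOf_le 2 M hz) t ht hz2 ht2
      (Involutions.StronglyEmbedded.isConj_involutions hSE hz2 ht2)
    exact (Subgroup.mem_normalizer_iff.1 (le_normalizer_pCoreOf 2 M hh) z).1 hz
  push Not at hall
  obtain ⟨X, ⟨hXS, hX1, hXM⟩, hmaxX⟩ := Set.Finite.exists_maximalFor
    (fun X : Subgroup G => Nat.card ↥(S ⊓ Subgroup.normalizer (X : Set G)))
    {X | X ≤ S ∧ X ≠ ⊥ ∧ ¬ Subgroup.normalizer (X : Set G) ≤ M} (Set.toFinite _)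
    (let ⟨X, h⟩ := hall; ⟨X, h⟩)
  set P := S ⊓ Subgroup.normalizer (X : Set G) with hP
  set K := Subgroup.normalizer (X : Set G) with hK
  have hPp : IsPGroup 2 P := hS.isP.to_le inf_le_left
  have hPne : P ≠ ⊥ := fun e => hX1 (le_bot_iff.1 (e ▸ le_inf hXS Subgroup.le_normalizer))
  haveI : Group.IsNilpotent S := hS.isP.isNilpotent
  have hNP : Subgroup.normalizer (P : Set G) ≤ M := by
    rcases (inf_le_left : P ≤ S).eq_or_lt with e | hlt
    · have e' : P = S := e
      rw [e']; exact hNS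
    · by_contra hle
      have h1 := Involutions.StronglyEmbedded.lt_inf_normalizer hlt
      have h2 : Nat.card P < Nat.card ↥(S ⊓ Subgroup.normalizer (P : Set G)) :=
        lt_of_le_of_ne (Subgroup.card_le_of_le h1.le) fun e =>
          h1.ne (Subgroup.eq_of_le_of_card_ge h1.le e.ge)
      exact h2.not_ge (hmaxX (j := P) ⟨inf_le_left, hPne, hle⟩ h2.le)
  -- the key maximality property
  have key : ∀ N : Subgroup G, N ≤ P → N ≠ ⊥ → ¬ Subgroup.normalizer (N : Set G) ≤ M →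
      ∀ Y : Subgroup G, IsPGroup 2 Y → P ≤ Y → Y ≤ Subgroup.normalizer (N : Set G) → Y = P := by
    intro N hNP' hN hNM Y hY hPY hYN
    by_contra hne
    haveI : Group.IsNilpotent Y := hY.isNilpotent
    have hlt := Involutions.StronglyEmbedded.lt_inf_normalizer (lt_of_le_of_ne hPY (Ne.symm hne))
    set P₁ := Y ⊓ Subgroup.normalizer (P : Set G) with hP₁
    have hP₁M : P₁ ≤ M := inf_le_right.trans hNP
    obtain ⟨T, hT, hle⟩ := IsSylowIn.exists_le (hY.to_le inf_le_left : IsPGroup 2 P₁) hP₁M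
    obtain ⟨m, hm, hme⟩ := hT.exists_conj hM.syl
    have hmS : P₁ ^ᶜ m ≤ S := hme ▸ Subgroup.map_mono hle
    have hX' : N ^ᶜ m ≤ S ∧ N ^ᶜ m ≠ ⊥ ∧ ¬ Subgroup.normalizer (N ^ᶜ m : Set G) ≤ M := by
      refine ⟨(Subgroup.map_mono (hNP'.trans hlt.le)).trans hmS,
        fun e => hN ((Subgroup.map_eq_bot_iff_of_injective _ (MulAut.conj m).injective).1 e),
        fun hle' => hNM ?_⟩
      rw [← Subgroup.map_equiv_normalizer_eq N (MulAut.conj m)] at hle'
      have := Subgroup.map_mono (f := (MulAut.conj m⁻¹).toMonoidHom) hle'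
      rw [conj_map_eq_self (Subgroup.le_normalizer (inv_mem hm))] at this
      refine le_trans (Eq.ge ?_) this
      exact conjSub_inv_cancel _ m
    have hb : P₁ ^ᶜ m ≤ S ⊓ Subgroup.normalizer (N ^ᶜ m : Set G) :=
      le_inf hmS (conjSub_le_normalizer (inf_le_left.trans hYN) m)
    have h3 := Subgroup.card_le_of_le hb
    rw [Subgroup.card_map_of_injective (MulAut.conj m).injective] at h3
    have h4 : Nat.card P < Nat.card P₁ :=
      lt_of_le_of_ne (Subgroup.card_le_of_le hlt.le) fun e =>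
        hlt.ne (Subgroup.eq_of_le_of_card_ge hlt.le e.ge)
    exact (h4.trans_le h3).not_ge (hmaxX (j := N ^ᶜ m) hX' (h4.le.trans h3))
  have hXP : X ≤ P := le_inf hXS Subgroup.le_normalizer
  obtain ⟨Y, hY, hPY⟩ := IsSylowIn.exists_le hPp (inf_le_right : P ≤ K)
  obtain rfl := key X hXP hX1 hXM Y hY.isPGroup hPY hY.le
  have hKne : pCoreOf 2 K ≠ ⊥ := fun e =>
    hX1 (le_bot_iff.1 (e ▸ le_pCoreOf Subgroup.le_normalizer le_rfl (hS.isP.to_le hXS)))
  have hLoc : Loc K P := ⟨hY, hKne, fun hle => hXM (hle.trans hNP)⟩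
  have hPS : P < S := by
    refine lt_of_le_of_ne inf_le_left fun e => hXM ?_
    have hL : Loc K S := by rw [← e]; exact hLoc
    exact hother K hL
  obtain ⟨s, -, hs, hsP, hs2⟩ := exists_sq_mem hS.isP hPS
  refine ⟨K, K ^ᶜ s, P, pair_of_swap hLoc (fun N hNP' hN hKN Y hY hPY hYN =>
    key N hNP' hN (fun hle => hXM (hKN.trans hle)) Y hY hPY hYN) hs hsP hs2⟩

end Cfsg.Agent.Lib.CIT
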