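import Cfsg.Agent.Lib.CIT.Small
import Cfsg.Agent.Lib.CIT.Exists
import Cfsg.Agent.Lib.Fusion.Thompson

/-!
# The case `|R| = 4`: the Sylow subgroup of the amalgam is a Sylow subgroup of `G`

Owner: helper2.
-/

set_option autoImplicit false
set_option linter.style.haveILetI false
set_option linter.unusedSectionVars false

open Cfsg

namespace Cfsg.Agent.Lib.CIT

open scoped Pointwise
open Cfsg.Agent.Lib.CosetGraph.SylowIn

variable {G : Type*} [Group G] [Finite G] {V W P : Subgroup G}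

namespace Shape

/-- A 2-group in `N(V)` containing `P` is `P`. -/
theorem eq_of_le_normalizer (s : Shape V W P) {Y : Subgroup G} (hY : IsPGroup 2 Y) (hPY : P ≤ Y)
    (hYN : Y ≤ Subgroup.normalizer (V : Set G)) : Y = P := by
  haveI : Fact (Nat.Prime 2) := ⟨Nat.prime_two⟩
  obtain ⟨T, hT, hle⟩ := IsSylowIn.exists_le hY hYN
  have e : P = T := Subgroup.eq_of_le_of_card_ge (hPY.trans hle)
    (by rw [hT.card_eq, s.ffV.loc.syl.card_eq])
  exact le_antisymm (e ▸ hle) hPY

/-- An element of a 2-group normalising `P`, outside `P`, interchanges `V` and `W`. -/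
theorem swap_of_notMem (hG : IsCIT G) (s : Shape V W P) {S : Subgroup G} (hS : IsPGroup 2 S)
    (hPS : P ≤ S) {σ : G} (hσ : σ ∈ S) (hσn : σ ∈ Subgroup.normalizer (P : Set G)) (hσP : σ ∉ P) :
    V ^ᶜ σ = W ∧ W ^ᶜ σ = V := by
  have hP := conj_map_eq_self hσn
  have hE : ∀ {X : Subgroup G}, (∀ x ∈ X, x * x = 1) → ∀ e ∈ X ^ᶜ σ, e * e = 1 := by
    rintro X hX _ ⟨x, hx, rfl⟩
    rw [← map_mul, hX x hx, map_one]
  have hcard : ∀ X : Subgroup G, Nat.card ↥(X ^ᶜ σ) = Nat.card X := fun X =>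
    Subgroup.card_map_of_injective (MulAut.conj σ).injective
  have hne : ∀ {A B : Subgroup G}, Shape A B P → A ^ᶜ σ ≠ A := by
    intro A B t e
    have hY : IsPGroup 2 ↥(P ⊔ Subgroup.zpowers σ) := hS.to_le (sup_le hPS (Subgroup.zpowers_le.2 hσ))
    exact hσP ((t.eq_of_le_normalizer hY le_sup_left
      (sup_le t.le_normalizerV (Subgroup.zpowers_le.2 (mem_normalizer_iff_map.2 e)))).le
        (Subgroup.mem_sup_right (Subgroup.mem_zpowers σ)))
  refine ⟨(s.eq_or_eq hG ((Subgroup.map_mono s.V_le).trans hP.le) (hE fun x hx => s.sq hx)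
    (hcard V)).resolve_left (hne s), ?_⟩
  exact (s.eq_or_eq hG ((Subgroup.map_mono s.W_le).trans hP.le) (hE fun x hx => s.symm.sq hx)
    ((hcard W).trans (s.card_W hG))).resolve_right (hne s.symm)

/-- An element of odd order of the Borel subgroup acting non-trivially on `R`. -/
theorem exists_odd_borel (hG : IsCIT G) (s : Shape V W P) (hq : 2 < Nat.card ↥(V ⊓ W)) :
    ∃ x ∈ borel V P, x ≠ 1 ∧ Odd (orderOf x) := by
  haveI : Fact (Nat.Prime 2) := ⟨Nat.prime_two⟩
  obtain ⟨e, he, he1⟩ := (V ⊓ W).bot_or_exists_ne_one.resolve_left fun h => by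
    rw [h, Subgroup.card_bot] at hq; omega
  obtain ⟨f, hf, hf1, hfe⟩ : ∃ f ∈ V ⊓ W, f ≠ 1 ∧ f ≠ e := by
    by_contra hno
    push Not at hno
    haveI : Fintype G := Fintype.ofFinite G
    classical
    have hsub : (Finset.univ.filter fun f => f ∈ V ⊓ W) ⊆ ({1, e} : Finset G) := fun f hf => by
      have hf' := (Finset.mem_filter.1 hf).2
      by_cases h1 : f = 1
      · simp [h1]
      · simp [hno f hf' h1]
    have := (Finset.card_le_card hsub).trans Finset.card_le_two
    rw [← Fintype.card_subtype, ← Nat.card_eq_fintype_card] at this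
    exact absurd (le_trans (le_of_eq rfl) this) (not_le.2 hq)
  obtain ⟨g, hg, hge⟩ := (s.half hG).trans e he he1 f hf hf1
  obtain ⟨a, m, hm, hord⟩ := Nat.exists_eq_two_pow_mul_odd (n := orderOf g) (orderOf_pos g).ne'
  refine ⟨g ^ 2 ^ a, Subgroup.pow_mem _ hg _, fun h1 => ?_, ?_⟩
  · have h2 : IsPGroup 2 ↥(Subgroup.zpowers g) := by
      obtain ⟨j, -, hj⟩ := (Nat.dvd_prime_pow Nat.prime_two).1 (orderOf_dvd_of_pow_eq_one h1)
      exact IsPGroup.of_card (n := j) (by rw [Nat.card_zpowers, hj])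
    have hY := IsPGroup.to_sup_of_normal_left' s.isP h2 (Subgroup.zpowers_le.2 hg.2)
    have hgP : g ∈ P := (s.eq_of_le_normalizer hY le_sup_left
      (sup_le s.le_normalizerV (Subgroup.zpowers_le.2 hg.1))).le
        (Subgroup.mem_sup_right (Subgroup.mem_zpowers g))
    exact hfe (hge ▸ cj_eq_self (s.comm_inf he hgP))
  · rwa [orderOf_pow_of_dvd (by positivity) (hord ▸ dvd_mul_right _ _), hord,
      Nat.mul_div_cancel_left _ (by positivity)]

/-- The Borel subgroup has order `3|P|`. -/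
theorem card_borel (hG : IsCIT G) (s : Shape V W P) (hq : Nat.card ↥(V ⊓ W) = 4) :
    Nat.card (borel V P) ≤ 3 * Nat.card P := by
  classical
  haveI : Fact (Nat.Prime 2) := ⟨Nat.prime_two⟩
  set B := borel V P with hB
  set R := V ⊓ W with hR
  have hstab : ∀ {x r : G}, x ∈ B → r ∈ R → cj x r ∈ R := fun hx hr =>
    ⟨cj_mem hx.1 hr.1, cj_mem (s.borel_le hG hx).1 hr.2⟩
  have hPB : P ≤ B := le_inf s.le_normalizerV Subgroup.le_normalizer
  have h := s.half hG
  obtain ⟨e, he, he1⟩ := R.bot_or_exists_ne_one.resolve_left fun e' => by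
    rw [e', Subgroup.card_bot] at hq; omega
  let ψ : ↥B ⧸ P.subgroupOf B → {r : ↥R // r ≠ 1} := fun c =>
    ⟨⟨cj (c.out : G) e, hstab c.out.2 he⟩, fun h1 => he1 (cj_eq_one.1 (congrArg Subtype.val h1))⟩
  have hinj : Function.Injective ψ := by
    intro c d hcd
    rw [← QuotientGroup.out_eq' c, ← QuotientGroup.out_eq' d]
    refine QuotientGroup.eq.2 (Subgroup.mem_subgroupOf.2 ?_)
    set x := (c.out : G)⁻¹ * (d.out : G) with hx
    show x ∈ P
    have hxB : x ∈ B := B.mul_mem (B.inv_mem c.out.2) d.out.2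
    have hxe : cj x e = e := by
      have h1 : cj (c.out : G) e = cj (d.out : G) e := congrArg (fun z => ((z.1 : ↥R) : G)) hcd
      rw [hx, ← cj_cj, ← h1, cj_inv_cancel]
    -- `x` centralises `R`
    have hK : ∀ r ∈ R, x * r = r * x := by
      intro r hr
      by_cases hr1 : r = 1
      · rw [hr1, mul_one, one_mul]
      obtain ⟨y, hy, rfl⟩ := h.trans e he he1 r hr hr1
      have h2 : cj x (cj y e) = cj y e := by rw [h.comm x hxB y hy e he, hxe]
      exact mul_inv_eq_iff_eq_mul.1 h2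
    have hC : IsPGroup 2 ↥(B ⊓ Subgroup.centralizer (R : Set G)) :=
      hG.isPGroup_of_le_centralizer (s.isP.to_le (inf_le_left.trans s.V_le))
        (fun e' => he1 (by
          have he' : e ∈ (⊥ : Subgroup G) := e' ▸ he
          exact he')) inf_le_right
    have hY : IsPGroup 2 ↥(P ⊔ (B ⊓ Subgroup.centralizer (R : Set G))) :=
      IsPGroup.to_sup_of_normal_left' s.isP hC (fun g hg => hg.1.2)
    exact (s.eq_of_le_normalizer hY le_sup_left (sup_le s.le_normalizerV fun g hg => hg.1.1)).le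
      (Subgroup.mem_sup_right ⟨hxB, Subgroup.mem_centralizer_iff.2 fun r hr => (hK r hr).symm⟩)
  have h1 := Nat.card_le_card_of_injective ψ hinj
  have h2 : Nat.card {r : ↥R // r ≠ 1} = 3 := by
    haveI := Fintype.ofFinite ↥R
    rw [Nat.card_eq_fintype_card, Fintype.card_subtype_compl, Fintype.card_subtype_eq,
      ← Nat.card_eq_fintype_card, hq]
  rw [h2, ← Subgroup.index_eq_card] at h1
  rw [← (P.subgroupOf B).card_mul_index, Nat.card_congr (Subgroup.subgroupOfEquivOfLe hPB).toEquiv,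
    mul_comm]
  exact Nat.mul_le_mul_right _ h1

/-- An involution outside `P` normalising it. -/
theorem exists_invol_swap (hG : IsCIT G) (s : Shape V W P) (hq : Nat.card ↥(V ⊓ W) = 4) {S : Subgroup G}
    (hS : MaxTwo S) (hPS : P < S) :
    ∃ (S' : Subgroup G) (σ : G), MaxTwo S' ∧ P < S' ∧ σ ∈ S' ∧ σ ∈ Subgroup.normalizer (P : Set G) ∧
      σ ∉ P ∧ σ * σ = 1 ∧ ∃ r ∈ V ⊓ W, cj σ r ≠ r := by
  classical
  haveI : Fact (Nat.Prime 2) := ⟨Nat.prime_two⟩
  obtain ⟨t, htS, htn, htP, ht2⟩ := exists_sq_mem hS.isP hPS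
  obtain ⟨hVW, hWV⟩ := s.swap_of_notMem hG hS.isP hPS.le htS htn htP
  set B := borel V P with hB
  obtain ⟨x, hx, hx1, hxo⟩ := s.exists_odd_borel hG (by rw [hq]; norm_num)
  have hPB : P ≤ B := le_inf s.le_normalizerV Subgroup.le_normalizer
  set X := Subgroup.zpowers x with hX
  have hXn : X ≤ Subgroup.normalizer (P : Set G) := Subgroup.zpowers_le.2 hx.2
  have hbot : ∀ z ∈ X, z ∈ P → z = 1 := fun z hz hzP =>
    eq_one_of_odd_of_two s.isP hzP (hxo.of_dvd_nat (orderOf_dvd_of_mem_zpowers hz))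
  have hXP : X ⊓ P = ⊥ := (Subgroup.eq_bot_iff_forall _).2 fun z hz => hbot z hz.1 hz.2
  have hcardK : Nat.card ↥(X ⊔ P) = Nat.card X * Nat.card P := by
    have h := OffenderComp.Aux.card_sup_inf hXn
    rwa [hXP, Subgroup.card_bot, mul_one] at h
  have hK : X ⊔ P ≤ B := sup_le (Subgroup.zpowers_le.2 hx) hPB
  have hle := (Subgroup.card_le_of_le hK).trans (s.card_borel hG hq)
  rw [hcardK] at hle
  have hord3 : orderOf x = 3 := by
    have h1 : orderOf x ≤ 3 := by
      rw [← Nat.card_zpowers]; exact Nat.le_of_mul_le_mul_right hle Nat.card_pos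
    have h2 : orderOf x ≠ 1 := fun e => hx1 (orderOf_eq_one_iff.1 e)
    obtain ⟨k, hk⟩ := hxo
    omega
  have hBK : X ⊔ P = B := by
    refine Subgroup.eq_of_le_of_card_ge hK ((s.card_borel hG hq).trans ?_)
    rw [hcardK, hX, Nat.card_zpowers, hord3]
  obtain ⟨n, hn⟩ := IsPGroup.iff_card.1 s.isP
  haveI : Fact (Nat.Prime 3) := ⟨Nat.prime_three⟩
  have hfac : (Nat.card B).factorization 3 = 1 := by
    rw [← hBK, hcardK, hX, Nat.card_zpowers, hord3, hn,
      Nat.factorization_mul (by norm_num) (by positivity), Finsupp.add_apply,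
      Nat.prime_three.factorization_self, Nat.Prime.factorization_pow Nat.prime_two, Finsupp.single_apply,
      if_neg (by norm_num), add_zero]
  have hsylX : IsSylowIn 3 X B :=
    ⟨Subgroup.zpowers_le.2 hx, by rw [hfac, pow_one, hX, Nat.card_zpowers, hord3]⟩
  have hBt : B ^ᶜ t = B := by
    have hn' : ∀ A : Subgroup G, Subgroup.normalizer (A : Set G) ^ᶜ t = Subgroup.normalizer (A ^ᶜ t : Set G) :=
      fun A => Subgroup.map_equiv_normalizer_eq A (MulAut.conj t)
    rw [hB, borel, Subgroup.map_inf_eq _ _ _ (MulAut.conj t).injective, hn', hn', hVW,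
      conj_map_eq_self htn]
    exact le_antisymm (s.symm.borel_le hG) (s.borel_le hG)
  have hsylX' : IsSylowIn 3 (X ^ᶜ t) B := by
    have := hsylX.conj t
    rwa [hBt] at this
  obtain ⟨k, hk, hke⟩ := hsylX'.exists_conj hsylX
  have hset : ((X ⊔ P : Subgroup G) : Set G) = (X : Set G) * (P : Set G) :=
    Subgroup.coe_mul_of_left_le_normalizer_right _ _ hXn
  have hk' : k ∈ ((X ⊔ P : Subgroup G) : Set G) := by rw [hBK]; exact hk
  rw [hset] at hk'
  obtain ⟨z, hz, p, hp, rfl⟩ := hk'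
  set σ := p * t with hσ
  have hσX : X ^ᶜ σ = X := by
    have h1 := congrArg (fun A : Subgroup G => A ^ᶜ z⁻¹) hke
    simp only [conj_map_map] at h1
    rw [conj_map_eq_self (Subgroup.le_normalizer (inv_mem hz))] at h1
    convert h1 using 3
    rw [hσ]; group
  have hσn : σ ∈ Subgroup.normalizer (P : Set G) := mul_mem (Subgroup.le_normalizer hp) htn
  have hσP : σ ∉ P := fun h => htP (by simpa [hσ] using P.mul_mem (P.inv_mem hp) h)
  have hσS : σ ∈ S := S.mul_mem (hPS.le hp) htS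
  have hσ2P : σ * σ ∈ P := by
    have h1 := P.mul_mem (P.mul_mem hp ((Subgroup.mem_normalizer_iff.1 htn p).1 hp)) ht2
    convert h1 using 1
    rw [hσ]; group
  have hxn : x ∈ Subgroup.normalizer (P : Set G) := hx.2
  have hσ2 : σ * σ = 1 := by
    by_contra hne
    refine hx1 (hG.eq_one s.isP hσ2P hne hxo ?_)
    have hn2 : σ * σ ∈ Subgroup.normalizer (X : Set G) :=
      mul_mem (mem_normalizer_iff_map.2 hσX) (mem_normalizer_iff_map.2 hσX)
    have h1 : σ * σ * x * (σ * σ)⁻¹ * x⁻¹ = 1 := by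
      refine hbot _ (X.mul_mem ((Subgroup.mem_normalizer_iff.1 hn2 x).1 (Subgroup.mem_zpowers x))
        (inv_mem (Subgroup.mem_zpowers x))) ?_
      have h2 := P.mul_mem hσ2P ((Subgroup.mem_normalizer_iff.1 hxn _).1 (P.inv_mem hσ2P))
      convert h2 using 1
      group
    exact (mul_inv_eq_iff_eq_mul.1 (mul_inv_eq_one.1 h1)).symm
  refine ⟨S, σ, hS, hPS, hσS, hσn, hσP, hσ2, ?_⟩
  by_contra hfix
  push Not at hfix
  -- `σ` inverts `x`, so both act equally on `R`
  have hσ1 : σ ≠ 1 := fun e => hσP (e ▸ one_mem P)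
  have hxi : σ * x * σ⁻¹ = x⁻¹ := by
    have h1 : σ * x * σ⁻¹ ∈ X :=
      (Subgroup.mem_normalizer_iff.1 (mem_normalizer_iff_map.2 hσX) x).1 (Subgroup.mem_zpowers x)
    obtain ⟨i, hi⟩ := h1
    change x ^ i = _ at hi
    rw [← zpow_mod_orderOf, hord3] at hi
    push_cast at hi
    have h3 : i % 3 = 0 ∨ i % 3 = 1 ∨ i % 3 = 2 := by omega
    rcases h3 with h3 | h3 | h3 <;> rw [h3] at hi
    · exact absurd (conj_eq_one_iff.1 (hi.symm.trans (zpow_zero x))) hx1
    · exfalso
      rw [zpow_one] at hi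
      have hc : x * σ = σ * x := by rw [eq_mul_inv_iff_mul_eq] at hi; exact hi
      exact hx1 (hG.eq_one hS.isP hσS hσ1 hxo hc)
    · rw [← hi, show (2 : ℤ) = ((2 : ℕ) : ℤ) from rfl, zpow_natCast]
      refine eq_inv_of_mul_eq_one_left ?_
      rw [← pow_succ, show 2 + 1 = orderOf x from hord3.symm, pow_orderOf_eq_one]
  obtain ⟨r, hr, hr1⟩ := (V ⊓ W).bot_or_exists_ne_one.resolve_left fun e => by
    rw [e, Subgroup.card_bot] at hq; omega
  have hstab : ∀ {g : G}, g ∈ B → cj g r ∈ V ⊓ W := fun hg =>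
    ⟨cj_mem hg.1 hr.1, cj_mem (s.borel_le hG hg).1 hr.2⟩
  have h2 : cj x⁻¹ r = cj x r := by
    rw [← hxi, ← cj_cj, ← cj_cj]
    have e1 : cj σ⁻¹ r = r := by
      conv_lhs => rw [← hfix r hr]
      rw [cj_inv_cancel]
    rw [e1, hfix _ (hstab hx)]
  have h4 : cj (x * x) r = r := by
    rw [← cj_cj, ← h2, cj_cancel_inv]
  refine hx1 ?_
  have hxx : x * x = 1 := hG.eq_one s.isP (s.V_le hr.1) hr1
    ((show Odd (orderOf x) from hxo).of_dvd_nat (by rw [← pow_two]; exact orderOf_pow_dvd 2))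
    (mul_inv_eq_iff_eq_mul.1 h4)
  calc x = x ^ orderOf x * x := by rw [pow_orderOf_eq_one, one_mul]
    _ = (x * x) * (x * x) := by rw [hord3]; simp [pow_succ, mul_assoc]
    _ = 1 := by rw [hxx, one_mul]

/-- No Sylow 2-subgroup of `G` properly contains `P` when `|R| = 4`. -/
theorem maxTwo_of_four [IsSimpleGroup G] (hG : IsCIT G)
    (s : Shape V W P) (hq : Nat.card ↥(V ⊓ W) = 4) : MaxTwo P := by
  classical
  haveI : Fact (Nat.Prime 2) := ⟨Nat.prime_two⟩
  by_contra hnm
  obtain ⟨T, hT⟩ := s.isP.exists_le_sylow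
  obtain ⟨S, σ, hS, hPS, hσS, hσn, hσP, hσ2, r₀, hr₀, hr₀σ⟩ :=
    s.exists_invol_swap hG hq (maxTwo_sylow T) (lt_of_le_of_ne hT fun e => hnm (by rw [e]; exact maxTwo_sylow T))
  obtain ⟨hVW, hWV⟩ := s.swap_of_notMem hG hS.isP hPS.le hσS hσn hσP
  have hσ1 : σ ≠ 1 := fun e => hσP (e ▸ one_mem P)
  have hσi : σ⁻¹ = σ := inv_eq_of_mul_eq_one_right hσ2
  set R := V ⊓ W with hR
  have hV16 : Nat.card V = 16 := by rw [← s.card_sq hG, hq]
  have hP64 : Nat.card P = 64 := by rw [s.card_P hG, hV16, hq]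
  have hRP : R ≤ P := inf_le_left.trans s.V_le
  have hσR : ∀ {r : G}, r ∈ R → cj σ r ∈ R := fun {r} hr =>
    ⟨hWV.le (conjSub_cj hr.2), hVW.le (conjSub_cj hr.1)⟩
  have hRc : ∀ {a b : G}, a ∈ R → b ∈ R → a * b = b * a := fun ha hb => s.comm ha.1 hb.1
  have hR2 : ∀ {a : G}, a ∈ R → a * a = 1 := fun ha => s.sq ha.1
  have hσσ : ∀ g : G, cj σ (cj σ g) = g := fun g => by rw [cj_cj, hσ2, cj_one]
  set z := cj σ r₀ * r₀ with hzdef
  have hzR : z ∈ R := R.mul_mem (hσR hr₀) hr₀
  have hz1 : z ≠ 1 := fun e => hr₀σ (by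
    rw [eq_inv_of_mul_eq_one_left e, s.inv_eq hr₀.1])
  have hzfix : cj σ z = z := by rw [hzdef, cj_mul, hσσ, hRc hr₀ (hσR hr₀)]
  have hfixR : ∀ r ∈ R, cj σ r = r → r = 1 ∨ r = z := by
    intro r hr hrf
    by_contra hno
    push Not at hno
    have hidx : ((Subgroup.zpowers z).subgroupOf R).index = 2 := by
      have h1 := Subgroup.card_mul_index ((Subgroup.zpowers z).subgroupOf R)
      rw [Nat.card_congr (Subgroup.subgroupOfEquivOfLe (Subgroup.zpowers_le.2 hzR)).toEquiv, hq,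
        Nat.card_zpowers, orderOf_eq_prime (p := 2) (by rw [pow_two]; exact hR2 hzR) hz1] at h1
      omega
    have hnz : ∀ {x : G}, x ∈ Subgroup.zpowers z → cj σ x = x := fun {x} hx => by
      obtain ⟨i, rfl⟩ := hx
      show cj σ (z ^ i) = z ^ i
      rw [cj, ← conj_zpow, show σ * z * σ⁻¹ = z from hzfix]
    have hrz : r ∉ Subgroup.zpowers z := fun hm => by
      obtain ⟨i, rfl⟩ := hm
      rcases Int.even_or_odd i with ⟨k, rfl⟩ | ⟨k, rfl⟩
      · apply hno.1
        show z ^ (k + k) = 1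
        rw [← two_mul, zpow_mul, zpow_two, hR2 hzR, one_zpow]
      · apply hno.2
        show z ^ (2 * k + 1) = z
        rw [zpow_add, zpow_mul, zpow_two, hR2 hzR, one_zpow, one_mul, zpow_one]
    have hr₀z : r₀ ∉ Subgroup.zpowers z := fun hm => hr₀σ (hnz hm)
    have h1 := hnz ((Subgroup.mul_mem_iff_of_index_two hidx (a := ⟨r, hr⟩) (b := ⟨r₀, hr₀⟩)).2
      (iff_of_false hrz hr₀z))
    change cj σ (r * r₀) = r * r₀ at h1
    rw [cj_mul, hrf] at h1
    exact hr₀σ (mul_left_cancel h1)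
  -- `S = P⟨σ⟩`
  set S₁ := P ⊔ Subgroup.zpowers σ with hS₁
  have hS₁S : S₁ ≤ S := sup_le hPS.le (Subgroup.zpowers_le.2 hσS)
  have hZn : Subgroup.zpowers σ ≤ Subgroup.normalizer (P : Set G) := Subgroup.zpowers_le.2 hσn
  have hmemS₁ : ∀ g ∈ S₁, g ∈ P ∨ g * σ ∈ P := by
    intro g hg
    have hset : ((P ⊔ Subgroup.zpowers σ : Subgroup G) : Set G) = (P : Set G) * (Subgroup.zpowers σ : Set G) :=
      Subgroup.coe_mul_of_right_le_normalizer_left _ _ hZn
    obtain ⟨p, hp, y, hy, rfl⟩ : g ∈ (P : Set G) * (Subgroup.zpowers σ : Set G) := hset ▸ hg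
    obtain ⟨i, rfl⟩ := hy
    rcases Int.even_or_odd i with ⟨k, rfl⟩ | ⟨k, rfl⟩
    · left
      show p * σ ^ (k + k) ∈ P
      rwa [← two_mul, zpow_mul, zpow_two, hσ2, one_zpow, mul_one]
    · right
      show p * σ ^ (2 * k + 1) * σ ∈ P
      rwa [zpow_add, zpow_mul, zpow_two, hσ2, one_zpow, one_mul, zpow_one, mul_assoc, hσ2, mul_one]
  have hPS₁ : Nat.card S₁ = 2 * Nat.card P := by
    have h1 := OffenderComp.Aux.card_sup_inf hZn
    rw [sup_comm, ← hS₁, show Subgroup.zpowers σ ⊓ P = ⊥ by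
      rw [Subgroup.eq_bot_iff_forall]
      rintro y ⟨⟨i, rfl⟩, hyP⟩
      rcases Int.even_or_odd i with ⟨k, rfl⟩ | ⟨k, rfl⟩
      · show σ ^ (k + k) = 1
        rw [← two_mul, zpow_mul, zpow_two, hσ2, one_zpow]
      · exfalso
        apply hσP
        have h2 : σ ^ (2 * k + 1) ∈ P := hyP
        rwa [zpow_add, zpow_mul, zpow_two, hσ2, one_zpow, one_mul, zpow_one] at h2,
      Subgroup.card_bot, mul_one, Nat.card_zpowers,
      orderOf_eq_prime (p := 2) (by rw [pow_two]; exact hσ2) hσ1] at h1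
    exact h1
  have hnormS₁ : ∀ g ∈ S, g ∈ Subgroup.normalizer (P : Set G) → g ∈ S₁ := by
    intro g hg hgn
    by_cases hgP : g ∈ P
    · exact Subgroup.mem_sup_left hgP
    obtain ⟨hgV, -⟩ := s.swap_of_notMem hG hS.isP hPS.le hg hgn hgP
    have hgσ : g * σ ∈ P := by
      have hY : IsPGroup 2 ↥(P ⊔ Subgroup.zpowers (g * σ)) :=
        hS.isP.to_le (sup_le hPS.le (Subgroup.zpowers_le.2 (S.mul_mem hg hσS)))
      refine (s.eq_of_le_normalizer hY le_sup_left (sup_le s.le_normalizerV (Subgroup.zpowers_le.2 ?_))).le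
        (Subgroup.mem_sup_right (Subgroup.mem_zpowers _))
      rw [mem_normalizer_iff_map, ← conj_map_map, hVW]
      exact (s.swap_of_notMem hG hS.isP hPS.le hg hgn hgP).2
    have e : g = g * σ * σ := by rw [mul_assoc, hσ2, mul_one]
    rw [e]
    exact S₁.mul_mem (Subgroup.mem_sup_left hgσ) (Subgroup.mem_sup_right (Subgroup.mem_zpowers σ))
  haveI : Group.IsNilpotent S := hS.isP.isNilpotent
  have hSS₁ : S = S₁ := by
    by_contra hne
    obtain ⟨t, ⟨htS, htn⟩, htS₁⟩ := SetLike.exists_of_lt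
      (Involutions.StronglyEmbedded.lt_inf_normalizer (lt_of_le_of_ne hS₁S (Ne.symm hne)))
    refine htS₁ (hnormS₁ t htS ?_)
    rw [mem_normalizer_iff_map]
    have key : ∀ A B : Subgroup G, Shape A B P → A ^ᶜ σ = B → A ^ᶜ t ≤ P := by
      intro A B u hAB
      have hA16 : Nat.card A = 16 := by
        rw [← u.card_sq hG]
        have h1 : Nat.card ↥(A ⊓ B) = Nat.card R := by
          rw [← u.center, hR, ← s.center]
        rw [h1, hq]
      set E := A ^ᶜ t with hE
      have hES : E ≤ S₁ :=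
        (Subgroup.map_mono (u.V_le.trans le_sup_left)).trans (conj_map_eq_self htn).le
      have hEcard : Nat.card E = 16 := by
        rw [hE, Subgroup.card_map_of_injective (MulAut.conj t).injective, hA16]
      have hEsq : ∀ e ∈ E, e * e = 1 := by
        rintro _ ⟨y, hy, rfl⟩
        rw [← map_mul, u.sq hy, map_one]
      have hEc : ∀ {a b : G}, a ∈ E → b ∈ E → a * b = b * a := by
        rintro _ _ ⟨a, ha, rfl⟩ ⟨b, hb, rfl⟩
        rw [← map_mul, ← map_mul, u.comm ha hb]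
      intro e he
      by_contra heP
      -- a large part of `E` lies in `P`, and is moved by `e` into the other side
      have hsup : Nat.card ↥(E ⊔ P) ≤ Nat.card S₁ := Subgroup.card_le_of_le (sup_le hES le_sup_left)
      have hEn : E ≤ Subgroup.normalizer (P : Set G) :=
        hES.trans (sup_le Subgroup.le_normalizer hZn)
      have h1 := OffenderComp.Aux.card_sup_inf hEn
      rw [hEcard] at h1
      have h8 : 8 ≤ Nat.card ↥(E ⊓ P) := by
        rw [hPS₁] at hsup
        rw [hP64] at h1 hsup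
        by_contra hlt
        have := Nat.mul_le_mul hsup (show Nat.card ↥(E ⊓ P) ≤ 7 by omega)
        omega
      obtain ⟨y, hy, hyR⟩ : ∃ y ∈ E ⊓ P, y ∉ R := by
        by_contra hno
        push Not at hno
        have := Subgroup.card_le_of_le (show E ⊓ P ≤ R from hno)
        omega
      obtain ⟨hAe, hBe⟩ := u.swap_of_notMem hG hS.isP hPS.le (hS₁S (hES he)) (hEn he) heP
      have hye : cj e y = y := cj_eq_self (hEc he hy.1)
      apply hyR
      have hAB' : A ⊓ B = R := by rw [← u.center, hR, ← s.center]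
      rw [← hAB']
      rcases u.mem_or_mem hG hy.2 (hEsq y hy.1) with h | h
      · exact ⟨h, hye ▸ hAe.le (conjSub_cj h)⟩
      · exact ⟨hye ▸ hBe.le (conjSub_cj h), h⟩
    refine Subgroup.eq_of_le_of_card_ge ?_ (Subgroup.card_map_of_injective (MulAut.conj t).injective).ge
    conv_lhs => rw [← s.sup_eq]
    rw [Subgroup.map_sup]
    exact sup_le (key V W s hVW) (key W V s.symm hWV)
  rw [hSS₁] at hS
  have hzS : ∀ g ∈ S₁, g * z = z * g := by
    intro g hg
    rcases hmemS₁ g hg with h | h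
    · exact s.comm_inf hzR h
    · have e : g = g * σ * σ := by rw [mul_assoc, hσ2, mul_one]
      have hσz : σ * z = z * σ := mul_inv_eq_iff_eq_mul.1 hzfix
      rw [e, mul_assoc _ σ z, hσz, ← mul_assoc, s.comm_inf hzR h, mul_assoc]
  have hCz : Subgroup.centralizer ({z} : Set G) = S₁ :=
    hS.max _ (hG.isPGroup_centralizer s.isP (hRP hzR) hz1) fun g hg => mem_centralizer_singleton' (hzS g hg)
  -- the centraliser of `σ`
  set C := Subgroup.centralizer ({σ} : Set G) with hC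
  have hC2 : IsPGroup 2 C := hG.isPGroup_centralizer hS.isP (Subgroup.mem_sup_right (Subgroup.mem_zpowers σ)) hσ1
  obtain ⟨v, hv, hvW⟩ := SetLike.not_le_iff_exists.1 (s.symm.not_W_le hG)
  set w := cj σ v with hw
  have hwW : w ∈ W := hVW.le (conjSub_cj hv)
  have hvR : v ∉ R := fun h => hvW h.2
  have hwR : w ∉ R := fun h => hvR (by have := hσR h; rwa [hw, hσσ] at this)
  have hvwP : v * w ∈ P := P.mul_mem (s.V_le hv) (s.W_le hwW)
  have hne : v * w * (v * w) ≠ 1 := fun e => by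
    rcases s.mem_or_mem hG hvwP e with h | h
    · exact hwR ⟨(V.mul_mem_cancel_left hv).1 h, hwW⟩
    · exact hvW ((W.mul_mem_cancel_right hwW).1 h)
  have hsqR : ∀ p ∈ P, p * p ∈ R := fun p hp => by
    refine Subgroup.mem_inf.2 ⟨?_, ?_⟩
    · have := s.ffV.off.sq p hp; rwa [s.qV] at this
    · have := s.ffW.off.sq p hp; rwa [s.qW] at this
  have hσvw : cj σ (v * w) = w * v := by rw [cj_mul, hw, hσσ]
  have hwv : w * v = (v * w)⁻¹ := by rw [mul_inv_rev, s.inv_eq hv, s.symm.inv_eq hwW]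
  have hsq : v * w * (v * w) = z := by
    refine (hfixR _ (hsqR _ hvwP) ?_).resolve_left hne
    rw [cj_mul, hσvw, hwv, ← mul_inv_rev, s.inv_eq (hsqR _ hvwP).1]
  set u := v * w * r₀ with hu
  have hr₀c : ∀ {p : G}, p ∈ P → p * r₀ = r₀ * p := fun hp => s.comm_inf hr₀ hp
  have huP : u ∈ P := P.mul_mem hvwP (hRP hr₀)
  have huσ : u * σ = σ * u := by
    have h1 : cj σ u = u := by
      have e1 : cj σ r₀ = z * r₀ := by rw [hzdef, mul_assoc, hR2 hr₀, mul_one]
      rw [hu, cj_mul, hσvw, hwv, e1, ← hsq]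
      group
    exact (mul_inv_eq_iff_eq_mul.1 h1).symm
  have huu : u * u = z := by
    calc u * u = v * w * (r₀ * (v * w)) * r₀ := by rw [hu]; group
      _ = v * w * (v * w) * (r₀ * r₀) := by rw [← hr₀c hvwP]; group
      _ = z := by rw [hR2 hr₀, mul_one, hsq]
  -- squares in `C ∩ S`
  have hsqC : ∀ g ∈ C ⊓ S₁, g * g = 1 ∨ g * g = z := by
    intro g hg
    have hgc : g * σ = σ * g := Subgroup.mem_centralizer_singleton_iff.1 hg.1
    obtain ⟨p, hp, hpc, he⟩ : ∃ p ∈ P, p * σ = σ * p ∧ g * g = p * p := by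
      rcases hmemS₁ g hg.2 with h | h
      · exact ⟨g, h, hgc, rfl⟩
      · refine ⟨g * σ, h, ?_, ?_⟩
        · calc g * σ * σ = σ * g * σ := by rw [hgc]
            _ = σ * (g * σ) := mul_assoc _ _ _
        · calc g * g = g * g * (σ * σ) := by rw [hσ2, mul_one]
            _ = g * (g * σ) * σ := by group
            _ = g * (σ * g) * σ := by rw [hgc]
            _ = g * σ * (g * σ) := by group
    rw [he]
    refine hfixR _ (hsqR p hp) ?_
    rw [cj_mul, cj_eq_self hpc.symm]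
  have hCS : C ≤ S₁ := by
    by_contra hle
    haveI : Group.IsNilpotent C := hC2.isNilpotent
    have hlt : C ⊓ S₁ < C := lt_of_le_of_ne inf_le_left fun e => hle (e ▸ inf_le_right)
    obtain ⟨g, ⟨hgC, hgn⟩, hg⟩ :=
      SetLike.exists_of_lt (Involutions.StronglyEmbedded.lt_inf_normalizer hlt)
    refine hg (Subgroup.mem_inf.2 ⟨hgC, ?_⟩)
    rw [← hCz]
    refine mem_centralizer_singleton' (mul_inv_eq_iff_eq_mul.1 ?_)
    have hgu : g * u * g⁻¹ ∈ C ⊓ S₁ := (Subgroup.mem_normalizer_iff.1 hgn u).1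
      ⟨mem_centralizer_singleton' huσ, Subgroup.mem_sup_left huP⟩
    rcases hsqC _ hgu with e | e
    · exact absurd (conj_eq_one_iff.1 (show g * (u * u) * g⁻¹ = 1 by rw [← e]; group)) (huu.symm ▸ hz1)
    · rw [← huu]
      calc g * (u * u) * g⁻¹ = g * u * g⁻¹ * (g * u * g⁻¹) := by group
        _ = u * u := by rw [e, huu]
  have hCP : Nat.card ↥(C ⊓ P) ≤ 8 := by
    have hPn : C ⊓ P ≤ Subgroup.normalizer (V : Set G) := inf_le_right.trans s.le_normalizerV
    have h1 := OffenderComp.Aux.card_sup_inf hPn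
    have h2 := Subgroup.card_le_of_le (sup_le (inf_le_right : C ⊓ P ≤ P) s.V_le)
    have h3 : Nat.card ↥(C ⊓ P ⊓ V) ≤ 2 := by
      refine (Subgroup.card_le_of_le (show C ⊓ P ⊓ V ≤ Subgroup.zpowers z from ?_)).trans ?_
      · intro y hy
        have hyσ : cj σ y = y := cj_eq_self (Subgroup.mem_centralizer_singleton_iff.1 hy.1.1).symm
        rcases hfixR y ⟨hy.2, hyσ ▸ hVW.le (conjSub_cj hy.2)⟩ hyσ with e | e <;> rw [e]
        exacts [one_mem _, Subgroup.mem_zpowers z]
      · rw [Nat.card_zpowers, orderOf_eq_prime (p := 2) (by rw [pow_two]; exact hR2 hzR) hz1]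
    rw [hV16] at h1
    rw [hP64] at h2
    have := Nat.mul_le_mul h2 h3
    omega
  have hCcard : Nat.card C ≤ 16 := by
    have hCn : C ≤ Subgroup.normalizer (P : Set G) := hCS.trans (sup_le Subgroup.le_normalizer hZn)
    have h1 := OffenderComp.Aux.card_sup_inf hCn
    have h2 := Subgroup.card_le_of_le (sup_le hCS (le_sup_left : P ≤ S₁))
    rw [hPS₁] at h2
    have h3 := Nat.mul_le_mul h2 hCP
    rw [hP64] at h1 h3
    omega
  -- transfer
  have hidx : ∀ N : Subgroup G, N.index ≠ 2 := by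
    intro N hN
    rcases (Subgroup.normal_of_index_eq_two hN).eq_bot_or_eq_top with e | e
    · rw [e, Subgroup.index_bot] at hN
      have h1 := Subgroup.card_le_card_group P
      omega
    · rw [e, Subgroup.index_top] at hN; omega
  let T' : Sylow 2 G := ⟨S₁, hS.isP, fun hY hle => hS.max _ hY hle⟩
  have hrel : P.relIndex S₁ = 2 := by
    have h1 := Subgroup.card_mul_index (P.subgroupOf S₁)
    rw [Nat.card_congr (Subgroup.subgroupOfEquivOfLe (le_sup_left : P ≤ S₁)).toEquiv, hPS₁] at h1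
    exact Nat.eq_of_mul_eq_mul_left Nat.card_pos (h1.trans (mul_comm _ _))
  obtain ⟨g, hg⟩ := Fusion.Thompson.exists_conj_mem_maximal T' P le_sup_left hrel hidx σ
    (orderOf_eq_prime (by rw [pow_two]; exact hσ2) hσ1)
  set y := g * σ * g⁻¹ with hy
  set Cy := Subgroup.centralizer ({y} : Set G) with hCy
  have hCymap : C ^ᶜ g = Cy := by
    rw [hC, hCy, ← Subgroup.centralizer_closure, ← Subgroup.centralizer_closure ({y} : Set G),
      centralizer_map_equiv, MonoidHom.map_closure, Set.image_singleton]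
    rfl
  have hCycard : Nat.card Cy ≤ 16 := by
    rw [← hCymap, Subgroup.card_map_of_injective (MulAut.conj g).injective]; exact hCcard
  have hy2 : y * y = 1 := by rw [hy, show g * σ * g⁻¹ * (g * σ * g⁻¹) = g * (σ * σ) * g⁻¹ by group, hσ2]; group
  have final : ∀ A B : Subgroup G, Shape A B P → y ∈ A → False := by
    intro A B t hyA
    have hA16 : Nat.card A = 16 := by
      rw [← t.card_sq hG]
      have h1 : Nat.card ↥(A ⊓ B) = Nat.card R := by rw [← t.center, hR, ← s.center]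
      rw [h1, hq]
    have hAC : A ≤ Cy := fun a ha => mem_centralizer_singleton' (t.comm ha hyA)
    have hAe : A = Cy := Subgroup.eq_of_le_of_card_ge hAC (by rw [hA16]; exact hCycard)
    have hgu : g * u * g⁻¹ ∈ A := by
      rw [hAe, ← hCymap]; exact ⟨u, mem_centralizer_singleton' huσ, rfl⟩
    have h1 := t.sq hgu
    rw [show g * u * g⁻¹ * (g * u * g⁻¹) = g * (u * u) * g⁻¹ by group, huu] at h1
    exact hz1 (conj_eq_one_iff.1 h1)
  rcases s.mem_or_mem hG hg hy2 with h | h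
  exacts [final V W s h, final W V s.symm h]

end Shape

end Cfsg.Agent.Lib.CIT
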