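import Cfsg.Agent.Lib.CIT.Small
import Cfsg.Agent.Lib.CIT.Exists
import Cfsg.Agent.Lib.BSWRecog.Main
import Cfsg.Agent.Lib.BSWRecog.Dihedral
import Cfsg.Agent.Lib.HalfTransitive.MaxClass
import Cfsg.Agent.Lib.PGroups.Recognition
import Cfsg.Agent.Lib.Linear.Order
import Mathlib.GroupTheory.Focal

/-!
# The case `|R| = 2`: dihedral Sylow 2-subgroups

Owner: helper2.
-/

set_option autoImplicit false
set_option linter.style.haveILetI false
set_option linter.unusedSectionVars false

open Cfsg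

namespace Cfsg.Agent.Lib.CIT

open scoped Pointwise commutatorElement
open Cfsg.Agent.Lib.CosetGraph.SylowIn

/-- An odd prime power next to a power of two is `9` or a prime. -/
theorem prime_or_nine {p e m : ℕ} (hp : p.Prime) (hodd : Odd p) (he : 0 < e)
    (h : p ^ e = 2 ^ m + 1 ∨ p ^ e + 1 = 2 ^ m) : (p ^ e).Prime ∨ p ^ e = 9 := by
  have hp3 : 3 ≤ p := by
    have := hp.two_le
    obtain ⟨r, hr⟩ := hodd
    omega
  rcases Nat.even_or_odd e with ⟨k, hk⟩ | hek
  · right
    obtain ⟨x, hx⟩ : ∃ x, p ^ k = x := ⟨_, rfl⟩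
    have hq : p ^ e = x * x := by rw [hk, pow_add, hx]
    have hx3 : 3 ≤ x := hx ▸ hp3.trans (Nat.le_self_pow (by omega) p)
    obtain ⟨y, hy⟩ : Odd x := hx ▸ hodd.pow
    rw [hq] at h ⊢
    rcases h with h | h
    · have h1 : (2 * y) * (2 * y + 2) = 2 ^ m := by
        have e1 : x * x = (2 * y) * (2 * y + 2) + 1 := by rw [hy]; ring
        omega
      obtain ⟨a, -, ha⟩ := (Nat.dvd_prime_pow Nat.prime_two).1 ⟨_, h1.symm⟩
      obtain ⟨b, -, hb⟩ := (Nat.dvd_prime_pow Nat.prime_two).1 ⟨_, h1.symm.trans (mul_comm _ _)⟩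
      have hb2 : 2 ^ b = 2 ^ a + 2 := by omega
      have ha1 : a = 1 := by
        rcases a with _ | _ | a
        · simp at ha
        · rfl
        · exfalso
          have : 2 ^ (a + 1 + 1) = 4 * 2 ^ a := by ring
          rcases b with _ | _ | b
          · simp at hb2
          · have := Nat.two_pow_pos a
            omega
          · have : 2 ^ (b + 1 + 1) = 4 * 2 ^ b := by ring
            omega
      subst ha1
      have : x = 3 := by omega
      subst this; rfl
    · exfalso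
      rcases m with _ | _ | m
      · simp at h; omega
      · simp at h; nlinarith
      · have e1 : x * x = 4 * (y * y + y) + 1 := by rw [hy]; ring
        have e2 : 2 ^ (m + 1 + 1) = 4 * 2 ^ m := by ring
        omega
  · left
    rcases Nat.lt_or_ge e 2 with he2 | he2
    · rw [show e = 1 by omega, pow_one]; exact hp
    exfalso
    rcases h with h | h
    · -- `p - 1` times an odd factor
      have hg := geom_sum_mul_of_one_le (x := p) (by omega) e
      have hS : Odd (∑ i ∈ Finset.range e, p ^ i) := by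
        rw [Finset.odd_sum_iff_odd_card_odd]
        rw [Finset.filter_true_of_mem fun i _ => hodd.pow]
        simpa using hek
      have hdvd : (∑ i ∈ Finset.range e, p ^ i) ∣ 2 ^ m := ⟨p - 1, by rw [hg, h, Nat.add_sub_cancel]⟩
      obtain ⟨a, -, ha⟩ := (Nat.dvd_prime_pow Nat.prime_two).1 hdvd
      rcases a with _ | a
      · rw [pow_zero] at ha
        rw [ha, one_mul] at hg
        have h1 : p ^ 2 ≤ p ^ e := Nat.pow_le_pow_right (by omega) he2
        have h0 : 0 < p ^ e := pow_pos (by omega) e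
        have h3 : p ^ e = p := by omega
        rw [h3] at h1
        nlinarith
      · rw [ha, pow_succ] at hS
        exact (Nat.not_odd_iff_even.2 (even_two.mul_left _)) hS
    · obtain ⟨t, rfl⟩ := hek
      have key : ∀ n : ℕ, ∃ S : ℤ, Odd S ∧ ((p : ℤ) ^ (2 * n + 1) + 1) = ((p : ℤ) + 1) * S := by
        intro n
        induction n with
        | zero => exact ⟨1, odd_one, by ring⟩
        | succ n ih =>
          obtain ⟨S, hS, hSe⟩ := ih
          refine ⟨S + (p : ℤ) ^ (2 * n + 1) * ((p : ℤ) - 1), hS.add_even ?_, ?_⟩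
          · exact (Int.even_sub_one.2 (Int.not_even_iff_odd.2 ((Int.odd_coe_nat p).2 hodd))).mul_left _
          · have e1 : (p : ℤ) ^ (2 * (n + 1) + 1) + 1 = ((p : ℤ) ^ (2 * n + 1) + 1) +
                ((p : ℤ) + 1) * ((p : ℤ) ^ (2 * n + 1) * ((p : ℤ) - 1)) := by ring
            rw [e1, hSe]; ring
      obtain ⟨S, hS, hSe⟩ := key t
      have h2 : ((p : ℤ) + 1) * S = ((2 ^ m : ℕ) : ℤ) := by
        rw [← hSe, ← h]; push_cast; ring
      have hSd : S.natAbs ∣ 2 ^ m := Int.natCast_dvd_natCast.1 (Int.natAbs_dvd.2 ⟨_, by rw [← h2, mul_comm]⟩)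
      obtain ⟨a, -, ha⟩ := (Nat.dvd_prime_pow Nat.prime_two).1 hSd
      rcases a with _ | a
      · have h3 : S = 1 ∨ S = -1 := Int.natAbs_eq_iff.1 ha
        have hp2 : p ^ 1 < p ^ (2 * t + 1) := Nat.pow_lt_pow_right (by omega) (by omega)
        rw [pow_one] at hp2
        have hp1 : (p : ℤ) < (p : ℤ) ^ (2 * t + 1) := by exact_mod_cast hp2
        rcases h3 with rfl | rfl <;> linarith
      · have h4 := Int.natAbs_odd.2 hS
        rw [ha, pow_succ] at h4
        exact (Nat.not_odd_iff_even.2 (even_two.mul_left _)) h4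

variable {G : Type*} [Group G] [Finite G]

theorem mem_zpowers_invol {z x : G} (hz : z * z = 1) (hx : x ∈ Subgroup.zpowers z) :
    x = 1 ∨ x = z := by
  obtain ⟨i, rfl⟩ := hx
  rcases Int.even_or_odd i with ⟨k, rfl⟩ | ⟨k, rfl⟩
  · left; show z ^ (k + k) = 1; rw [← two_mul, zpow_mul, zpow_two, hz, one_zpow]
  · right; show z ^ (2 * k + 1) = z; rw [zpow_add, zpow_mul, zpow_two, hz, one_zpow, one_mul, zpow_one]

/-- A 2-group around a self-centralising four-group. -/
structure DihData (S : Subgroup G) (z v a : G) (n : ℕ) : Prop where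
  hn : 1 ≤ n
  max : MaxTwo S
  ha : orderOf a = 2 ^ (n + 1)
  haS : a ∈ S
  hvS : v ∈ S
  hv : v * v = 1
  hva : v ∉ Subgroup.zpowers a
  inv : v * a * v⁻¹ = a⁻¹
  card : Nat.card S = 2 ^ (n + 2)
  cases' : ∀ g ∈ S, g ∈ Subgroup.zpowers a ∨ g * v ∈ Subgroup.zpowers a
  hz : z = a ^ 2 ^ n

variable {V W P : Subgroup G}

theorem Shape.exists_dihedral [IsSimpleGroup G] (hG : IsCIT G) (hna : ∃ a b : G, a * b ≠ b * a)
    (s : Shape V W P) (hq : Nat.card ↥(V ⊓ W) = 2) :
    ∃ (S : Subgroup G) (z v a : G) (n : ℕ), DihData S z v a n ∧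
      (∀ g : G, g * z = z * g ↔ g ∈ S) := by
  classical
  haveI : Fact (Nat.Prime 2) := ⟨Nat.prime_two⟩
  have hV4 : Nat.card V = 4 := by rw [← s.card_sq hG, hq]
  have hP8 : Nat.card P = 8 := by rw [s.card_P hG, hV4, hq]
  obtain ⟨z, hzR, hz1⟩ := (V ⊓ W).bot_or_exists_ne_one.resolve_left fun e => by
    rw [e, Subgroup.card_bot] at hq; omega
  have hzz : z * z = 1 := s.sq hzR.1
  have hRe : Subgroup.zpowers z = V ⊓ W := by
    refine Subgroup.eq_of_le_of_card_ge (Subgroup.zpowers_le.2 hzR) ?_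
    rw [hq, Nat.card_zpowers, orderOf_eq_prime (p := 2) (by rw [pow_two]; exact hzz) hz1]
  have hR : ∀ x ∈ V ⊓ W, x = 1 ∨ x = z := fun x hx => mem_zpowers_invol hzz (hRe.symm ▸ hx)
  obtain ⟨v, hv, hvW⟩ := SetLike.not_le_iff_exists.1 (s.symm.not_W_le hG)
  obtain ⟨w, hw, hwV⟩ := SetLike.not_le_iff_exists.1 (s.not_W_le hG)
  have hvv := s.sq hv
  have hww := s.symm.sq hw
  have hvwP : v * w ∈ P := P.mul_mem (s.V_le hv) (s.W_le hw)
  have ha2 : v * w * (v * w) ≠ 1 := fun e => by
    rcases s.mem_or_mem hG hvwP e with h | h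
    · exact hwV ((V.mul_mem_cancel_left hv).1 h)
    · exact hvW ((W.mul_mem_cancel_right hw).1 h)
  have hsqz : v * w * (v * w) = z := by
    have h1 : v * w * (v * w) ∈ V := by
      have := s.ffV.off.sq _ hvwP
      rwa [s.qV] at this
    have h2 : v * w * (v * w) ∈ W := by
      have := s.ffW.off.sq _ hvwP
      rwa [s.qW] at this
    exact (hR _ ⟨h1, h2⟩).resolve_left ha2
  obtain ⟨T, hT⟩ := s.isP.exists_le_sylow
  set S := (T : Subgroup G) with hSdef
  have hSmax : MaxTwo S := maxTwo_sylow T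
  have hCV : ∀ g : G, (∀ x ∈ V, x * g = g * x) → g ∈ V := fun g hg =>
    s.centralizer_le hG (Subgroup.mem_centralizer_iff.2 hg)
  have hCW : ∀ g : G, (∀ x ∈ W, x * g = g * x) → g ∈ W := fun g hg =>
    s.symm.centralizer_le hG (Subgroup.mem_centralizer_iff.2 hg)
  have hzent : ∀ y : G, y ≠ 1 → (∀ x ∈ S, x * y = y * x) → y = z := fun y hy hc =>
    (hR y ⟨hCV y fun x hx => hc x (hT (s.V_le hx)), hCW y fun x hx => hc x (hT (s.W_le hx))⟩).resolve_left hy
  have finish : ∀ a : G, ∀ n : ℕ, 1 ≤ n → orderOf a = 2 ^ (n + 1) → a ∈ S → v ∉ Subgroup.zpowers a →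
      v * a * v⁻¹ = a⁻¹ → Nat.card S = 2 ^ (n + 2) →
      (∀ g ∈ S, g ∈ Subgroup.zpowers a ∨ g * v ∈ Subgroup.zpowers a) →
      ∃ (S : Subgroup G) (z v a : G) (n : ℕ), DihData S z v a n ∧
        (∀ g : G, g * z = z * g ↔ g ∈ S) := by
    intro a n hn ha haS hva hinv hcard hcases
    have hzS : ∀ x ∈ S, x * a ^ 2 ^ n = a ^ 2 ^ n * x := by
      have h2 : a ^ 2 ^ n * a ^ 2 ^ n = 1 := by
        rw [← pow_add, ← two_mul, ← pow_succ', ← ha, pow_orderOf_eq_one]
      have hvc : v * a ^ 2 ^ n = a ^ 2 ^ n * v := by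
        have e : v * a ^ 2 ^ n * v⁻¹ = a ^ 2 ^ n := by
          rw [← conj_pow, hinv, inv_pow, inv_eq_of_mul_eq_one_right h2]
        exact mul_inv_eq_iff_eq_mul.1 e
      intro x hx
      rcases hcases x hx with h | h
      · obtain ⟨i, rfl⟩ := h
        exact ((Commute.refl a).zpow_left i).pow_right _ |>.eq
      · obtain ⟨i, hi⟩ := h
        have hx' : x = a ^ i * v := by
          rw [show a ^ i = x * v from hi, mul_assoc, hvv, mul_one]
        rw [hx', mul_assoc, hvc, ← mul_assoc, (((Commute.refl a).zpow_left i).pow_right _).eq, mul_assoc]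
    have hze : a ^ 2 ^ n = z := hzent _ (fun e => by
      have h1 := Nat.le_of_dvd (by positivity) (orderOf_dvd_of_pow_eq_one e)
      rw [ha, pow_succ] at h1
      have := Nat.two_pow_pos n
      omega) hzS
    refine ⟨S, z, v, a, n, ⟨hn, hSmax, ha, haS, hT (s.V_le hv), hvv, hva, hinv, hcard, hcases, hze.symm⟩,
      fun g => ⟨fun h => ?_, fun h => hze ▸ hzS g h⟩⟩
    have hC := hG.isPGroup_centralizer s.isP (s.V_le hzR.1) hz1
    have h1 := hSmax.max _ hC fun x hx => mem_centralizer_singleton' (hze ▸ hzS x hx)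
    rw [← h1]
    exact mem_centralizer_singleton' h
  by_cases hPS : S = P
  · have ha4 : orderOf (v * w) = 2 ^ (1 + 1) := by
      refine orderOf_eq_prime_pow (p := 2) (n := 1) ?_ ?_
      · rw [pow_one, pow_two]; exact ha2
      · rw [show 2 ^ (1 + 1) = 2 + 2 from rfl, pow_add, pow_two, hsqz, s.sq hzR.1]
    have hva : v ∉ Subgroup.zpowers (v * w) := by
      intro hm
      obtain ⟨i, hi⟩ := hm
      have hc : v * (v * w) = v * w * v := by
        have := ((Commute.refl (v * w)).zpow_left i).eq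
        rw [show (v * w) ^ i = v from hi] at this
        exact this
      have hvwc : v * w = w * v := by
        rw [mul_assoc v w v] at hc
        exact mul_left_cancel hc
      apply ha2
      calc v * w * (v * w) = v * w * (w * v) := by rw [← hvwc]
        _ = v * (w * w) * v := by group
        _ = 1 := by rw [hww, mul_one, hvv]
    have hinv : v * (v * w) * v⁻¹ = (v * w)⁻¹ := by
      rw [mul_inv_rev, s.inv_eq hv, s.symm.inv_eq hw, ← mul_assoc, hvv, one_mul]
    refine finish (v * w) 1 le_rfl ha4 (hPS.symm ▸ hvwP) hva hinv (by rw [hPS, hP8]; norm_num) ?_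
    intro g hg
    rw [hPS] at hg
    have hidx : ((Subgroup.zpowers (v * w)).subgroupOf P).index = 2 := by
      have h1 := Subgroup.card_mul_index ((Subgroup.zpowers (v * w)).subgroupOf P)
      rw [Nat.card_congr (Subgroup.subgroupOfEquivOfLe (Subgroup.zpowers_le.2 hvwP)).toEquiv,
        Nat.card_zpowers, ha4, hP8] at h1
      norm_num at h1
      omega
    by_cases hga : g ∈ Subgroup.zpowers (v * w)
    · exact Or.inl hga
    · exact Or.inr ((Subgroup.mul_mem_iff_of_index_two hidx (a := ⟨g, hg⟩) (b := ⟨v, s.V_le hv⟩)).2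
        (iff_of_false hga hva))
  -- a larger Sylow subgroup: maximal class
  have hzZ : ∀ E : Subgroup G, E ≤ S → E ≠ ⊥ → S ≤ Subgroup.normalizer (E : Set G) → z ∈ E := by
    intro E hES hE hEn
    haveI : Nontrivial E := (Subgroup.nontrivial_iff_ne_bot _).2 hE
    letI : MulAction S E :=
      { smul := fun d x => ⟨(d : G) * x * (d : G)⁻¹, (Subgroup.mem_normalizer_iff.1 (hEn d.2) _).1 x.2⟩
        one_smul := fun x => Subtype.ext (show (1 : G) * x * (1 : G)⁻¹ = x by simp)
        mul_smul := fun a b x => Subtype.ext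
          (show ((a : G) * b) * x * ((a : G) * b)⁻¹ = (a : G) * ((b : G) * x * (b : G)⁻¹) * (a : G)⁻¹ by
            group) }
    obtain ⟨n, hn, hcard⟩ := (hSmax.isP.to_le hES).nontrivial_iff_card.mp ‹_›
    have h1 : (1 : E) ∈ MulAction.fixedPoints S E := fun d =>
      Subtype.ext (show (d : G) * (1 : G) * (d : G)⁻¹ = 1 by simp)
    obtain ⟨y, hy, hy1⟩ := hSmax.isP.exists_fixed_point_of_prime_dvd_card_of_fixed_point E
      (hcard ▸ dvd_pow_self 2 (by omega)) h1
    have := hzent y (fun e => hy1 (Subtype.ext e).symm) fun x hx => by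
      have e : x * (y : G) * x⁻¹ = y := congrArg Subtype.val (hy ⟨x, hx⟩)
      exact mul_inv_eq_iff_eq_mul.1 e
    exact this ▸ y.2
  have hno : ¬ ∃ E : Subgroup ↥S, E.Normal ∧ Cfsg.IsElementaryAbelian 2 E ∧ Nat.card E = 2 ^ 2 := by
    rintro ⟨E₀, hEn, hEe, hEc⟩
    set E := E₀.map S.subtype with hE
    have hES : E ≤ S := Subgroup.map_subtype_le _
    have hEcard : Nat.card E = 4 := by
      rw [hE, Subgroup.card_map_of_injective S.subtype_injective, hEc]; norm_num
    have hEnorm : S ≤ Subgroup.normalizer (E : Set G) := le_normalizer_map_subtype S E₀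
    have hEsq : ∀ e ∈ E, e * e = 1 := by
      rintro _ ⟨x, hx, rfl⟩
      rw [← map_mul, ← pow_two, hEe.2 x hx, map_one]
    have hzE := hzZ E hES (fun e => by rw [e, Subgroup.card_bot] at hEcard; omega) hEnorm
    have hidx : ((Subgroup.zpowers z).subgroupOf E).index = 2 := by
      have h1 := Subgroup.card_mul_index ((Subgroup.zpowers z).subgroupOf E)
      rw [Nat.card_congr (Subgroup.subgroupOfEquivOfLe (Subgroup.zpowers_le.2 hzE)).toEquiv, hEcard,
        Nat.card_zpowers, orderOf_eq_prime (p := 2) (by rw [pow_two]; exact hzz) hz1] at h1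
      omega
    have hEV : E ≤ Subgroup.normalizer (V : Set G) := by
      have key : ∀ f ∈ E, ∀ x ∈ V, f * x * f⁻¹ ∈ V := by
        intro f hf x hx
        by_cases hfz : f ∈ Subgroup.zpowers z
        · have hfV : f ∈ V := Subgroup.zpowers_le.2 hzR.1 hfz
          exact V.mul_mem (V.mul_mem hfV hx) (V.inv_mem hfV)
        have hd : x * f * x⁻¹ ∈ E := (Subgroup.mem_normalizer_iff.1 (hEnorm (hT (s.V_le hx))) f).1 hf
        have hdz : x * f * x⁻¹ ∉ Subgroup.zpowers z := fun h => hfz <| by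
          have hdV : x * f * x⁻¹ ∈ V := Subgroup.zpowers_le.2 hzR.1 h
          rwa [s.comm hx ((V.mul_mem_cancel_left hx).1
            ((V.mul_mem_cancel_right (V.inv_mem hx)).1 hdV)), mul_inv_cancel_right] at h
        have hr : x * f * x⁻¹ * f ∈ Subgroup.zpowers z :=
          (Subgroup.mul_mem_iff_of_index_two hidx (a := ⟨_, hd⟩) (b := ⟨f, hf⟩)).2 (iff_of_false hdz hfz)
        have e : f * x * f⁻¹ = x * (x * f * x⁻¹ * f) := by
          rw [inv_eq_of_mul_eq_one_right (hEsq f hf), s.inv_eq hx, ← mul_assoc, ← mul_assoc, ← mul_assoc,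
            s.sq hx, one_mul]
        rw [e]
        exact V.mul_mem hx (Subgroup.zpowers_le.2 hzR.1 hr)
      intro e he
      rw [Subgroup.mem_normalizer_iff]
      refine fun x => ⟨fun hx => key e he x hx, fun hx => ?_⟩
      have := key e⁻¹ (inv_mem he) _ hx
      rwa [show e⁻¹ * (e * x * e⁻¹) * e⁻¹⁻¹ = x by group] at this
    -- `E` lies in `P`
    have hPE : IsPGroup 2 ↥(P ⊔ E) := hSmax.isP.to_le (sup_le hT hES)
    obtain ⟨T', hT', hle⟩ := IsSylowIn.exists_le hPE (sup_le s.le_normalizerV hEV)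
    have e : P = T' := Subgroup.eq_of_le_of_card_ge (le_sup_left.trans hle)
      (by rw [hT'.card_eq, s.ffV.loc.syl.card_eq])
    have hEP : E ≤ P := e ▸ le_sup_right.trans hle
    refine hPS ?_
    have hfin : ∀ {X : Subgroup G}, IsSylowIn 2 P (Subgroup.normalizer (X : Set G)) → E = X → S = P := by
      intro X hX hEX
      obtain ⟨T'', hT'', hle'⟩ := IsSylowIn.exists_le hSmax.isP (hEX ▸ hEnorm)
      refine le_antisymm ?_ hT
      have e' : P = T'' := Subgroup.eq_of_le_of_card_ge (hT.trans hle')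
        (by rw [hT''.card_eq, hX.card_eq])
      exact e' ▸ hle'
    rcases s.eq_or_eq hG hEP hEsq (hEcard.trans hV4.symm) with h | h
    exacts [hfin s.ffV.loc.syl h, hfin s.ffW.loc.syl h]
  have hvS : v ∈ S := hT (s.V_le hv)
  obtain ⟨a, n, hn, ha, hta, hcard, hcases, hrel⟩ := HalfTransitive.dihedral_or_semidihedral
    (G := ↥S) hSmax.isP hno (t := ⟨v, hvS⟩) (Subtype.ext hvv) (fun hc => by
      have h1 := congrArg Subtype.val (Subgroup.mem_center_iff.1 hc ⟨w, hT (s.W_le hw)⟩)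
      exact hvW (s.mem_inf_of_comm hG (s.W_le hw) hwV hv h1.symm).2)
  rw [← Subgroup.orderOf_coe] at ha
  have hzp : ∀ g : ↥S, g ∈ Subgroup.zpowers a ↔ (g : G) ∈ Subgroup.zpowers (a : G) := by
    intro g
    simp only [Subgroup.mem_zpowers_iff, Subtype.ext_iff, Subgroup.coe_zpow]
  rw [hzp] at hta
  have hcases' : ∀ g ∈ S, g ∈ Subgroup.zpowers (a : G) ∨ g * v ∈ Subgroup.zpowers (a : G) := by
    intro g hg
    have := hcases ⟨g, hg⟩
    rw [hzp, hzp] at this
    exact this
  rcases hrel with hrel | ⟨hn2, hrel⟩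
  · exact finish a n hn ha a.2 hta (congrArg Subtype.val hrel) hcard hcases'
  -- semidihedral: the focal subgroup is too small
  exfalso
  have hrel' : v * (a : G) * v⁻¹ = (a : G) ^ ((2 : ℤ) ^ n - 1) := by
    have := congrArg Subtype.val hrel
    simpa only [Subgroup.coe_mul, Subgroup.coe_inv, Subgroup.coe_zpow] using this
  set b : G := (a : G) with hbdef
  have hb2 : b ^ 2 ^ n * b ^ 2 ^ n = 1 := by
    rw [← pow_add, ← two_mul, ← pow_succ', ← ha, pow_orderOf_eq_one]
  -- conjugation by `v` on powers of `b`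
  have hvb : ∀ i : ℤ, v * b ^ i * v⁻¹ = b ^ ((2 ^ n - 1) * i) := by
    intro i
    rw [← conj_zpow, hrel', ← zpow_mul]
  have hinvol : ∀ y ∈ Subgroup.zpowers b, y * y = 1 → y ≠ 1 → y = b ^ 2 ^ n := by
    rintro y ⟨i, rfl⟩ hy hy1
    change b ^ i ≠ 1 at hy1
    change b ^ i * b ^ i = 1 at hy
    show b ^ i = b ^ 2 ^ n
    rw [← zpow_add, ← orderOf_dvd_iff_zpow_eq_one, ha] at hy
    push_cast at hy
    rw [pow_succ', ← two_mul] at hy
    obtain ⟨j, hj⟩ := (mul_dvd_mul_iff_left (by norm_num : (2 : ℤ) ≠ 0)).1 hy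
    rcases Int.even_or_odd j with ⟨k, hk⟩ | ⟨k, hk⟩
    · exfalso; apply hy1
      rw [← orderOf_dvd_iff_zpow_eq_one, ha, hj, hk]
      exact ⟨k, by push_cast; ring⟩
    · rw [← zpow_natCast, zpow_eq_zpow_iff_modEq, ha, Int.modEq_iff_dvd, hj, hk]
      exact ⟨-k, by push_cast; ring⟩
  have hvbc : v * b ^ 2 ^ n = b ^ 2 ^ n * v := by
    have h1 := hvb ((2 ^ n : ℕ) : ℤ)
    rw [zpow_natCast] at h1
    have h2 : b ^ ((2 ^ n - 1 : ℤ) * ((2 ^ n : ℕ) : ℤ)) = b ^ 2 ^ n := by
      rw [← zpow_natCast b (2 ^ n), zpow_eq_zpow_iff_modEq, ha, Int.modEq_iff_dvd]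
      obtain ⟨c, hc⟩ := pow_dvd_pow (2 : ℤ) (show 1 ≤ n by omega)
      refine ⟨1 - c, ?_⟩
      push_cast
      rw [pow_one] at hc
      rw [pow_succ]
      linear_combination (-(2 : ℤ) ^ n) * hc
    rw [h2] at h1
    exact mul_inv_eq_iff_eq_mul.1 h1
  have hform : ∀ g ∈ S, ∃ i : ℤ, g = b ^ i ∨ g = b ^ i * v := by
    intro g hg
    rcases hcases' g hg with ⟨i, hi⟩ | ⟨i, hi⟩
    · exact ⟨i, Or.inl hi.symm⟩
    · exact ⟨i, Or.inr (by rw [show b ^ i = g * v from hi, mul_assoc, hvv, mul_one])⟩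
  have hbz : b ^ 2 ^ n = z := hzent _ (fun e => by
      have h1 := Nat.le_of_dvd (by positivity) (orderOf_dvd_of_pow_eq_one e)
      rw [ha, pow_succ] at h1
      have := Nat.two_pow_pos n
      omega) fun x hx => by
    rcases hform x hx with ⟨i, rfl | rfl⟩
    · exact (((Commute.refl b).zpow_left i).pow_right _).eq
    · rw [mul_assoc, hvbc, ← mul_assoc, (((Commute.refl b).zpow_left i).pow_right _).eq, mul_assoc]
  have hC : ∀ g : G, g * z = z * g → g ∈ S := by
    intro g hg
    have h1 := hSmax.max _ (hG.isPGroup_centralizer s.isP (s.V_le hzR.1) hz1) fun x hx => by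
      refine mem_centralizer_singleton' ?_
      rw [← hbz]
      rcases hform x hx with ⟨i, rfl | rfl⟩
      · exact (((Commute.refl b).zpow_left i).pow_right _).eq
      · rw [mul_assoc, hvbc, ← mul_assoc, (((Commute.refl b).zpow_left i).pow_right _).eq, mul_assoc]
    rw [← h1]
    exact mem_centralizer_singleton' hg
  set D := Subgroup.zpowers (b * b) ⊔ Subgroup.zpowers v with hD
  have hvn : Subgroup.zpowers v ≤ Subgroup.normalizer (Subgroup.zpowers (b * b) : Set G) := by
    rw [Subgroup.zpowers_le, mem_normalizer_iff_map]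
    refine Subgroup.eq_of_le_of_card_ge ?_ (Subgroup.card_map_of_injective (MulAut.conj v).injective).ge
    rw [MonoidHom.map_zpowers, Subgroup.zpowers_le]
    refine ⟨2 ^ n - 1, ?_⟩
    show (b * b) ^ ((2 : ℤ) ^ n - 1) = v * (b * b) * v⁻¹
    have := hvb 2
    rw [show b ^ (2 : ℤ) = b * b by rw [show (2 : ℤ) = 1 + 1 from rfl, zpow_add, zpow_one]] at this
    rw [this, ← zpow_one b, ← zpow_add, ← zpow_mul, zpow_one]
    congr 1; ring
  have hDmem : ∀ g ∈ D, ∃ i : ℤ, g = b ^ (2 * i) ∨ g = b ^ (2 * i) * v := by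
    intro g hg
    have hset : ((Subgroup.zpowers (b * b) ⊔ Subgroup.zpowers v : Subgroup G) : Set G) =
        (Subgroup.zpowers (b * b) : Set G) * (Subgroup.zpowers v : Set G) :=
      Subgroup.coe_mul_of_right_le_normalizer_left _ _ hvn
    obtain ⟨_, ⟨i, rfl⟩, _, ⟨j, rfl⟩, rfl⟩ :
        g ∈ (Subgroup.zpowers (b * b) : Set G) * (Subgroup.zpowers v : Set G) := hset ▸ hg
    have e : (b * b) ^ i = b ^ (2 * i) := by rw [zpow_mul, ← pow_two, ← zpow_natCast, Nat.cast_ofNat]
    refine ⟨i, ?_⟩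
    rcases Int.even_or_odd j with ⟨k, rfl⟩ | ⟨k, rfl⟩
    · left
      show (b * b) ^ i * v ^ (k + k) = _
      rw [← two_mul, zpow_mul v, zpow_two, hvv, one_zpow, mul_one, e]
    · right
      show (b * b) ^ i * v ^ (2 * k + 1) = _
      rw [zpow_add, zpow_mul v, zpow_two, hvv, one_zpow, one_mul, zpow_one, e]
  have hbD : b ∉ D := by
    intro hb
    obtain ⟨i, hi | hi⟩ := hDmem b hb
    · have h1 : b ^ (2 * i - 1) = 1 := by rw [zpow_sub, ← hi, zpow_one, mul_inv_cancel]
      rw [← orderOf_dvd_iff_zpow_eq_one, ha] at h1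
      obtain ⟨c, hc⟩ := h1
      push_cast at hc
      rw [pow_succ, mul_comm ((2 : ℤ) ^ n) 2, mul_assoc] at hc
      omega
    · refine hta ⟨-(2 * i) + 1, ?_⟩
      show b ^ (-(2 * i) + 1) = v
      rw [zpow_add, zpow_one]
      conv_lhs => arg 2; rw [hi]
      group
  have hDS : D ≤ S := sup_le (Subgroup.zpowers_le.2 (S.mul_mem a.2 a.2)) (Subgroup.zpowers_le.2 hvS)
  have hDor : ∀ g ∈ S, g ∈ D ∨ b⁻¹ * g ∈ D := by
    intro g hg
    have key : ∀ j : ℤ, b ^ (2 * j) ∈ D ∧ b ^ (2 * j) * v ∈ D := fun j => by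
      have h1 : b ^ (2 * j) ∈ D := by
        rw [zpow_mul, zpow_two]
        exact Subgroup.mem_sup_left (zpow_mem (Subgroup.mem_zpowers _) j)
      exact ⟨h1, D.mul_mem h1 (Subgroup.mem_sup_right (Subgroup.mem_zpowers v))⟩
    obtain ⟨i, hi⟩ := hform g hg
    rcases Int.even_or_odd i with ⟨k, rfl⟩ | ⟨k, rfl⟩
    · left
      rw [← two_mul] at hi
      rcases hi with rfl | rfl
      exacts [(key k).1, (key k).2]
    · right
      rcases hi with rfl | rfl
      · rw [show b⁻¹ * b ^ (2 * k + 1) = b ^ (2 * k) by group]; exact (key k).1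
      · rw [show b⁻¹ * (b ^ (2 * k + 1) * v) = b ^ (2 * k) * v by group]; exact (key k).2
  have hbN : b ∈ Subgroup.normalizer (D : Set G) := by
    rw [mem_normalizer_iff_map]
    refine Subgroup.eq_of_le_of_card_ge ?_ (Subgroup.card_map_of_injective (MulAut.conj b).injective).ge
    rw [hD, Subgroup.map_sup, MonoidHom.map_zpowers, MonoidHom.map_zpowers, ← hD]
    refine sup_le (Subgroup.zpowers_le.2 ?_) (Subgroup.zpowers_le.2 ?_)
    · show b * (b * b) * b⁻¹ ∈ D
      rw [show b * (b * b) * b⁻¹ = b * b by group]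
      exact Subgroup.mem_sup_left (Subgroup.mem_zpowers _)
    · show b * v * b⁻¹ ∈ D
      have e : b * v * b⁻¹ = b ^ (2 * (1 - (2 : ℤ) ^ (n - 1))) * v := by
        have h1 := hvb (-1)
        rw [zpow_neg_one] at h1
        calc b * v * b⁻¹ = b * (v * b⁻¹ * v⁻¹) * v := by group
          _ = b ^ (1 + ((2 : ℤ) ^ n - 1) * (-1)) * v := by rw [h1, zpow_add, zpow_one]
          _ = _ := by
            congr 2
            rw [mul_sub, ← pow_succ', Nat.sub_add_cancel hn]; ring
      rw [e, zpow_mul, zpow_two]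
      exact D.mul_mem (Subgroup.mem_sup_left (zpow_mem (Subgroup.mem_zpowers _) _))
        (Subgroup.mem_sup_right (Subgroup.mem_zpowers v))
  have hDn : ∀ g ∈ S, ∀ x ∈ D, g * x * g⁻¹ ∈ D := by
    intro g hg x hx
    have hgN : g ∈ Subgroup.normalizer (D : Set G) := by
      rcases hDor g hg with h | h
      · exact Subgroup.le_normalizer h
      · have := mul_mem hbN (Subgroup.le_normalizer h)
        rwa [mul_inv_cancel_left] at this
    exact (Subgroup.mem_normalizer_iff.1 hgN x).1 hx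
  have hfus : ∀ x ∈ S, x ∉ D → ∀ u : G, u * x * u⁻¹ ∈ S → u ∈ S := by
    intro x hx hxD u hu
    apply hC
    -- an even power of `x` is the central involution
    obtain ⟨k, hk⟩ : ∃ k : ℕ, x ^ (2 * k) = z := by
      rcases hform x hx with ⟨i, rfl | rfl⟩
      · refine ⟨2 ^ (n - 1), ?_⟩
        rw [← pow_succ', Nat.sub_add_cancel hn, ← hbz, ← zpow_natCast, ← zpow_mul, ← zpow_natCast b,
          zpow_eq_zpow_iff_modEq, ha, Int.modEq_iff_dvd]
        rcases Int.even_or_odd i with ⟨j, rfl⟩ | ⟨j, rfl⟩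
        · exfalso; apply hxD
          rw [← two_mul, zpow_mul, zpow_two]
          exact Subgroup.mem_sup_left (zpow_mem (Subgroup.mem_zpowers _) j)
        · exact ⟨-j, by push_cast; ring⟩
      · refine ⟨1, ?_⟩
        rw [mul_one, pow_two, ← hbz]
        calc b ^ i * v * (b ^ i * v) = b ^ i * (v * b ^ i * v⁻¹) * (v * v) := by group
          _ = b ^ ((2 ^ n : ℤ) * i) := by rw [hvv, mul_one, hvb, ← zpow_add]; congr 1; ring
          _ = b ^ 2 ^ n := by
            rw [← zpow_natCast b, zpow_eq_zpow_iff_modEq, ha, Int.modEq_iff_dvd]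
            rcases Int.even_or_odd i with ⟨j, rfl⟩ | ⟨j, rfl⟩
            · exfalso; apply hxD
              rw [← two_mul, zpow_mul, zpow_two]
              exact D.mul_mem (Subgroup.mem_sup_left (zpow_mem (Subgroup.mem_zpowers _) j))
                (Subgroup.mem_sup_right (Subgroup.mem_zpowers v))
            · exact ⟨-j, by push_cast; ring⟩
    have hy2 : ∀ y ∈ S, y * y ∈ Subgroup.zpowers b := by
      intro y hy
      rcases hform y hy with ⟨i, rfl | rfl⟩
      · exact mul_mem (zpow_mem (Subgroup.mem_zpowers b) i) (zpow_mem (Subgroup.mem_zpowers b) i)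
      · rw [show b ^ i * v * (b ^ i * v) = b ^ i * (v * b ^ i * v⁻¹) * (v * v) by group, hvv, mul_one, hvb]
        exact mul_mem (zpow_mem (Subgroup.mem_zpowers b) i) (zpow_mem (Subgroup.mem_zpowers b) _)
    have hz2 : z * z = 1 := s.sq hzR.1
    have h3 : u * z * u⁻¹ = z := by
      have e : u * z * u⁻¹ = (u * x * u⁻¹) ^ (2 * k) := by rw [conj_pow, hk]
      rw [hinvol (u * z * u⁻¹) (by rw [e, pow_mul, pow_two]; exact pow_mem (hy2 _ hu) k)
        (by rw [show u * z * u⁻¹ * (u * z * u⁻¹) = u * (z * z) * u⁻¹ by group, hz2]; group)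
        (fun e1 => hz1 (conj_eq_one_iff.1 e1)), hbz]
    exact mul_inv_eq_iff_eq_mul.1 h3
  have hfoc : Subgroup.focalSubgroup S ≤ D := by
    rw [Subgroup.focalSubgroup_def, Subgroup.closure_le]
    rintro g ⟨hgS, x, hx, u, rfl⟩
    show ⁅x, u⁆ ∈ D
    rw [commutatorElement_def] at hgS ⊢
    have hy : u * x * u⁻¹ ∈ S := by
      have := S.mul_mem (S.inv_mem hgS) hx
      rwa [show (x * u * x⁻¹ * u⁻¹)⁻¹ * x = u * x * u⁻¹ by group] at this
    have e : x * u * x⁻¹ * u⁻¹ = x * (u * x * u⁻¹)⁻¹ := by group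
    rw [e]
    by_cases hxD : x ∈ D
    · refine D.mul_mem hxD (D.inv_mem ?_)
      by_contra hyD
      have hu := hfus _ hy hyD u⁻¹ (by rw [show u⁻¹ * (u * x * u⁻¹) * u⁻¹⁻¹ = x by group]; exact hx)
      exact hyD (hDn u (by simpa using S.inv_mem hu) x hxD)
    · have hu := hfus x hx hxD u hy
      have hbx := (hDor x hx).resolve_left hxD
      have hby := (hDor _ hy).resolve_left fun h => hxD <| by
        have := hDn u⁻¹ (S.inv_mem hu) _ h
        rwa [show u⁻¹ * (u * x * u⁻¹) * u⁻¹⁻¹ = x by group] at this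
      have := hDn b a.2 _ (D.mul_mem hbx (D.inv_mem hby))
      rwa [show b * (b⁻¹ * x * (b⁻¹ * (u * x * u⁻¹))⁻¹) * b⁻¹ = x * (u * x * u⁻¹)⁻¹ by group] at this
  have htop : (_root_.commutator G : Subgroup G) = ⊤ := by
    rcases (inferInstance : (_root_.commutator G).Normal).eq_bot_or_eq_top with h | h
    · exfalso
      obtain ⟨x, y, hxy⟩ := hna
      have h1 : ⁅x, y⁆ ∈ _root_.commutator G :=
        Subgroup.commutator_mem_commutator (Subgroup.mem_top x) (Subgroup.mem_top y)
      rw [h, Subgroup.mem_bot, commutatorElement_eq_one_iff_mul_comm] at h1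
      exact hxy h1
    · exact h
  have h2 := Subgroup.commutator_inf_eq_focalSubgroup T
  rw [htop, top_inf_eq] at h2
  exact hbD (hfoc (h2 ▸ a.2))

/-- The classification in the case `|R| = 2`. -/
theorem Shape.psl_of_two [IsSimpleGroup G] (hG : IsCIT G) (hna : ∃ a b : G, a * b ≠ b * a)
    (s : Shape V W P) (hq : Nat.card ↥(V ⊓ W) = 2) :
    ∃ (F : Type) (_ : Field F) (_ : Fintype F),
      (Fintype.card F = 9 ∨ (∃ n : ℕ, Fintype.card F = 2 ^ n) ∨
        ((Fintype.card F).Prime ∧ ∃ k : ℕ, Fintype.card F = 2 ^ k + 1 ∨ Fintype.card F + 1 = 2 ^ k)) ∧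
      Nonempty (G ≃* Matrix.ProjectiveSpecialLinearGroup (Fin 2) F) := by
  classical
  haveI : Fact (Nat.Prime 2) := ⟨Nat.prime_two⟩
  obtain ⟨S, z, v, a, n, d, hC⟩ := s.exists_dihedral hG hna hq
  let T : Sylow 2 G := ⟨S, d.max.isP, fun hY hle => d.max.max _ hY hle⟩
  obtain ⟨e⟩ := PGroups.nonempty_dihedral_equiv (G := ↥S) (a := ⟨a, d.haS⟩) (x := ⟨v, d.hvS⟩)
    (m := 2 ^ (n + 1)) (by rw [Subgroup.orderOf_mk]; exact d.ha)
    (Subtype.ext (by simpa [pow_two] using d.hv)) (Subtype.ext d.inv)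
    (fun h => d.hva (by
      obtain ⟨i, hi⟩ := h
      exact ⟨i, congrArg Subtype.val hi⟩)) (by rw [d.card]; ring)
  let D : Fusion.Dihedral.Coords T (2 ^ (n + 1)) := Fusion.Dihedral.Coords.ofEquiv e
  have hm2 : 2 ≤ 2 ^ (n + 1) := Nat.le_self_pow (by omega) 2
  have hnoidx : ∀ H : Subgroup G, H.index ≠ 2 := by
    intro H hH
    have := Subgroup.normal_of_index_eq_two hH
    rcases this.eq_bot_or_eq_top with e1 | e1
    · rw [e1, Subgroup.index_bot] at hH
      have h1 := Subgroup.card_le_card_group S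
      rw [d.card, hH, pow_succ] at h1
      omega
    · rw [e1, Subgroup.index_top] at hH; omega
  have hconj : ∀ x y : G, orderOf x = 2 → orderOf y = 2 → IsConj x y :=
    D.isConj_of_three hm2 fun U hU hf => by
      by_contra h3
      obtain ⟨H, hH⟩ := D.exists_index_two hm2 hU hf fun m hm hmo =>
        Fusion.Dihedral.commute_of_not_three hf h3 hm hmo
      exact hnoidx H hH
  have hz1 : z ≠ 1 := fun e1 => by
    have h1 := Nat.le_of_dvd (by positivity) (orderOf_dvd_of_pow_eq_one (d.hz.symm.trans e1))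
    rw [d.ha, pow_succ] at h1
    have := Nat.two_pow_pos n
    omega
  have hzz : z * z = 1 := by
    rw [d.hz, ← pow_add, ← two_mul, ← pow_succ', ← d.ha, pow_orderOf_eq_one]
  have hinvK : ∀ k ∈ Subgroup.zpowers a, v * k * v⁻¹ = k⁻¹ := by
    rintro _ ⟨i, rfl⟩
    show v * a ^ i * v⁻¹ = (a ^ i)⁻¹
    rw [← conj_zpow, d.inv, inv_zpow]
  have huniq : ∀ x ∈ Subgroup.zpowers a, x * x = 1 → x = 1 ∨ x = z := by
    rintro x hx hxx
    obtain ⟨i, hi⟩ := mem_powers_iff_mem_zpowers.2 hx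
    change a ^ i = x at hi
    subst hi
    rw [← pow_add, ← orderOf_dvd_iff_pow_eq_one, d.ha, pow_succ', ← two_mul] at hxx
    obtain ⟨j, rfl⟩ := Nat.dvd_of_mul_dvd_mul_left two_pos hxx
    rw [pow_mul, ← d.hz]
    rcases Nat.even_or_odd j with ⟨k, rfl⟩ | ⟨k, rfl⟩
    · left; rw [← two_mul, pow_mul, pow_two, hzz, one_pow]
    · right; rw [pow_add, pow_mul, pow_two, hzz, one_pow, one_mul, pow_one]
  have h : BSW.Hyp z v (Subgroup.zpowers a) :=
    { ht := orderOf_eq_prime (by rw [pow_two]; exact hzz) hz1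
      hs := orderOf_eq_prime (by rw [pow_two]; exact d.hv) fun e1 => d.hva (e1 ▸ one_mem _)
      htK := d.hz ▸ pow_mem (Subgroup.mem_zpowers a) _
      hsK := d.hva
      hst := (hC v).2 d.hvS
      comm := fun x hx y hy => setLike_mul_comm hx hy
      inv := hinvK
      cases' := fun g hg => (d.cases' g ((hC g).1 hg)).imp_right fun h1 => by
        have h2 := hinvK _ h1
        have h3 := (Subgroup.zpowers a).inv_mem h1
        rw [← h2] at h3
        convert h3 using 1
        rw [show v * (g * v) * v⁻¹ = v * g by group]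
      unique := huniq
      ti := by
        intro x hx hx1 g hg
        obtain ⟨j, hj⟩ : ∃ j : ℕ, x ^ j = z := by
          obtain ⟨k, hk⟩ := (Nat.dvd_prime_pow Nat.prime_two).1
            (d.ha ▸ orderOf_dvd_of_mem_zpowers hx)
          rcases k with _ | k
          · exact absurd (orderOf_eq_one_iff.1 (by simpa using hk.2)) hx1
          · refine ⟨2 ^ k, (huniq _ (pow_mem hx _) ?_).resolve_left fun e1 => ?_⟩
            · rw [← pow_add, ← two_mul, ← pow_succ', ← hk.2, pow_orderOf_eq_one]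
            · have h1 := Nat.le_of_dvd (by positivity) (orderOf_dvd_of_pow_eq_one e1)
              rw [hk.2, pow_succ] at h1
              have := Nat.two_pow_pos k
              omega
        have h1 : g * z * g⁻¹ ∈ Subgroup.zpowers a := by
          rw [← hj, ← conj_pow]; exact pow_mem hg j
        rcases huniq _ h1 (by rw [show g * z * g⁻¹ * (g * z * g⁻¹) = g * (z * z) * g⁻¹ by group, hzz]; group)
          with e1 | e1
        · exact absurd (conj_eq_one_iff.1 e1) hz1
        · exact mul_inv_eq_iff_eq_mul.1 e1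
      conj := hconj }
  obtain ⟨F, iF, iT, hFodd, ⟨iso⟩⟩ := BSWRecog.iso_psl_of_hyp h
  refine ⟨F, iF, iT, ?_, ⟨iso⟩⟩
  letI := Fintype.ofFinite G
  letI := Fintype.ofFinite ↥(Subgroup.zpowers a)
  letI := Fintype.ofFinite (Cfsg.IrrCharacter G)
  letI := Fintype.ofFinite (Cfsg.IrrCharacter ↥(Subgroup.zpowers a))
  obtain ⟨η, l₀, c1, c2, c3, c⟩ := BSW.exists_conf h
  have hk : Nat.card ↥(Subgroup.zpowers a) = 2 ^ (n + 1) := by rw [Nat.card_zpowers, d.ha]
  have hcard := c.order
  rw [hk] at hcard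
  have h2 := Linear.two_mul_card_PSL_two_of_odd (F := F) hFodd
  rw [← Nat.card_congr iso.toEquiv] at h2
  obtain ⟨f, hf⟩ : ∃ f, Fintype.card F = f + 1 := ⟨_, (Nat.sub_add_cancel Fintype.card_pos).symm⟩
  have h3 : (Fintype.card F : ℤ) * ((Fintype.card F : ℤ) ^ 2 - 1) = 2 * (Nat.card G : ℤ) := by
    have h4 : ((2 * Nat.card G : ℕ) : ℤ) = 2 * (Nat.card G : ℤ) := by push_cast; ring
    rw [← h4, h2, hf]
    simp only [Nat.add_sub_cancel]
    push_cast; ring
  set q : ℤ := (Fintype.card F : ℤ) with hqdef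
  set k : ℤ := ((2 ^ (n + 1) : ℕ) : ℤ) with hkdef
  have hk2 : 2 ≤ k := by rw [hkdef]; exact_mod_cast hm2
  have hq2 : q = 2 * k + η := by
    have hη : η * η = 1 := by rcases c.eta with e1 | e1 <;> rw [e1] <;> norm_num
    have hpos : 0 < 2 * k + η := by rcases c.eta with e1 | e1 <;> rw [e1] <;> linarith
    have hq1 : (1 : ℤ) ≤ q := by rw [hqdef]; exact_mod_cast Fintype.card_pos
    have heq : q * (q ^ 2 - 1) = (2 * k + η) * ((2 * k + η) ^ 2 - 1) := by
      rw [h3, hcard]; linear_combination (-(2 * k + η)) * hη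
    have hfac : (q - (2 * k + η)) * (q ^ 2 + q * (2 * k + η) + (2 * k + η) ^ 2 - 1) = 0 := by
      linear_combination heq
    rcases mul_eq_zero.1 hfac with h5 | h5
    · linarith
    · nlinarith
  obtain ⟨p, hpF⟩ := CharP.exists F
  haveI : Fact p.Prime := ⟨CharP.char_is_prime F p⟩
  obtain ⟨e, hp, he⟩ := FiniteField.card F p
  have hFe : Fintype.card F = 2 ^ (n + 2) + 1 ∨ Fintype.card F + 1 = 2 ^ (n + 2) := by
    rcases c.eta with e1 | e1
    · left
      have h4 : (Fintype.card F : ℤ) = ((2 ^ (n + 2) + 1 : ℕ) : ℤ) := by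
        rw [← hqdef, hq2, e1, hkdef]; push_cast; ring
      exact_mod_cast h4
    · right
      have h4 : ((Fintype.card F + 1 : ℕ) : ℤ) = ((2 ^ (n + 2) : ℕ) : ℤ) := by
        push_cast
        rw [← hqdef, hq2, e1, hkdef]; push_cast; ring
      exact_mod_cast h4
  rw [he] at hFe hFodd ⊢
  rcases prime_or_nine hp (Nat.odd_pow_iff e.ne_zero |>.1 hFodd) e.pos hFe with h5 | h5
  · exact Or.inr (Or.inr ⟨h5, n + 2, hFe⟩)
  · exact Or.inl h5

end Cfsg.Agent.Lib.CIT
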