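import Cfsg.Agent.Lib.CIT.Graph

/-!
# Critical pairs, and the critical distance is one

Owner: helper2.
-/

set_option autoImplicit false
set_option linter.style.haveILetI false
set_option linter.unusedSectionVars false

open Cfsg

namespace Cfsg.Agent.Lib.CIT

open scoped Pointwise
open Cfsg.Agent.Lib.CosetGraph.SylowIn

variable {G : Type*} [Group G] [Finite G]

namespace FF

variable {H P : Subgroup G}

/-- An element outside `O₂` lies in at most one Sylow subgroup. -/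
theorem unique_sylow (hG : IsCIT G) (f : FF H P) {T : Subgroup G} (hT : IsSylowIn 2 T H) {u : G}
    (hu : u ∈ P) (hu' : u ∈ T) (huQ : u ∉ pCoreOf 2 H) : T = P := by
  by_contra hne
  have f' := f.of_syl hG hT
  have h1 := f.off.disjoint hG f.loc f'.off hne
  rw [← f.off.fix_eq hG f.loc hu huQ, ← f'.off.fix_eq hG f.loc hu' huQ, inf_idem,
    f.off.fix_eq hG f.loc hu huQ] at h1
  exact f.off.R_ne_bot hG f.loc h1

/-- A subset of `O₂` which `t ∈ P ∖ O₂` centralises modulo `V`, invariant under an element moving `P`, lies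
in `V`. -/
theorem subset_Vof (hG : IsCIT G) (f : FF H P) {S : Set G} (hS : S ⊆ (pCoreOf 2 H : Set G)) {t h : G}
    (ht : t ∈ P) (htQ : t ∉ pCoreOf 2 H) (hh : h ∈ H) (hhS : ∀ y ∈ S, h⁻¹ * y * h ∈ S)
    (hne : P ^ᶜ h ≠ P) (hc : ∀ y ∈ S, t * y * t⁻¹ * y⁻¹ ∈ Vof H) : S ⊆ (Vof H : Set G) := by
  intro y hy
  by_contra hyV
  let L : Subgroup G :=
    { carrier := {g | g ∈ H ∧ ∀ y ∈ S, g * y * g⁻¹ * y⁻¹ ∈ Vof H}
      one_mem' := ⟨one_mem _, fun y _ => by simp⟩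
      mul_mem' := fun {a b} ha hb => ⟨mul_mem ha.1 hb.1, fun y hy => by
        have h1 := (Vof H).mul_mem (conj_mem_Vof ha.1 (hb.2 y hy)) (ha.2 y hy)
        convert h1 using 1; group⟩
      inv_mem' := fun {a} ha => ⟨inv_mem ha.1, fun y hy => by
        have h1 := conj_mem_Vof (H.inv_mem ha.1) ((Vof H).inv_mem (ha.2 y hy))
        convert h1 using 1; group⟩ }
  have htL : t ∈ L := ⟨f.off.le ht, hc⟩
  have ht'L : h * t * h⁻¹ ∈ L := ⟨mul_mem (mul_mem hh htL.1) (inv_mem hh), fun y hy => by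
    have h1 := conj_mem_Vof hh (htL.2 _ (hhS y hy))
    convert h1 using 1; group⟩
  have hDL : Subgroup.closure ({t, h * t * h⁻¹} : Set G) ≤ L := (Subgroup.closure_le _).2 (by
    rintro z (rfl | rfl); exacts [htL, ht'L])
  have hD : ¬ IsPGroup 2 ↥(Subgroup.closure ({t, h * t * h⁻¹} : Set G)) := by
    intro hD
    haveI : Fact (Nat.Prime 2) := ⟨Nat.prime_two⟩
    obtain ⟨T, hT, hle⟩ := IsSylowIn.exists_le hD (hDL.trans fun g hg => hg.1)
    have e1 : T = P := f.unique_sylow hG hT ht (hle (Subgroup.subset_closure (Or.inl rfl))) htQ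
    subst e1
    have f' : FF H (T ^ᶜ h) := by
      refine f.of_syl hG ?_
      have := f.loc.syl.conj h
      rwa [conj_map_eq_self (Subgroup.le_normalizer hh)] at this
    refine hne (f'.unique_sylow hG hT ⟨t, ht, rfl⟩
      (hle (Subgroup.subset_closure (Or.inr rfl))) ?_).symm
    intro hm
    apply htQ
    have h1 := (Subgroup.mem_normalizer_iff.1 (le_normalizer_pCoreOf 2 H (H.inv_mem hh)) _).1 hm
    simpa [mul_assoc] using h1
  obtain ⟨x, hxD, hx1, hxo⟩ := exists_odd_ne_one hD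
  obtain ⟨hxH, hxc⟩ := hDL hxD
  refine hx1 (hG.eq_one_of_mod (isPGroup_pCoreOf 2 H) (Vof_le H) (hS hy) hyV hxo
    (le_normalizer_Vof H hxH) ?_)
  have h1 := conj_mem_Vof (H.inv_mem (pCoreOf_le 2 H (hS hy))) (hxc y hy)
  convert h1 using 1
  group

end FF

/-! ### Critical pairs -/

section Crit

variable {a d P₀ P₁ : Subgroup G} (hG : IsCIT G) (La : Loc a P₀) (Ld : Loc d P₁)
  (h1 : Vof a ≤ P₁) (h2 : Vof d ≤ P₀)
include hG La Ld h1 h2

omit hG in
theorem crit_comm {v w : G} (hv : v ∈ Vof a) (hw : w ∈ Vof d) :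
    w * v * w⁻¹ * v⁻¹ ∈ Vof a ⊓ Vof d := by
  refine Subgroup.mem_inf.2 ⟨comm_mem (La.syl.le (h2 hw)) hv, ?_⟩
  have h3 := (Vof d).mul_mem hw (conj_mem_Vof (Ld.syl.le (h1 hv)) ((Vof d).inv_mem hw))
  convert h3 using 1
  group

theorem crit_symm (hn : ¬ Vof a ≤ pCoreOf 2 d) : ¬ Vof d ≤ pCoreOf 2 a := fun hle =>
  hn fun _ hv => Ld.mem_Q hG (Ld.syl.le (h1 hv)) fun _ hw => (Vof_comm hv (hle hw)).symm

omit hG in
theorem crit_inf_le : Vof a ⊓ Vof d ≤ pCoreOf 2 d := inf_le_right.trans (Vof_le d)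

/-- One half of a critical pair. -/
theorem crit_half (hn : ¬ Vof a ≤ pCoreOf 2 d) :
    Nat.card ↥(Vof a ⊓ Vof d) * Nat.card ↥(Vof a ⊓ Vof d) = Nat.card (Vof a) ∧
      Vof a ⊓ pCoreOf 2 d = Vof a ⊓ Vof d ∧
      Vof a ⊓ Subgroup.centralizer (Vof d : Set G) = Vof a ⊓ Vof d := by
  obtain ⟨t, ht, htQ⟩ := SetLike.not_le_iff_exists.1 (crit_symm hG La Ld h1 h2 hn)
  have hta : t ∈ a := La.syl.le (h2 ht)
  have ht2 : t * t ∈ pCoreOf 2 a := by rw [Vof_sq ht]; exact one_mem _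
  obtain ⟨hcard, -, hsurj⟩ := La.free hG hta ht2 htQ
  have e : Vof a ⊓ Subgroup.centralizer ({t} : Set G) = Vof a ⊓ Vof d := by
    refine le_antisymm (fun c hc => ?_) fun c hc => ⟨hc.1, mem_centralizer_singleton' ?_⟩
    · obtain ⟨v, hv, rfl⟩ := hsurj c hc
      exact crit_comm La Ld h1 h2 hv ht
    · exact Vof_comm' ht hc.2
  refine ⟨e ▸ hcard, le_antisymm (fun c hc => ?_) (le_inf inf_le_left (crit_inf_le La Ld h1 h2)),
    le_antisymm (fun c hc => ?_) fun c hc => ⟨hc.1, Subgroup.mem_centralizer_iff.2 fun w hw => ?_⟩⟩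
  · rw [← e]
    exact ⟨hc.1, mem_centralizer_singleton' (Vof_comm ht hc.2)⟩
  · rw [← e]
    exact ⟨hc.1, mem_centralizer_singleton' (Subgroup.mem_centralizer_iff.1 hc.2 t ht).symm⟩
  · exact Vof_comm' hc.2 hw

/-- A critical pair: the Sylow subgroup is `O₂(a) V_d` and is an offender with fixed space `V_a ∩ V_d`. -/
theorem crit (hn : ¬ Vof a ≤ pCoreOf 2 d) :
    FF a P₀ ∧ P₀ = pCoreOf 2 a ⊔ Vof d ∧ omegaCenter 2 P₀ = Vof a ⊓ Vof d := by
  obtain ⟨hca, -, hcent⟩ := crit_half hG La Ld h1 h2 hn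
  have hn' := crit_symm hG La Ld h1 h2 hn
  obtain ⟨hcd, hdQ, -⟩ := crit_half hG Ld La h2 h1 hn'
  set A := pCoreOf 2 a ⊔ Vof d with hA
  have hAP : A ≤ P₀ := sup_le La.Q_le h2
  have hnQ : Vof d ≤ Subgroup.normalizer (pCoreOf 2 a : Set G) :=
    (h2.trans La.syl.le).trans (le_normalizer_pCoreOf 2 a)
  have hmem : ∀ u ∈ A, ∃ q ∈ pCoreOf 2 a, ∃ x ∈ Vof d, q * x = u := by
    intro u hu
    have hset : ((pCoreOf 2 a ⊔ Vof d : Subgroup G) : Set G) = (pCoreOf 2 a : Set G) * (Vof d : Set G) :=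
      Subgroup.coe_mul_of_right_le_normalizer_left _ _ hnQ
    obtain ⟨q, hq, x, hx, e⟩ : u ∈ (pCoreOf 2 a : Set G) * (Vof d : Set G) := hset ▸ hu
    exact ⟨q, hq, x, hx, e⟩
  have hR : Rof a A = Vof a ⊓ Vof d := by
    rw [← hcent]
    refine le_antisymm (inf_le_inf le_rfl (Subgroup.centralizer_le (SetLike.coe_subset_coe.2 le_sup_right))) fun c hc => ⟨hc.1, ?_⟩
    refine Subgroup.le_centralizer_iff.1 ?_ hc
    refine sup_le (fun q hq => ?_) (fun w hw => ?_)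
    · exact Subgroup.mem_centralizer_iff.2 fun z hz => (Vof_comm hz.1 hq).symm
    · exact Subgroup.mem_centralizer_iff.2 fun z hz =>
        (Subgroup.mem_centralizer_iff.1 hz.2 w hw).symm
  have off : Off a A := by
    refine ⟨hAP.trans La.syl.le, La.isPGroup.to_le hAP, le_sup_left,
      fun hle => hn' (le_sup_right.trans hle), ?_, ?_, ?_⟩
    · intro u hu
      obtain ⟨q, hq, x, hx, rfl⟩ := hmem u hu
      have h3 := (pCoreOf 2 a).mul_mem hq ((Subgroup.mem_normalizer_iff.1 (hnQ hx) q).1 hq)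
      have e : q * (x * q * x⁻¹) = q * x * (q * x) := by
        rw [Vof_inv hx]; group
      rwa [e] at h3
    · intro u hu v hv b hb
      obtain ⟨q, hq, x, hx, rfl⟩ := hmem u hu
      have h3 := crit_comm La Ld h1 h2 hv hx
      have e : q * x * v * (q * x)⁻¹ * v⁻¹ = x * v * x⁻¹ * v⁻¹ := by
        calc q * x * v * (q * x)⁻¹ * v⁻¹ = q * (x * v * x⁻¹ * v⁻¹) * (v * q⁻¹ * v⁻¹) := by group
          _ = (x * v * x⁻¹ * v⁻¹) * (q * (q⁻¹ * v) * v⁻¹) := by
              rw [Vof_comm h3.1 hq, ← Vof_comm hv ((pCoreOf 2 a).inv_mem hq)]; group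
          _ = _ := by group
      rw [e]
      rw [← hR] at h3
      exact (mem_Rof.1 h3).2 b hb
    · have h3 := OffenderComp.Aux.card_sup_inf hnQ
      rw [hdQ, sup_comm, ← hA, inf_comm, ← hcd] at h3
      have hpos : 0 < Nat.card ↥(Vof a ⊓ Vof d) := Nat.card_pos
      rw [inf_comm (Vof d) (Vof a)] at h3
      rw [hR]
      exact Nat.eq_of_mul_eq_mul_right hpos (by rw [h3]; ring)
  have e := off.eq_of_le hG La hAP La.syl.le La.isPGroup
  refine ⟨⟨La, e.symm ▸ off⟩, e, ?_⟩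
  rw [← hR, ← FF.R_eq hG ⟨La, e.symm ▸ off⟩, e]

end Crit

section Amalgam

variable {M₁ M₂ P : Subgroup G}

/-- The critical distance is one. -/
theorem IsB.eq_one (hG : IsCIT G) (p : Amal M₁ M₂ P) {b : ℕ} (hb : IsB M₁ M₂ P (b + 1)) : b = 0 := by
  obtain ⟨⟨a, d, hw, hn⟩, hmin⟩ := hb
  by_contra hb0
  obtain ⟨m, rfl⟩ : ∃ m, b = m + 1 := ⟨b - 1, by omega⟩
  obtain ⟨c, P₀, hac, hcd⟩ := hw.first
  obtain ⟨e, P₁, hae, hed⟩ := hw.last
  obtain ⟨g, P'', hag, hge⟩ := hae.last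
  have pac := hac.amal p
  have ped := hed.amal p
  have hVa : Vof a ≤ P₁ := (hmin _ (Nat.lt_succ_self _) a e hae).trans ped.loc1.Q_le
  have hVd : Vof d ≤ P₀ := (hmin _ (Nat.lt_succ_self _) d c hcd.symm).trans pac.loc2.Q_le
  obtain ⟨f, -, -⟩ := crit hG pac.loc1 ped.loc2 hVa hVd hn
  have hnd := crit_symm hG pac.loc1 ped.loc2 hVa hVd hn
  obtain ⟨fd, hP₁, -⟩ := crit hG ped.loc2 pac.loc1 hVd hVa hnd
  -- neighbours of `a` through other Sylow subgroups
  have nb : ∀ h ∈ a, P₀ ^ᶜ h ≠ P₀ → ¬ Vof (c ^ᶜ h) ≤ pCoreOf 2 e ∧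
      ∀ (he : ¬ Vof (c ^ᶜ h) ≤ pCoreOf 2 e), omegaCenter 2 (P₀ ^ᶜ h) = omegaCenter 2 P'' := by
    intro h hh hne
    have hedge : Edge M₁ M₂ P a (c ^ᶜ h) (P₀ ^ᶜ h) := by
      have := hac.conj h
      rwa [conj_map_eq_self (Subgroup.le_normalizer hh)] at this
    have pw := hedge.amal p
    set w := c ^ᶜ h with hwdef
    set Pw := P₀ ^ᶜ h with hPw
    refine ⟨fun hle => ?_, fun he => ?_⟩
    · -- `V_w ≤ O₂(e)`
      have hwa : Vof w ≤ pCoreOf 2 a := hmin 1 (by omega) w a (.cons hedge.symm (.refl _))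
      have haw : Vof a ≤ pCoreOf 2 w := hmin 1 (by omega) a w (.cons hedge (.refl _))
      obtain ⟨t, ht, htQ⟩ := SetLike.not_le_iff_exists.1 hnd
      have fw : FF a Pw := f.of_syl hG pw.loc1.syl
      obtain ⟨k, hk, hkQ⟩ := SetLike.not_le_iff_exists.1 fw.off.ne
      have hsub : (Vof w : Set G) ⊆ Vof a := by
        refine f.subset_Vof hG hwa (hVd ht) htQ (fw.off.le hk) ?_ ?_ ?_
        · intro y hy
          have := conj_mem_Vof (inv_mem (pw.loc2.syl.le hk)) hy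
          rwa [inv_inv] at this
        · exact fw.off.not_normalizes hG f.loc f.off (Ne.symm hne) hk hkQ
        · intro y hy
          have hy1 : y ∈ pCoreOf 2 d ⊔ Vof a := hP₁ ▸ (ped.loc1.Q_le (hle hy))
          have hset : ((pCoreOf 2 d ⊔ Vof a : Subgroup G) : Set G) = (pCoreOf 2 d : Set G) * (Vof a : Set G) :=
            Subgroup.coe_mul_of_right_le_normalizer_left _ _
              ((hVa.trans ped.loc2.syl.le).trans (le_normalizer_pCoreOf 2 d))
          obtain ⟨q, hq, v, hv, rfl⟩ : y ∈ (pCoreOf 2 d : Set G) * (Vof a : Set G) := hset ▸ hy1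
          have hI := crit_comm pac.loc1 ped.loc2 hVa hVd hv ht
          have e1 : t * (q * v) * t⁻¹ * (q * v)⁻¹ = t * v * t⁻¹ * v⁻¹ := by
            calc t * (q * v) * t⁻¹ * (q * v)⁻¹ = (t * q) * v * t⁻¹ * v⁻¹ * q⁻¹ := by group
              _ = q * (t * v * t⁻¹ * v⁻¹) * q⁻¹ := by rw [← Vof_comm ht hq]; group
              _ = t * v * t⁻¹ * v⁻¹ := by rw [Vof_comm hI.2 hq, mul_inv_cancel_right]
          rw [e1]
          exact hI.1
      -- `O₂(a) ≤ O₂(w)`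
      have hQ : pCoreOf 2 a ≤ pCoreOf 2 w := fun q hq =>
        pw.loc2.mem_Q hG (pw.loc2.syl.le (pw.loc1.Q_le hq)) fun v hv => Vof_comm (hsub hv) hq
      obtain ⟨u, hu, huQ⟩ := SetLike.not_le_iff_exists.1 pw.loc2.not_le_Q
      have huQa : u ∉ pCoreOf 2 a := fun hm => huQ (hQ hm)
      have e2 : Vof w ⊓ Subgroup.centralizer ({u} : Set G) = Rof a Pw := by
        rw [← fw.off.fix_eq hG fw.loc hu huQa]
        refine le_antisymm (inf_le_inf hsub le_rfl) (le_inf ?_ inf_le_right)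
        rw [fw.off.fix_eq hG fw.loc hu huQa, fw.R_eq hG]
        exact pw.loc2.omegaCenter_le hG
      have e3 : Nat.card (Vof w) = Nat.card (Vof a) := by
        rw [← (pw.loc2.free hG (pw.loc2.syl.le hu) (hQ (fw.off.sq u hu)) huQ).1, e2,
          fw.off.card_sq hG fw.loc]
      have e4 : Vof w = Vof a := Subgroup.eq_of_le_of_card_ge hsub e3.ge
      refine pac.loc1.Vof_ne_bot (pw.core _ ((Vof_le a).trans pw.loc1.Q_le) (le_normalizer_Vof a) ?_)
      rw [← e4]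
      exact le_normalizer_Vof w
    · -- `V_w ≰ O₂(e)`
      have hwe : Walk M₁ M₂ P (m + 1 + 1) w e := .cons hedge.symm hae
      have hgeA := hge.amal p
      have h3 : Vof w ≤ P'' :=
        (hmin _ (Nat.lt_succ_self _) w g (.cons hedge.symm hag)).trans hgeA.loc1.Q_le
      have h4 : Vof e ≤ Pw :=
        (hmin _ (Nat.lt_succ_self _) e a hae.symm).trans pw.loc1.Q_le
      obtain ⟨-, -, hI1⟩ := crit hG pw.loc2 hgeA.loc2 h3 h4 he
      obtain ⟨-, -, hI2⟩ := crit hG hgeA.loc2 pw.loc2 h4 h3 (crit_symm hG pw.loc2 hgeA.loc2 h3 h4 he)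
      rw [hI1, hI2, inf_comm]
  obtain ⟨h, hh, h', hh', hne, hne', hne''⟩ := f.exists_two hG
  have e1 := (nb h hh hne).2 (nb h hh hne).1
  have e2 := (nb h' hh' hne').2 (nb h' hh' hne').1
  have hedge : ∀ k ∈ a, IsSylowIn 2 (P₀ ^ᶜ k) a := fun k hk => by
    have := f.loc.syl.conj k
    rwa [conj_map_eq_self (Subgroup.le_normalizer hk)] at this
  have f1 := f.of_syl hG (hedge h hh)
  have f2 := f.of_syl hG (hedge h' hh')
  have hbot := f1.off.disjoint hG f.loc f2.off (Ne.symm hne'')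
  rw [f1.R_eq hG, f2.R_eq hG, e1, e2, inf_idem] at hbot
  refine f1.off.R_ne_bot hG f.loc ?_
  rw [f1.R_eq hG, e1]
  exact hbot

/-- The shape of an amalgam: `O₂` of the two locals are elementary abelian and generate the common Sylow
subgroup. -/
theorem Amal.shape (hG : IsCIT G) (p : Amal M₁ M₂ P) :
    ∃ A B Q : Subgroup G, Edge M₁ M₂ P A B Q ∧ FF A Q ∧ FF B Q ∧ pCoreOf 2 A = Vof A ∧
      pCoreOf 2 B = Vof B ∧ Vof A ⊔ Vof B = Q ∧ omegaCenter 2 Q = Vof A ⊓ Vof B := by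
  obtain ⟨b, hb⟩ := p.exists_isB
  obtain rfl := hb.eq_one hG p
  obtain ⟨⟨a, d, hw, hn⟩, hmin⟩ := hb
  obtain ⟨c, Q, hac, hcd⟩ := hw.first
  obtain rfl := hcd.eq_of_zero
  have pr := hac.amal p
  have hVa : Vof a ≤ Q := (Vof_le a).trans pr.loc1.Q_le
  have hVd : Vof c ≤ Q := (Vof_le c).trans pr.loc2.Q_le
  have hnd := crit_symm hG pr.loc1 pr.loc2 hVa hVd hn
  obtain ⟨fa, hQa, hR⟩ := crit hG pr.loc1 pr.loc2 hVa hVd hn
  obtain ⟨fd, hQd, -⟩ := crit hG pr.loc2 pr.loc1 hVd hVa hnd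
  have key : ∀ {a d : Subgroup G}, Loc a Q → Loc d Q → FF a Q → ¬ Vof d ≤ pCoreOf 2 a →
      Vof d ≤ Q → Vof d ⊓ pCoreOf 2 a ≤ Vof a → pCoreOf 2 a = Vof a := by
    intro a d La Ld f hne hVQ hI
    refine le_antisymm ?_ (Vof_le a)
    obtain ⟨t, ht, htQ⟩ := SetLike.not_le_iff_exists.1 hne
    obtain ⟨h, hh, hh'⟩ := f.off.exists_ne hG La
    refine f.subset_Vof hG (S := pCoreOf 2 a) subset_rfl (hVQ ht) htQ hh ?_ hh' ?_
    · intro y hy
      have := (Subgroup.mem_normalizer_iff.1 (le_normalizer_pCoreOf 2 a (a.inv_mem hh)) y).1 hy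
      rwa [inv_inv] at this
    · intro y hy
      refine hI (Subgroup.mem_inf.2 ⟨?_, ?_⟩)
      · have h3 := (Vof d).mul_mem ht (conj_mem_Vof (Ld.syl.le (La.Q_le hy)) ((Vof d).inv_mem ht))
        convert h3 using 1
        group
      · exact (pCoreOf 2 a).mul_mem
          ((Subgroup.mem_normalizer_iff.1 (le_normalizer_pCoreOf 2 a (La.syl.le (hVQ ht))) y).1 hy)
          ((pCoreOf 2 a).inv_mem hy)
  have ea : pCoreOf 2 a = Vof a := key pr.loc1 pr.loc2 fa hnd hVd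
    ((crit_half hG pr.loc2 pr.loc1 hVd hVa hnd).2.1.le.trans inf_le_right)
  have ed : pCoreOf 2 c = Vof c := key pr.loc2 pr.loc1 fd hn hVa
    ((crit_half hG pr.loc1 pr.loc2 hVa hVd hn).2.1.le.trans inf_le_right)
  exact ⟨a, c, Q, hac, fa, fd, ea, ed, by rw [hQa, ea], hR⟩

end Amalgam

end Cfsg.Agent.Lib.CIT
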