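import Cfsg.Agent.Lib.CIT.Offender

/-!
# Walks in the coset graph of two locals

Owner: helper2. `Amal M₁ M₂ P`: two non-2-closed locals with a common Sylow 2-subgroup and no common normal
2-subgroup. A walk of conjugates of `(M₁, M₂)` along conjugates of `P` of minimal length `b` with
`V_a ≰ O₂(d)` exists, and its ends form a critical pair.
-/

set_option autoImplicit false
set_option linter.style.haveILetI false
set_option linter.unusedSectionVars false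

open Cfsg

namespace Cfsg.Agent.Lib.CIT

open Cfsg.Agent.Lib.CosetGraph.SylowIn

/-- Conjugate of a subgroup. -/
scoped notation:80 A " ^ᶜ " g:81 => Subgroup.map (MulEquiv.toMonoidHom (MulAut.conj g)) A

variable {G : Type*} [Group G]

theorem mem_conjSub {A : Subgroup G} {g x : G} : x ∈ A ^ᶜ g ↔ g⁻¹ * x * g ∈ A := by
  constructor
  · rintro ⟨y, hy, rfl⟩
    simpa [mul_assoc] using hy
  · exact fun h => ⟨_, h, by simp [mul_assoc]⟩

theorem conjSub_le_normalizer {H N : Subgroup G} (h : H ≤ Subgroup.normalizer (N : Set G)) (g : G) :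
    H ^ᶜ g ≤ Subgroup.normalizer (N ^ᶜ g : Set G) :=
  (Subgroup.map_mono h).trans (Subgroup.map_equiv_normalizer_eq N (MulAut.conj g)).le

theorem conjSub_inv_cancel (A : Subgroup G) (g : G) : (A ^ᶜ g) ^ᶜ g⁻¹ = A := by
  rw [conj_map_map, inv_mul_cancel, conj_map_one]

theorem conjSub_cancel_inv (A : Subgroup G) (g : G) : (A ^ᶜ g⁻¹) ^ᶜ g = A := by
  rw [conj_map_map, mul_inv_cancel, conj_map_one]

theorem pCoreOf_conjSub (p : ℕ) (H : Subgroup G) (g : G) : pCoreOf p (H ^ᶜ g) = pCoreOf p H ^ᶜ g :=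
  (pCoreOf_map p H _ (MulAut.conj g).injective).symm

theorem Vof_conjSub (H : Subgroup G) (g : G) : Vof (H ^ᶜ g) = Vof H ^ᶜ g := by
  rw [Vof, pCoreOf_conjSub, omegaCenter_conj]

theorem Loc.map_conj {H P : Subgroup G} (h : Loc H P) (g : G) : Loc (H ^ᶜ g) (P ^ᶜ g) := by
  refine ⟨h.syl.conj g, ?_, fun hn => h.ncl ?_⟩
  · rw [pCoreOf_conjSub]
    intro e
    exact h.ne ((Subgroup.map_eq_bot_iff_of_injective _ (MulAut.conj g).injective).1 e)
  · have h1 := conjSub_le_normalizer hn g⁻¹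
    rwa [conjSub_inv_cancel, conjSub_inv_cancel] at h1

/-- Two non-2-closed locals with a common Sylow subgroup and no common normal 2-subgroup. -/
structure Amal (M₁ M₂ P : Subgroup G) : Prop where
  loc1 : Loc M₁ P
  loc2 : Loc M₂ P
  core : ∀ N : Subgroup G, N ≤ P → M₁ ≤ Subgroup.normalizer (N : Set G) →
    M₂ ≤ Subgroup.normalizer (N : Set G) → N = ⊥

theorem Amal.symm {M₁ M₂ P : Subgroup G} (p : Amal M₁ M₂ P) : Amal M₂ M₁ P :=
  ⟨p.loc2, p.loc1, fun N h1 h2 h3 => p.core N h1 h3 h2⟩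

theorem Amal.map_conj {M₁ M₂ P : Subgroup G} (p : Amal M₁ M₂ P) (g : G) :
    Amal (M₁ ^ᶜ g) (M₂ ^ᶜ g) (P ^ᶜ g) := by
  refine ⟨p.loc1.map_conj g, p.loc2.map_conj g, fun N h1 h2 h3 => ?_⟩
  have e1 := conjSub_le_normalizer h2 g⁻¹
  have e2 := conjSub_le_normalizer h3 g⁻¹
  rw [conjSub_inv_cancel] at e1 e2
  have e3 := Subgroup.map_mono (f := (MulAut.conj g⁻¹).toMonoidHom) h1
  rw [conjSub_inv_cancel] at e3
  exact (Subgroup.map_eq_bot_iff_of_injective _ (MulAut.conj g⁻¹).injective).1 (p.core _ e3 e1 e2)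

/-- An edge of the coset graph. -/
def Edge (M₁ M₂ P A B Q : Subgroup G) : Prop :=
  ∃ x : G, Q = P ^ᶜ x ∧ ((A = M₁ ^ᶜ x ∧ B = M₂ ^ᶜ x) ∨ (A = M₂ ^ᶜ x ∧ B = M₁ ^ᶜ x))

/-- Walks in the coset graph. -/
inductive Walk (M₁ M₂ P : Subgroup G) : ℕ → Subgroup G → Subgroup G → Prop
  | refl (A : Subgroup G) : Walk M₁ M₂ P 0 A A
  | cons {n : ℕ} {A B C Q : Subgroup G} : Edge M₁ M₂ P A B Q → Walk M₁ M₂ P n B C →
      Walk M₁ M₂ P (n + 1) A C

variable {M₁ M₂ P A B C Q : Subgroup G}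

theorem Edge.symm (h : Edge M₁ M₂ P A B Q) : Edge M₁ M₂ P B A Q := by
  obtain ⟨x, hQ, h | h⟩ := h
  exacts [⟨x, hQ, Or.inr ⟨h.2, h.1⟩⟩, ⟨x, hQ, Or.inl ⟨h.2, h.1⟩⟩]

theorem Edge.amal (p : Amal M₁ M₂ P) (h : Edge M₁ M₂ P A B Q) : Amal A B Q := by
  obtain ⟨x, rfl, ⟨rfl, rfl⟩ | ⟨rfl, rfl⟩⟩ := h
  exacts [p.map_conj x, (p.map_conj x).symm]

theorem Edge.conj (h : Edge M₁ M₂ P A B Q) (g : G) : Edge M₁ M₂ P (A ^ᶜ g) (B ^ᶜ g) (Q ^ᶜ g) := by
  obtain ⟨x, rfl, h⟩ := h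
  refine ⟨g * x, conj_map_map _ _ _, ?_⟩
  rcases h with ⟨rfl, rfl⟩ | ⟨rfl, rfl⟩
  exacts [Or.inl ⟨conj_map_map _ _ _, conj_map_map _ _ _⟩,
    Or.inr ⟨conj_map_map _ _ _, conj_map_map _ _ _⟩]

theorem edge_base : Edge M₁ M₂ P M₁ M₂ P :=
  ⟨1, (conj_map_one P).symm, Or.inl ⟨(conj_map_one _).symm, (conj_map_one _).symm⟩⟩

namespace Walk

variable {n : ℕ}

theorem conj (h : Walk M₁ M₂ P n A B) (g : G) : Walk M₁ M₂ P n (A ^ᶜ g) (B ^ᶜ g) := by
  induction h with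
  | refl A => exact .refl _
  | cons e _ ih => exact .cons (e.conj g) ih

theorem snoc (h : Walk M₁ M₂ P n A B) (e : Edge M₁ M₂ P B C Q) : Walk M₁ M₂ P (n + 1) A C := by
  induction h with
  | refl A => exact .cons e (.refl _)
  | cons e' _ ih => exact .cons e' (ih e)

theorem symm (h : Walk M₁ M₂ P n A B) : Walk M₁ M₂ P n B A := by
  induction h with
  | refl A => exact .refl _
  | cons e _ ih => exact ih.snoc e.symm

theorem eq_of_zero (h : Walk M₁ M₂ P 0 A B) : A = B := by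
  cases h
  rfl

theorem first (h : Walk M₁ M₂ P (n + 1) A B) :
    ∃ D Q, Edge M₁ M₂ P A D Q ∧ Walk M₁ M₂ P n D B := by
  cases h with
  | cons e w => exact ⟨_, _, e, w⟩

theorem last (h : Walk M₁ M₂ P (n + 1) A B) :
    ∃ D Q, Walk M₁ M₂ P n A D ∧ Edge M₁ M₂ P D B Q := by
  obtain ⟨D, Q, e, w⟩ := h.symm.first
  exact ⟨D, Q, w.symm, e.symm⟩

end Walk

/-- `b` is the least length of a walk with `V` of one end not in `O₂` of the other. -/
structure IsB (M₁ M₂ P : Subgroup G) (b : ℕ) : Prop where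
  wit : ∃ A B, Walk M₁ M₂ P b A B ∧ ¬ Vof A ≤ pCoreOf 2 B
  min : ∀ n < b, ∀ A B, Walk M₁ M₂ P n A B → Vof A ≤ pCoreOf 2 B

section Fin

variable [Finite G]

theorem Amal.exists_isB (p : Amal M₁ M₂ P) : ∃ b, IsB M₁ M₂ P (b + 1) := by
  classical
  have hex : ∃ n, ∃ A B, Walk M₁ M₂ P n A B ∧ ¬ Vof A ≤ pCoreOf 2 B := by
    by_contra hno
    push Not at hno
    set N : Subgroup G := ⨆ A : {A : Subgroup G // ∃ n, Walk M₁ M₂ P n A M₁}, Vof A.1 with hN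
    have hNP : N ≤ P := by
      refine iSup_le fun A => ?_
      obtain ⟨n, hn⟩ := A.2
      exact (hno n A.1 M₁ hn).trans p.loc1.Q_le
    have hM : ∀ M : Subgroup G, (∀ A, (∃ n, Walk M₁ M₂ P n A M₁) ↔ ∃ n, Walk M₁ M₂ P n A M) →
        M ≤ Subgroup.normalizer (N : Set G) := by
      intro M hiff g hg
      have key : ∀ h ∈ M, N ^ᶜ h ≤ N := by
        intro h hh
        rw [hN, Subgroup.map_iSup]
        refine iSup_le fun A => ?_
        obtain ⟨n, hn⟩ := (hiff A.1).1 A.2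
        have hw := hn.conj h
        rw [conj_map_eq_self (Subgroup.le_normalizer hh)] at hw
        rw [← Vof_conjSub]
        exact le_iSup (fun B : {B : Subgroup G // ∃ n, Walk M₁ M₂ P n B M₁} => Vof B.1)
          ⟨A.1 ^ᶜ h, (hiff _).2 ⟨n, hw⟩⟩
      rw [mem_normalizer_iff_map]
      refine le_antisymm (key g hg) ?_
      have h1 := Subgroup.map_mono (f := (MulAut.conj g).toMonoidHom) (key g⁻¹ (M.inv_mem hg))
      rwa [conjSub_cancel_inv] at h1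
    have h2 : ∀ A, (∃ n, Walk M₁ M₂ P n A M₁) ↔ ∃ n, Walk M₁ M₂ P n A M₂ := fun A =>
      ⟨fun ⟨n, hn⟩ => ⟨n + 1, hn.snoc edge_base⟩, fun ⟨n, hn⟩ => ⟨n + 1, hn.snoc edge_base.symm⟩⟩
    have hbot := p.core N hNP (hM M₁ fun _ => Iff.rfl) (hM M₂ h2)
    refine p.loc1.Vof_ne_bot (le_bot_iff.1 ?_)
    rw [← hbot]
    exact le_iSup (fun A : {A : Subgroup G // ∃ n, Walk M₁ M₂ P n A M₁} => Vof A.1) ⟨M₁, 0, .refl _⟩
  have hs := Nat.find_spec hex
  have hmin : ∀ n < Nat.find hex, ∀ A B, Walk M₁ M₂ P n A B → Vof A ≤ pCoreOf 2 B :=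
    fun n hn A B hw => by
      by_contra hle
      exact Nat.find_min hex hn ⟨A, B, hw, hle⟩
  rcases Nat.eq_zero_or_pos (Nat.find hex) with e | e
  · obtain ⟨A, B, hw, hle⟩ := hs
    rw [e] at hw
    exact absurd (hw.eq_of_zero ▸ Vof_le B) hle
  · refine ⟨Nat.find hex - 1, ?_⟩
    rw [Nat.sub_add_cancel e]
    exact ⟨hs, hmin⟩

end Fin

end Cfsg.Agent.Lib.CIT
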