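import Cfsg.Agent.Lib.Golay.PSL34
import Cfsg.Agent.Lib.Plane4.Coord
import Cfsg.Agent.S5626
import Cfsg.Agent.S5627

/-!
# A simple group of automorphisms of the plane of order four

Owner: helper2. A simple group of order `20160` acting faithfully on a projective plane of order four is
`PSL(3,4)`: the automorphism group of the plane has order at most `6 · 20160`.
-/

set_option autoImplicit false
set_option linter.style.haveILetI false

open Cfsg

namespace Cfsg.Agent.Lib.CIT

open Cfsg.Agent.Lib.Golay.PSL34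
open scoped Pointwise Matrix

/-- The dot product. -/
def dot34 (a v : Vec) : F4 := a 0 * v 0 + a 1 * v 1 + a 2 * v 2

/-- The lines of the plane over the field with four elements. -/
def lines34 (j : Fin 21) : Finset (Fin 21) := Finset.univ.filter fun i => dot34 (vec j) (vec i) = 0

theorem lines34_card : ∀ j, (lines34 j).card = 5 := by decide +kernel

theorem lines34_pair : ∀ p q : Fin 21, p ≠ q →
    (Finset.univ.filter fun j => p ∈ lines34 j ∧ q ∈ lines34 j).card = 1 := by decide +kernel

theorem dot34_smul_left (c : F4) (a v : Vec) : dot34 (c • a) v = c * dot34 a v := by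
  simp only [dot34, Pi.smul_apply, smul_eq_mul]; ring

theorem dot34_smul_right (c : F4) (a v : Vec) : dot34 a (c • v) = c * dot34 a v := by
  simp only [dot34, Pi.smul_apply, smul_eq_mul]; ring

theorem steiner34 : Cfsg.IsSteinerSystem 2 5 (Set.range lines34) := by
  refine ⟨?_, fun s hs => ?_⟩
  · rintro _ ⟨j, rfl⟩; exact lines34_card j
  · obtain ⟨p, q, hpq, rfl⟩ := Finset.card_eq_two.1 hs
    obtain ⟨j, hj⟩ := Finset.card_eq_one.1 (lines34_pair p q hpq)
    have hjm : j ∈ (Finset.univ.filter fun j => p ∈ lines34 j ∧ q ∈ lines34 j) := by simp [hj]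
    simp only [Finset.mem_filter, Finset.mem_univ, true_and] at hjm
    refine ⟨lines34 j, ⟨⟨j, rfl⟩, by simp [Finset.insert_subset_iff, hjm.1, hjm.2]⟩, ?_⟩
    rintro _ ⟨⟨i, rfl⟩, hi⟩
    have him : i ∈ (Finset.univ.filter fun j => p ∈ lines34 j ∧ q ∈ lines34 j) := by
      simp [hi (by simp : p ∈ ({p, q} : Finset (Fin 21))), hi (by simp : q ∈ ({p, q} : Finset (Fin 21)))]
    rw [hj, Finset.mem_singleton] at him
    rw [him]

theorem dot34_mulVec (M : Matrix (Fin 3) (Fin 3) F4) (a v : Vec) :
    dot34 a (M *ᵥ v) = dot34 (Mᵀ *ᵥ a) v := by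
  simp only [dot34, Matrix.mulVec, dotProduct, Fin.sum_univ_three, Matrix.transpose_apply]
  ring

theorem actHom_mem (g : SL34) : actHom g ∈ Cfsg.setSystemAut (Set.range lines34) := by
  rw [MulAction.mem_stabilizer_iff]
  refine Set.eq_of_subset_of_ncard_le ?_ (by rw [Set.ncard_smul_set]) (Set.toFinite _)
  rintro _ ⟨_, ⟨j, rfl⟩, rfl⟩
  set M : Matrix (Fin 3) (Fin 3) F4 := ((g⁻¹ : SL34) : Matrix (Fin 3) (Fin 3) F4) with hM
  have hne : Mᵀ *ᵥ vec j ≠ 0 := by
    have h := mulVec_ne_zero (Matrix.SpecialLinearGroup.transpose g⁻¹) (vec_spec j).1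
    exact h
  obtain ⟨c, hc, hv⟩ := exists_scalar _ hne
  refine ⟨idxV (Mᵀ *ᵥ vec j), ?_⟩
  ext k
  rw [Finset.mem_smul_finset]
  constructor
  · intro hk
    refine ⟨(actHom g)⁻¹ k, ?_, by simp⟩
    rw [lines34, Finset.mem_filter] at hk ⊢
    refine ⟨Finset.mem_univ _, ?_⟩
    have hk2 := hk.2
    rw [hv, dot34_smul_left, mul_eq_zero] at hk2
    have hk3 := hk2.resolve_left hc
    rw [← dot34_mulVec] at hk3
    rw [← map_inv]
    obtain ⟨d, hd, hvd⟩ := exists_scalar _ (mulVec_ne_zero g⁻¹ (vec_spec k).1)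
    show dot34 (vec j) (vec (act g⁻¹ k)) = 0
    rw [act, hvd, dot34_smul_right, hk3, mul_zero]
  · rintro ⟨i, hi, rfl⟩
    rw [lines34, Finset.mem_filter] at hi ⊢
    refine ⟨Finset.mem_univ _, ?_⟩
    obtain ⟨d, hd, hvd⟩ := exists_scalar _ (mulVec_ne_zero g (vec_spec i).1)
    show dot34 (vec (idxV (Mᵀ *ᵥ vec j))) (vec (act g i)) = 0
    rw [act, hv, hvd, dot34_smul_left, dot34_smul_right, ← dot34_mulVec, Matrix.mulVec_mulVec, hM,
      ← Matrix.SpecialLinearGroup.coe_mul, inv_mul_cancel, Matrix.SpecialLinearGroup.coe_one,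
      Matrix.one_mulVec, hi.2, mul_zero, mul_zero]

/-- The automorphism group of a plane of order four has order at most `168 · 720`. -/
theorem card_aut_le {α : Type*} [Fintype α] [DecidableEq α] (hα : Fintype.card α = 21)
    {L : Set (Finset α)} (hL : Cfsg.IsSteinerSystem 2 5 L) :
    Nat.card (Cfsg.setSystemAut L) ≤ 120960 := by
  classical
  open Lib.Plane4.Basic Lib.Plane4.Coord in
  have hp : IsPlane (Finset.univ.filter fun b => b ∈ L) := ⟨hα, by simpa using hL⟩
  obtain ⟨F⟩ := Lib.Plane4.Coord.exists_frame hp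
  have hLmem : ∀ l, l ∈ (Finset.univ.filter fun b => b ∈ L) ↔ l ∈ L := fun l => by simp
  have haut : ∀ g ∈ Cfsg.setSystemAut L, ∀ l ∈ L, l.image g ∈ L := by
    intro g hg l hl
    have := Set.smul_mem_smul_set (a := g) hl
    rw [MulAction.mem_stabilizer_iff.1 hg] at this
    exact this
  let Hs : Finset (Finset α) := Finset.univ.filter fun H => H.card = 6 ∧ ∀ l ∈ L, (l ∩ H).card ≤ 2
  have hHs : Hs.card = 168 := by
    have h1 := (Cfsg.Agent.S5627.result hα L hL).2.1
    rw [← h1, ← Set.ncard_coe_finset]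
    congr 1
    ext H
    simp [Hs]
  have hF : ∀ g : Cfsg.setSystemAut L, Finset.univ.image (fun i => (g : Equiv.Perm α) (F.h i)) ∈ Hs := by
    intro g
    simp only [Hs, Finset.mem_filter, Finset.mem_univ, true_and]
    have himg : Finset.univ.image (fun i => (g : Equiv.Perm α) (F.h i)) =
        (Finset.univ.image F.h).image (g : Equiv.Perm α) := by rw [Finset.image_image]; rfl
    rw [himg]
    refine ⟨by rw [Finset.card_image_of_injective _ (Equiv.injective _), F.card_H], fun l hl => ?_⟩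
    have hl' := haut (g⁻¹ : Cfsg.setSystemAut L) (g⁻¹).2 l hl
    have h1 := F.arc _ ((hLmem _).2 hl')
    refine le_trans (le_of_eq ?_) h1
    conv_rhs => rw [← Finset.card_image_of_injective _ (g : Equiv.Perm α).injective]
    rw [Finset.image_inter _ _ (g : Equiv.Perm α).injective, Finset.image_image]
    congr 2
    ext x
    simp
  let f : Cfsg.setSystemAut L → Σ H : {H // H ∈ Hs}, (Fin 6 ↪ {x // x ∈ H.1}) := fun g =>
    ⟨⟨_, hF g⟩, ⟨fun i => ⟨(g : Equiv.Perm α) (F.h i), Finset.mem_image_of_mem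
        (fun i => (g : Equiv.Perm α) (F.h i)) (Finset.mem_univ i)⟩,
      fun i j e => F.inj ((g : Equiv.Perm α).injective (congrArg Subtype.val e))⟩⟩
  have hf : Function.Injective f := by
    intro g g' e
    have key : ∀ i, (g : Equiv.Perm α) (F.h i) = (g' : Equiv.Perm α) (F.h i) := fun i =>
      congrArg (fun z : Σ H : {H // H ∈ Hs}, (Fin 6 ↪ {x // x ∈ H.1}) => ((z.2 i : _) : α)) e
    have h1 := F.fixes_all hp ((g'⁻¹ * g : Cfsg.setSystemAut L) : Equiv.Perm α)
      (fun l hl => (hLmem _).2 (haut _ (g'⁻¹ * g).2 l ((hLmem l).1 hl))) (fun i => by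
        show ((g' : Equiv.Perm α))⁻¹ ((g : Equiv.Perm α) (F.h i)) = F.h i
        rw [key]; exact (g' : Equiv.Perm α).symm_apply_apply _)
    exact (inv_mul_eq_one.1 (Subtype.ext h1)).symm
  refine (Nat.card_le_card_of_injective f hf).trans ?_
  rw [Nat.card_eq_fintype_card, Fintype.card_sigma]
  refine le_trans (Finset.sum_le_card_nsmul _ _ 720 fun H _ => ?_) ?_
  · rw [Fintype.card_embedding_eq, Fintype.card_fin, Fintype.card_coe,
      (Finset.mem_filter.1 H.2).2.1]
    decide
  · rw [Finset.card_univ, Fintype.card_coe, hHs]; norm_num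

/-- A simple group of order `20160` acting faithfully on a plane of order four is `PSL(3,4)`. -/
theorem psl_of_plane {G α : Type*} [Group G] [Finite G] [IsSimpleGroup G] [Fintype α] [DecidableEq α]
    (hcard : Nat.card G = 20160) (hα : Fintype.card α = 21) {L : Set (Finset α)}
    (hL : Cfsg.IsSteinerSystem 2 5 L) (φ : G →* Equiv.Perm α) (hφ : Function.Injective φ)
    (hmem : ∀ g, φ g ∈ Cfsg.setSystemAut L) :
    ∃ (F : Type) (_ : Field F) (_ : Fintype F), Fintype.card F = 4 ∧
      Nonempty (G ≃* Matrix.ProjectiveSpecialLinearGroup (Fin 3) F) := by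
  classical
  obtain ⟨e, he⟩ := Cfsg.Agent.S5626.result hα (Fintype.card_fin 21) hL steiner34
  let ψ : G →* Equiv.Perm (Fin 21) := (Equiv.permCongrHom e).toMonoidHom.comp φ
  have hψ : Function.Injective ψ := (Equiv.permCongrHom e).injective.comp hφ
  set A := Cfsg.setSystemAut (Set.range lines34) with hA
  have hψA : ∀ g, ψ g ∈ A := by
    intro g
    rw [hA, MulAction.mem_stabilizer_iff]
    refine Set.eq_of_subset_of_ncard_le ?_ (by rw [Set.ncard_smul_set]) (Set.toFinite _)
    rintro _ ⟨l, hl, rfl⟩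
    rw [← he] at hl ⊢
    obtain ⟨b, hb, rfl⟩ := hl
    have hb' := Set.smul_mem_smul_set (a := φ g) hb
    rw [MulAction.mem_stabilizer_iff.1 (hmem g)] at hb'
    refine ⟨_, hb', ?_⟩
    ext x
    simp [ψ, Finset.mem_smul_finset]
  set N := actHom.range with hN
  have hNA : N ≤ A := by rintro _ ⟨g, rfl⟩; exact actHom_mem g
  have hNcard : Nat.card N = 20160 := by
    rw [← card_PSL, hN, ← Subgroup.index_ker, ker_actHom]
    rfl
  let ψ' : G →* A := ψ.codRestrict A hψA
  have hψ' : Function.Injective ψ' := fun a b h => hψ (congrArg Subtype.val h)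
  set N' := N.subgroupOf A with hN'
  have hidx : N'.index ≤ 6 := by
    have h1 := N'.card_mul_index
    rw [Nat.card_congr (Subgroup.subgroupOfEquivOfLe hNA).toEquiv, hNcard] at h1
    have h2 := card_aut_le (Fintype.card_fin 21) steiner34
    rw [← hA, ← h1] at h2
    omega
  let π : G →* Equiv.Perm (A ⧸ N') := (MulAction.toPermHom A (A ⧸ N')).comp ψ'
  have hker : π.ker = ⊤ := by
    rcases (inferInstance : π.ker.Normal).eq_bot_or_eq_top with h | h
    · exfalso
      have h1 := Nat.card_le_card_of_injective π ((MonoidHom.ker_eq_bot_iff π).1 h)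
      rw [hcard, Nat.card_perm, ← Subgroup.index_eq_card] at h1
      have h2 := Nat.factorial_le hidx
      have h3 : Nat.factorial 6 = 720 := rfl
      omega
    · exact h
  have hle : ∀ g, ψ g ∈ N := by
    intro g
    have h1 : π g = 1 := MonoidHom.mem_ker.1 (hker ▸ Subgroup.mem_top g)
    have h2 : ψ' g • (QuotientGroup.mk 1 : A ⧸ N') = QuotientGroup.mk 1 :=
      congrArg (fun p : Equiv.Perm (A ⧸ N') => p (QuotientGroup.mk 1)) h1
    rw [MulAction.Quotient.smul_mk, smul_eq_mul, mul_one, QuotientGroup.eq, mul_one, inv_mem_iff] at h2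
    exact Subgroup.mem_subgroupOf.1 h2
  let ψN : G →* N := ψ.codRestrict N hle
  have hψN : Function.Injective ψN := fun a b h => hψ (congrArg Subtype.val h)
  have hbij : Function.Bijective ψN := hψN.bijective_of_nat_card_le (le_of_eq (hNcard.trans hcard.symm))
  exact ⟨F4, inferInstance, inferInstance, F4.card_eq, ⟨(MulEquiv.ofBijective ψN hbij).trans
    ((QuotientGroup.quotientKerEquivRange actHom).symm.trans
      (QuotientGroup.quotientMulEquivOfEq ker_actHom))⟩⟩

end Cfsg.Agent.Lib.CIT
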