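import Cfsg.Agent.Lib.CIT.CaseFour
import Cfsg.Agent.Lib.CIT.PlaneRecog

/-!
# The case `|R| = 4`: the projective plane

Owner: helper2. Points are the conjugates of `V`, lines those of `W`, incidence is meeting non-trivially.
Every involution lies in one point and one line. Counting the involutions by their effect on `V` shows
that there are 21 points.
-/

set_option autoImplicit false
set_option linter.style.haveILetI false
set_option linter.unusedSectionVars false

open Cfsg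

namespace Cfsg.Agent.Lib.CIT

open scoped Pointwise
open Cfsg.Agent.Lib.CosetGraph.SylowIn

variable {G : Type*} [Group G]

theorem conjSub_conjSub (A : Subgroup G) (a b : G) : (A ^ᶜ b) ^ᶜ a = A ^ᶜ (a * b) := conj_map_map A a b

theorem conjSub_inf (A B : Subgroup G) (g : G) : (A ⊓ B) ^ᶜ g = A ^ᶜ g ⊓ B ^ᶜ g :=
  Subgroup.map_inf_eq _ _ _ (MulAut.conj g).injective

theorem card_conjSub (A : Subgroup G) (g : G) : Nat.card ↥(A ^ᶜ g) = Nat.card A :=
  Subgroup.card_map_of_injective (MulAut.conj g).injective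

theorem conjSub_eq_bot {A : Subgroup G} {g : G} : A ^ᶜ g = ⊥ ↔ A = ⊥ :=
  Subgroup.map_eq_bot_iff_of_injective (f := (MulAut.conj g).toMonoidHom) A (MulAut.conj g).injective

theorem perm_five : ∀ σ : Equiv.Perm (Fin 5), σ ^ 15 = 1 → σ ^ 3 = 1 ∨ σ ^ 5 = 1 := by decide +kernel

/-- A group of order 15 has no faithful action on five points. -/
theorem not_fifteen {D : Type*} [Group D] (hD : Nat.card D = 15) (φ : D →* Equiv.Perm (Fin 5))
    (hφ : Function.Injective φ) : False := by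
  haveI : Finite D := Nat.finite_of_card_ne_zero (by omega)
  haveI : Fact (Nat.Prime 3) := ⟨Nat.prime_three⟩
  haveI : Fact (Nat.Prime 5) := ⟨by norm_num⟩
  have one : ∀ p q : ℕ, p.Prime → p * q = 15 → ¬ p ∣ q → (∀ n ∈ Finset.range (q + 1), n ∣ q → n % p = 1 → n = 1) →
      ∃ (N : Subgroup D), N.Normal ∧ Nat.card N = p := by
    intro p q hp hpq hnd hn
    haveI : Fact p.Prime := ⟨hp⟩
    obtain ⟨S⟩ := (inferInstance : Nonempty (Sylow p D))
    have hS : Nat.card (S : Subgroup D) = p := by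
      rw [S.card_eq_multiplicity, hD, ← hpq, Nat.factorization_mul hp.ne_zero (by rintro rfl; simp at hpq),
        Finsupp.add_apply, hp.factorization_self, Nat.factorization_eq_zero_of_not_dvd hnd, pow_one]
    have hi : (S : Subgroup D).index = q := by
      have := (S : Subgroup D).card_mul_index
      rw [hS, hD, ← hpq] at this
      exact mul_left_cancel₀ hp.ne_zero this
    have hd := S.card_dvd_index
    rw [hi] at hd
    have hm : Nat.card (Sylow p D) % p = 1 := by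
      have := card_sylow_modEq_one p D
      rw [Nat.ModEq, Nat.mod_eq_of_lt hp.one_lt] at this
      exact this
    have hq0 : 0 < q := Nat.pos_of_ne_zero (by rintro rfl; simp at hpq)
    have h1 := hn _ (Finset.mem_range.2 (Nat.lt_succ_of_le (Nat.le_of_dvd hq0 hd))) hd hm
    haveI : Subsingleton (Sylow p D) := (Nat.card_eq_one_iff_unique.1 h1).1
    exact ⟨S, inferInstance, hS⟩
  obtain ⟨A, hA, hAc⟩ := one 3 5 Nat.prime_three rfl (by norm_num) (by decide)
  obtain ⟨B, hB, hBc⟩ := one 5 3 (by norm_num) rfl (by norm_num) (by decide)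
  have hdis : Disjoint A B := by
    rw [disjoint_iff]
    exact Subgroup.inf_eq_bot_of_coprime (by rw [hAc, hBc]; norm_num)
  obtain ⟨x, hx⟩ := exists_prime_orderOf_dvd_card' (G := A) 3 (by rw [hAc])
  obtain ⟨z, hz⟩ := exists_prime_orderOf_dvd_card' (G := B) 5 (by rw [hBc])
  rw [← Subgroup.orderOf_coe] at hx hz
  have hcomm : Commute (x : D) (z : D) := Subgroup.commute_of_normal_of_disjoint A B hA hB hdis x z x.2 z.2
  have h15 : orderOf ((x : D) * z) = 15 := by
    rw [hcomm.orderOf_mul_eq_mul_orderOf_of_coprime (by rw [hx, hz]; norm_num), hx, hz]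
  rw [← orderOf_injective φ hφ] at h15
  have h := perm_five (φ (x * z)) (by conv_lhs => rw [← h15]; rw [pow_orderOf_eq_one])
  rcases h with h | h <;> · have := Nat.le_of_dvd (by norm_num) (orderOf_dvd_of_pow_eq_one h)
                            omega

variable [Finite G] {V W P : Subgroup G}

/-- The hypotheses of the plane case. -/
structure PlaneCase (V W P : Subgroup G) : Prop where
  cit : IsCIT G
  shape : Shape V W P
  hq : Nat.card ↥(V ⊓ W) = 4
  max : MaxTwo P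

namespace PlaneCase

variable (c : PlaneCase V W P)
include c

omit [Finite G] in
theorem symm : PlaneCase W V P := ⟨c.cit, c.shape.symm, by rw [inf_comm]; exact c.hq, c.max⟩

theorem card_V : Nat.card V = 16 := by rw [← c.shape.card_sq c.cit, c.hq]

theorem cent {z : G} (hz : z ∈ V ⊓ W) (hz1 : z ≠ 1) : Subgroup.centralizer ({z} : Set G) = P :=
  c.max.max _ (c.cit.isPGroup_centralizer c.shape.isP (c.shape.V_le hz.1) hz1) fun _ hg =>
    mem_centralizer_singleton' (c.shape.comm_inf hz hg)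

theorem not_conj (g : G) : V ^ᶜ g ≠ W := by
  haveI : Fact (Nat.Prime 2) := ⟨Nat.prime_two⟩
  intro e
  have s := c.shape
  have hn : Subgroup.normalizer (V : Set G) ^ᶜ g = Subgroup.normalizer (W : Set G) := by
    rw [Subgroup.map_equiv_normalizer_eq V (MulAut.conj g)]
    exact congrArg (fun X : Subgroup G => Subgroup.normalizer (X : Set G)) e
  have h1 := s.ffV.loc.syl.conj g
  rw [hn] at h1
  obtain ⟨k, hk, hke⟩ := h1.exists_conj s.ffW.loc.syl
  rw [conjSub_conjSub] at hke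
  set n := k * g with hnd
  have hnV : V ^ᶜ n = W := by rw [hnd, ← conjSub_conjSub, e, conj_map_eq_self hk]
  have hnP : n ∈ Subgroup.normalizer (P : Set G) := mem_normalizer_iff_map.2 hke
  obtain ⟨a, m, hm, hord⟩ := Nat.exists_eq_two_pow_mul_odd (n := orderOf n) (orderOf_pos n).ne'
  have h2 : IsPGroup 2 ↥(Subgroup.zpowers (n ^ m)) := by
    refine IsPGroup.of_card (n := a) ?_
    rw [Nat.card_zpowers, orderOf_pow_of_dvd (by rintro rfl; simp at hm) (hord ▸ dvd_mul_left _ _), hord,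
      Nat.mul_div_cancel _ (by obtain ⟨r, rfl⟩ := hm; omega)]
  have hY := IsPGroup.to_sup_of_normal_left' s.isP h2 (Subgroup.zpowers_le.2 (Subgroup.pow_mem _ hnP m))
  have hmP : n ^ m ∈ P :=
    (c.max.max _ hY le_sup_left).le (Subgroup.mem_sup_right (Subgroup.mem_zpowers _))
  have hE : ∀ x ∈ W ^ᶜ n, x * x = 1 := by
    rintro _ ⟨x, hx, rfl⟩
    rw [← map_mul, s.symm.sq hx, map_one]
  have hnW : W ^ᶜ n = V := by
    refine (s.eq_or_eq c.cit ((Subgroup.map_mono s.W_le).trans hke.le) hE ?_).resolve_right fun e2 => ?_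
    · rw [card_conjSub, s.card_W c.cit]
    · exact s.ne c.cit (Subgroup.map_injective (f := (MulAut.conj n).toMonoidHom) (MulAut.conj n).injective
        (hnV.trans e2.symm))
  have hn2 : n * n ∈ Subgroup.normalizer (V : Set G) := by
    rw [mem_normalizer_iff_map, ← conjSub_conjSub, hnV, hnW]
  obtain ⟨j, hj⟩ := hm
  have h3 := Subgroup.pow_mem (Subgroup.normalizer (V : Set G)) hn2 j
  have h4 : n ^ m ∈ Subgroup.normalizer (V : Set G) := s.le_normalizerV hmP
  have h5 : n ∈ Subgroup.normalizer (V : Set G) := by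
    have h6 := mul_mem (inv_mem h3) h4
    rwa [hj, pow_succ, pow_mul, pow_two, inv_mul_cancel_left] at h6
  exact s.ne c.cit ((conj_map_eq_self h5).symm.trans hnV)

/-- Every involution of `V` is conjugate in `N(V)` to one of `V ∩ W`. -/
theorem fusion {v : G} (hv : v ∈ V) :
    ∃ g ∈ Subgroup.normalizer (V : Set G), cj g v ∈ V ⊓ W := by
  obtain ⟨P', P'', τ, u₀, t⟩ := c.shape.exists_tri c.cit
  obtain ⟨r, hr, r', hr', rfl⟩ := t.decomp c.cit hv
  by_cases hr'1 : r' = 1
  · exact ⟨1, one_mem _, by rw [hr'1, cj_one]; simpa [cj] using hr⟩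
  suffices key : ∃ u ∈ P, cj u (cj τ r') = r * cj τ r' by
    obtain ⟨u, hu, he⟩ := key
    refine ⟨(u * τ)⁻¹, inv_mem (mul_mem (c.shape.le_normalizerV hu) t.τ_normalizer), ?_⟩
    rw [← he, cj_cj u, cj_inv_cancel]
    exact hr'
  by_cases hr1 : r = 1
  · exact ⟨1, one_mem _, by rw [hr1, cj_one, one_mul]⟩
  obtain ⟨x, hx, hxr⟩ := (c.shape.half c.cit).trans r' hr' hr'1 r hr hr1
  obtain ⟨p, hp, hpx⟩ := t.exists_torus c.cit hx
  obtain ⟨y, hy, he⟩ := t.exists_sqrt c.cit hpx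
  refine ⟨cj y u₀, cj_mem hy.1.2 t.hu, ?_⟩
  have h1 := t.slope_conj c.cit hy (u := u₀) hr'
  rw [t.slope_base c.cit (t.mem_inf_normalizer hy hr'), ← he r' hr', ← t.cj_torus hp hpx hr', hxr] at h1
  exact mul_inv_eq_iff_eq_mul.1 h1

theorem exists_mem_sylow {t : G} (ht : t * t = 1) : ∃ g : G, t ∈ P ^ᶜ g := by
  haveI : Fact (Nat.Prime 2) := ⟨Nat.prime_two⟩
  let T : Sylow 2 G := ⟨P, c.max.isP, fun hY hle => c.max.max _ hY hle⟩
  obtain ⟨Q, hQ⟩ := (isPGroup_zpowers_of_sq (c.max.isP.to_le bot_le)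
    (u := t) (Subgroup.mem_bot.2 ht)).exists_le_sylow
  obtain ⟨g, hg⟩ := MulAction.exists_smul_eq G T Q
  refine ⟨g, ?_⟩
  have h1 := hQ (Subgroup.mem_zpowers t)
  rw [← hg, Sylow.coe_subgroup_smul] at h1
  exact h1

/-- The point containing a given involution of `V ∩ W` is `V`. -/
theorem point_unique {z : G} (hz : z ∈ V ⊓ W) (hz1 : z ≠ 1) {g : G} (h : z ∈ V ^ᶜ g) : V ^ᶜ g = V := by
  have hE : ∀ x ∈ V ^ᶜ g, x * x = 1 := by
    rintro _ ⟨x, hx, rfl⟩
    rw [← map_mul, c.shape.sq hx, map_one]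
  have hle : V ^ᶜ g ≤ P := by
    rw [← c.cent hz hz1]
    intro x hx
    refine mem_centralizer_singleton' ?_
    obtain ⟨a, ha, rfl⟩ := hx
    obtain ⟨b, hb, rfl⟩ := h
    rw [← map_mul, ← map_mul, c.shape.comm ha hb]
  exact (c.shape.eq_or_eq c.cit hle hE (card_conjSub V g)).resolve_right (c.not_conj g)

/-- A point and a line through a common involution form a conjugate of `(V, W)`. -/
theorem flag {a b t : G} (hp : t ∈ V ^ᶜ a) (hl : t ∈ W ^ᶜ b) (ht1 : t ≠ 1) :
    ∃ g : G, (V ^ᶜ a) ^ᶜ g = V ∧ (W ^ᶜ b) ^ᶜ g = W ∧ cj g t ∈ V ⊓ W := by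
  obtain ⟨v, hv, rfl⟩ := hp
  obtain ⟨k, hk, hkv⟩ := c.fusion hv
  set t := (MulAut.conj a).toMonoidHom v with htd
  refine ⟨k * a⁻¹, ?_⟩
  have e : cj (k * a⁻¹) t = cj k v := by
    rw [htd]
    show cj (k * a⁻¹) (cj a v) = cj k v
    rw [cj_cj, inv_mul_cancel_right]
  have hzR : cj (k * a⁻¹) t ∈ V ⊓ W := e ▸ hkv
  refine ⟨?_, ?_, hzR⟩
  · rw [conjSub_conjSub, inv_mul_cancel_right, conj_map_eq_self hk]
  · have h1 := conjSub_cj (x := k * a⁻¹) hl
    rw [conjSub_conjSub] at h1 ⊢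
    exact c.symm.point_unique ⟨hzR.2, hzR.1⟩ (fun e1 => ht1 (cj_eq_one.1 e1)) h1

omit [Finite G] in
theorem conj_sq {g t : G} (ht : t ∈ V ^ᶜ g) : t * t = 1 := by
  obtain ⟨v, hv, rfl⟩ := ht
  rw [← map_mul, c.shape.sq hv, map_one]

/-- An involution lies in at most one point. -/
theorem point_eq {a b t : G} (ha : t ∈ V ^ᶜ a) (hb : t ∈ V ^ᶜ b) (ht1 : t ≠ 1) : V ^ᶜ b = V ^ᶜ a := by
  obtain ⟨v, hv, rfl⟩ := ha
  obtain ⟨k, hk, hkv⟩ := c.fusion hv
  have h1 := conjSub_cj (x := k * a⁻¹) hb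
  have e : cj (k * a⁻¹) ((MulAut.conj a).toMonoidHom v) = cj k v := by
    show cj (k * a⁻¹) (cj a v) = cj k v
    rw [cj_cj, inv_mul_cancel_right]
  rw [conjSub_conjSub, e] at h1
  have h2 := c.point_unique hkv (fun e1 => ht1 (by simp [cj_eq_one.1 e1])) h1
  have h3 := congrArg (fun X : Subgroup G => X ^ᶜ (k * a⁻¹)⁻¹) h2
  simp only [conjSub_conjSub, inv_mul_cancel_left] at h3
  rw [h3, mul_inv_rev, inv_inv, ← conjSub_conjSub, conj_map_eq_self (inv_mem hk)]

/-- Every involution lies in a flag. -/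
theorem exists_flag {t : G} (ht : t * t = 1) (ht1 : t ≠ 1) :
    ∃ a b : G, t ∈ V ^ᶜ a ∧ t ∈ W ^ᶜ b := by
  have key : ∀ {A B : Subgroup G} (d : PlaneCase A B P) {g v : G}, v ∈ A →
      cj g v = t → ∃ a b : G, t ∈ A ^ᶜ a ∧ t ∈ B ^ᶜ b := by
    intro A B d g v hv e
    obtain ⟨k, hk, hkv⟩ := d.fusion hv
    refine ⟨g, g * k⁻¹, e ▸ conjSub_cj hv, ?_⟩
    rw [show t = cj (g * k⁻¹) (cj k v) by rw [cj_cj, inv_mul_cancel_right, e]]
    exact conjSub_cj hkv.2
  obtain ⟨g, y, hy, rfl⟩ := c.exists_mem_sylow ht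
  have hy2 : y * y = 1 := (MulAut.conj g).injective (by
    rw [map_one]; rw [← map_mul] at ht; exact ht)
  rcases c.shape.mem_or_mem c.cit hy hy2 with h | h
  · exact key c h rfl
  · obtain ⟨a, b, ha, hb⟩ := key c.symm h rfl
    exact ⟨b, a, hb, ha⟩

/-- Points normalise the lines through them, lines their points. -/
theorem le_normalizer_of_meet {a b : G} (h : V ^ᶜ a ⊓ W ^ᶜ b ≠ ⊥) :
    W ^ᶜ b ≤ Subgroup.normalizer (V ^ᶜ a : Set G) := by
  obtain ⟨t, ht, ht1⟩ := (Subgroup.bot_or_exists_ne_one _).resolve_left h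
  obtain ⟨g, hgV, hgW, -⟩ := c.flag ht.1 ht.2 ht1
  have h1 := conjSub_le_normalizer (c.shape.W_le.trans c.shape.le_normalizerV) g⁻¹
  rw [← hgV, ← hgW, conjSub_inv_cancel, conjSub_inv_cancel] at h1
  exact h1

/-- The flag data of an incident pair. -/
theorem exists_flag_map {a b : G} (h : V ^ᶜ a ⊓ W ^ᶜ b ≠ ⊥) :
    ∃ g : G, (V ^ᶜ a) ^ᶜ g = V ∧ (W ^ᶜ b) ^ᶜ g = W := by
  obtain ⟨t, ht, ht1⟩ := (Subgroup.bot_or_exists_ne_one _).resolve_left h
  obtain ⟨g, hgV, hgW, -⟩ := c.flag ht.1 ht.2 ht1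
  exact ⟨g, hgV, hgW⟩

theorem card_inter {a b : G} (h : V ^ᶜ a ⊓ W ^ᶜ b ≠ ⊥) : Nat.card ↥(V ^ᶜ a ⊓ W ^ᶜ b) = 4 := by
  obtain ⟨g, hgV, hgW⟩ := c.exists_flag_map h
  rw [← card_conjSub _ g, conjSub_inf, hgV, hgW, c.hq]

/-- Two points have at most one common line. -/
theorem line_unique {a : G} {b₁ b₂ : G} (hne : V ^ᶜ a ≠ V)
    (h₁ : V ⊓ W ^ᶜ b₁ ≠ ⊥) (h₁' : V ^ᶜ a ⊓ W ^ᶜ b₁ ≠ ⊥) (h₂ : V ⊓ W ^ᶜ b₂ ≠ ⊥)
    (h₂' : V ^ᶜ a ⊓ W ^ᶜ b₂ ≠ ⊥) : W ^ᶜ b₁ = W ^ᶜ b₂ := by
  haveI : Fact (Nat.Prime 2) := ⟨Nat.prime_two⟩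
  by_contra hl
  have hV1 : V ^ᶜ (1 : G) = V := conj_map_one V
  set A := V ⊓ W ^ᶜ b₁ with hA
  set B := V ⊓ W ^ᶜ b₂ with hB
  have hAB : A ⊓ B = ⊥ := by
    rw [Subgroup.eq_bot_iff_forall]
    intro t ht
    by_contra ht1
    exact hl (c.symm.point_eq ht.2.2 ht.1.2 ht1)
  have hcA : Nat.card A = 4 := by
    have := c.card_inter (a := 1) (b := b₁) (by rwa [hV1])
    rwa [hV1] at this
  have hcB : Nat.card B = 4 := by
    have := c.card_inter (a := 1) (b := b₂) (by rwa [hV1])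
    rwa [hV1] at this
  have hn : A ≤ Subgroup.normalizer (B : Set G) := by
    intro x hx
    rw [mem_normalizer_iff_map]
    refine Subgroup.eq_of_le_of_card_ge ?_ (card_conjSub B x).ge
    rintro _ ⟨y, hy, rfl⟩
    show cj x y ∈ B
    rw [cj_eq_self (c.shape.comm hx.1 hy.1)]
    exact hy
  have hc := OffenderComp.Aux.card_sup_inf hn
  rw [hAB, Subgroup.card_bot, mul_one, hcA, hcB] at hc
  have hVe : A ⊔ B = V := Subgroup.eq_of_le_of_card_ge (sup_le inf_le_left inf_le_left)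
    (by rw [c.card_V, hc])
  have hVN : V ≤ Subgroup.normalizer (V ^ᶜ a : Set G) := by
    have e₁ : A ≤ W ^ᶜ b₁ := inf_le_right
    have e₂ : B ≤ W ^ᶜ b₂ := inf_le_right
    have n₁ := c.le_normalizer_of_meet h₁'
    have n₂ := c.le_normalizer_of_meet h₂'
    intro x hx
    have hx' : x ∈ (A ⊔ B : Subgroup G) := hVe.symm ▸ hx
    exact sup_le (e₁.trans n₁) (e₂.trans n₂) hx'
  have hY : IsPGroup 2 ↥(V ^ᶜ a ⊔ V) :=
    IsPGroup.to_sup_of_normal_left' ((c.shape.isP.to_le c.shape.V_le).map _)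
      (c.shape.isP.to_le c.shape.V_le) hVN
  -- move `V^a` to `V`
  have h3 := Subgroup.map_mono (f := (MulAut.conj a⁻¹).toMonoidHom) hVN
  have e := Subgroup.map_equiv_normalizer_eq (V ^ᶜ a) (MulAut.conj a⁻¹)
  rw [show Subgroup.normalizer ((V ^ᶜ a) ^ᶜ a⁻¹ : Set G) = Subgroup.normalizer (V : Set G) from
    congrArg (fun X : Subgroup G => Subgroup.normalizer (X : Set G)) (conjSub_inv_cancel V a)] at e
  rw [e] at h3
  obtain ⟨T, hT, hle⟩ := IsSylowIn.exists_le ((c.shape.isP.to_le c.shape.V_le).map _) h3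
  obtain ⟨k, hk, hke⟩ := hT.exists_conj c.shape.ffV.loc.syl
  have h4 : V ^ᶜ (k * a⁻¹) ≤ P := by
    rw [← conjSub_conjSub, ← hke]
    exact Subgroup.map_mono hle
  have hE : ∀ x ∈ V ^ᶜ (k * a⁻¹), x * x = 1 := fun x hx => c.conj_sq hx
  have h5 := (c.shape.eq_or_eq c.cit h4 hE (card_conjSub V _)).resolve_right (c.not_conj _)
  apply hne
  calc V ^ᶜ a = (V ^ᶜ k⁻¹) ^ᶜ a := by rw [conj_map_eq_self (inv_mem hk)]
    _ = ((V ^ᶜ (k * a⁻¹)) ^ᶜ k⁻¹) ^ᶜ a := by rw [h5]
    _ = V := by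
      rw [conjSub_conjSub, conjSub_conjSub, show a * k⁻¹ * (k * a⁻¹) = 1 by group, conj_map_one]

end PlaneCase

/-- The conjugates of a subgroup. -/
abbrev Conjs (A : Subgroup G) : Type _ := {X : Subgroup G // ∃ g : G, X = A ^ᶜ g}

section Counting

open scoped Classical

variable [Fintype G]

open Classical in
/-- The non-trivial elements of a subgroup. -/
noncomputable def sharp (X : Subgroup G) : Finset G := Finset.univ.filter fun t => t ∈ X ∧ t ≠ 1

theorem mem_sharp {X : Subgroup G} {t : G} : t ∈ sharp X ↔ t ∈ X ∧ t ≠ 1 := by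
  classical
  simp [sharp]

theorem card_sharp (X : Subgroup G) : (sharp X).card + 1 = Nat.card X := by
  classical
  have e : sharp X = (Finset.univ.filter fun t => t ∈ X).erase 1 := by
    ext t; simp [mem_sharp, and_comm]
  rw [e, Finset.card_erase_add_one (by simp), Nat.card_eq_fintype_card, Fintype.card_subtype]

open Classical in
/-- The members of a class meeting a subgroup. -/
noncomputable def meeting (A X : Subgroup G) : Finset (Subgroup G) :=
  Finset.univ.filter fun Y => (∃ g, Y = A ^ᶜ g) ∧ X ⊓ Y ≠ ⊥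

theorem mem_meeting {A X Y : Subgroup G} : Y ∈ meeting A X ↔ (∃ g, Y = A ^ᶜ g) ∧ X ⊓ Y ≠ ⊥ :=
  Finset.mem_filter.trans (and_iff_right (Finset.mem_univ _))

namespace PlaneCase

variable (c : PlaneCase V W P)
include c

theorem five : (meeting W V).card = 5 := by
  classical
  have hV1 : V ^ᶜ (1 : G) = V := conj_map_one V
  have hun : sharp V = (meeting W V).biUnion fun l => sharp (V ⊓ l) := by
    ext t
    simp only [Finset.mem_biUnion, mem_sharp, mem_meeting]
    constructor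
    · rintro ⟨ht, ht1⟩
      obtain ⟨-, b, -, hb⟩ := c.exists_flag (c.shape.sq ht) ht1
      exact ⟨W ^ᶜ b, ⟨⟨b, rfl⟩, fun e => ht1 (Subgroup.mem_bot.1 (e ▸ (⟨ht, hb⟩ : t ∈ V ⊓ W ^ᶜ b)))⟩,
        ⟨ht, hb⟩, ht1⟩
    · rintro ⟨l, -, ht, ht1⟩
      exact ⟨ht.1, ht1⟩
  have hdisj : ((meeting W V : Finset (Subgroup G)) : Set (Subgroup G)).PairwiseDisjoint
      fun l => sharp (V ⊓ l) := by
    intro l hl l' hl' hne
    rw [Function.onFun, Finset.disjoint_left]
    intro t ht ht'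
    obtain ⟨⟨b, rfl⟩, -⟩ := mem_meeting.1 hl
    obtain ⟨⟨b', rfl⟩, -⟩ := mem_meeting.1 hl'
    exact hne (c.symm.point_eq (mem_sharp.1 ht').1.2 (mem_sharp.1 ht).1.2 (mem_sharp.1 ht).2)
  have h3 : ∀ l ∈ meeting W V, (sharp (V ⊓ l)).card = 3 := by
    intro l hl
    obtain ⟨⟨b, rfl⟩, hne⟩ := mem_meeting.1 hl
    have h1 := c.card_inter (a := 1) (b := b) (by rwa [hV1])
    rw [hV1, ← card_sharp] at h1
    omega
  have h := congrArg Finset.card hun
  rw [Finset.card_biUnion hdisj, Finset.sum_congr rfl h3, Finset.sum_const, smul_eq_mul] at h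
  have h16 := card_sharp V
  rw [c.card_V, h] at h16
  omega

theorem five_conj {b : G} : (meeting V (W ^ᶜ b)).card = 5 := by
  classical
  rw [← c.symm.five]
  refine Finset.card_bij' (fun X _ => X ^ᶜ b⁻¹) (fun X _ => X ^ᶜ b) ?_ ?_
    (fun X _ => conjSub_cancel_inv X b) (fun X _ => conjSub_inv_cancel X b)
  · intro X hX
    obtain ⟨⟨g, rfl⟩, hne⟩ := mem_meeting.1 hX
    refine mem_meeting.2 ⟨⟨b⁻¹ * g, conjSub_conjSub _ _ _⟩, fun e => hne ?_⟩
    have := congrArg (fun Y : Subgroup G => Y ^ᶜ b) e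
    simpa only [conjSub_inf, conjSub_conjSub, mul_inv_cancel_left, Subgroup.map_bot] using this
  · intro X hX
    obtain ⟨⟨g, rfl⟩, hne⟩ := mem_meeting.1 hX
    refine mem_meeting.2 ⟨⟨b * g, conjSub_conjSub _ _ _⟩, fun e => hne ?_⟩
    have := congrArg (fun Y : Subgroup G => Y ^ᶜ b⁻¹) e
    simpa only [conjSub_inf, conjSub_inv_cancel, conjSub_conjSub, inv_mul_cancel_left, inv_mul_cancel, conj_map_one, Subgroup.map_bot] using this

open Classical in
/-- Points collinear with `V`, other than `V`. -/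
noncomputable def collinear (_c : PlaneCase V W P) : Finset (Subgroup G) :=
  (meeting W V).biUnion fun l => (meeting V l).erase V

theorem card_collinear : c.collinear.card = 20 := by
  classical
  rw [collinear, Finset.card_biUnion]
  · rw [Finset.sum_congr rfl (g := fun _ => 4), Finset.sum_const, c.five, smul_eq_mul]
    intro l hl
    obtain ⟨⟨b, rfl⟩, hne⟩ := mem_meeting.1 hl
    rw [Finset.card_erase_of_mem, c.five_conj]
    exact mem_meeting.2 ⟨⟨1, (conj_map_one V).symm⟩, by rwa [inf_comm]⟩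
  · intro l hl l' hl' hne
    rw [Function.onFun, Finset.disjoint_left]
    intro p hp hp'
    obtain ⟨hpV, hp⟩ := Finset.mem_erase.1 hp
    obtain ⟨-, hp'⟩ := Finset.mem_erase.1 hp'
    obtain ⟨⟨b, rfl⟩, h1⟩ := mem_meeting.1 hl
    obtain ⟨⟨b', rfl⟩, h2⟩ := mem_meeting.1 hl'
    obtain ⟨⟨a, rfl⟩, h3⟩ := mem_meeting.1 hp
    obtain ⟨-, h4⟩ := mem_meeting.1 hp'
    exact hne (c.line_unique hpV h1 (by rwa [inf_comm]) h2 (by rwa [inf_comm]))

/-- An involution normalising a point lies in a line through it. -/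
theorem meet_of_normalizes {a t : G} (ht : t * t = 1) (ht1 : t ≠ 1)
    (hn : t ∈ Subgroup.normalizer (V ^ᶜ a : Set G)) :
    ∃ b : G, t ∈ W ^ᶜ b ∧ V ^ᶜ a ⊓ W ^ᶜ b ≠ ⊥ := by
  haveI : Fact (Nat.Prime 2) := ⟨Nat.prime_two⟩
  set t' := cj a⁻¹ t with ht'
  have hn' : t' ∈ Subgroup.normalizer (V : Set G) := by
    have h1 := conjSub_le_normalizer (H := Subgroup.zpowers t) (Subgroup.zpowers_le.2 hn) a⁻¹
    rw [conjSub_inv_cancel] at h1
    exact h1 (conjSub_cj (Subgroup.mem_zpowers t))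
  have ht'2 : t' * t' = 1 := by rw [ht', ← cj_mul, ht]; simp [cj]
  have h2 : IsPGroup 2 ↥(Subgroup.zpowers t') :=
    isPGroup_zpowers_of_sq (c.max.isP.to_le bot_le) (Subgroup.mem_bot.2 ht'2)
  obtain ⟨T, hT, hle⟩ := IsSylowIn.exists_le h2 (Subgroup.zpowers_le.2 hn')
  obtain ⟨g, hg, rfl⟩ := c.shape.ffV.loc.syl.exists_conj hT
  obtain ⟨y, hy, hyt⟩ := hle (Subgroup.mem_zpowers t')
  change cj g y = t' at hyt
  have hy2 : y * y = 1 := cj_injective g (by rw [cj_mul, hyt, ht'2]; simp [cj])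
  have hty : t = cj a (cj g y) := by rw [hyt, ht', cj_cancel_inv]
  have hVR : V ⊓ W ≠ ⊥ := fun e => by
    have h4 := c.hq
    rw [e, Subgroup.card_bot] at h4
    omega
  rcases c.shape.mem_or_mem c.cit hy hy2 with h | h
  · -- `t` lies in the point
    obtain ⟨p, b, -, hb⟩ := c.exists_flag ht ht1
    refine ⟨b, hb, fun e => ht1 (Subgroup.mem_bot.1 (e ▸ (⟨?_, hb⟩ : t ∈ V ^ᶜ a ⊓ W ^ᶜ b)))⟩
    rw [hty]
    exact conjSub_cj (cj_mem hg h)
  · refine ⟨a * g, ?_, fun e => hVR ?_⟩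
    · rw [hty, cj_cj]; exact conjSub_cj h
    · refine (conjSub_eq_bot (g := a * g)).1 ?_
      rw [conjSub_inf, ← conjSub_conjSub V a g, conj_map_eq_self hg, e]

/-- A Sylow subgroup of `N(V)` is fixed by an element normalising its line. -/
theorem fix_sylow {y g : G} (hyV : y ∈ Subgroup.normalizer (V : Set G))
    (hg : g ∈ Subgroup.normalizer (V : Set G)) (hyl : (W ^ᶜ g) ^ᶜ y = W ^ᶜ g) :
    y ∈ Subgroup.normalizer (P ^ᶜ g : Set G) := by
  rw [mem_normalizer_iff_map]
  have e : P ^ᶜ g = V ⊔ W ^ᶜ g := by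
    conv_lhs => rw [← c.shape.sup_eq]
    rw [Subgroup.map_sup, conj_map_eq_self hg]
  rw [e, Subgroup.map_sup, conj_map_eq_self hyV, hyl]

/-- The common normaliser of two non-collinear points has order at most five. -/
theorem card_common_le {a : G} (hne : V ^ᶜ a ≠ V) (hnc : V ^ᶜ a ∉ c.collinear) :
    Nat.card ↥(Subgroup.normalizer (V : Set G) ⊓ Subgroup.normalizer (V ^ᶜ a : Set G)) ≤ 5 := by
  classical
  set D := Subgroup.normalizer (V : Set G) ⊓ Subgroup.normalizer (V ^ᶜ a : Set G) with hD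
  have hnoinv : ∀ u ∈ D, u * u = 1 → u = 1 := by
    intro u hu hu2
    by_contra hu1
    obtain ⟨b, hb, hbm⟩ := c.meet_of_normalizes (a := 1) hu2 hu1 (by rw [conj_map_one]; exact hu.1)
    obtain ⟨b', hb', hbm'⟩ := c.meet_of_normalizes hu2 hu1 hu.2
    rw [conj_map_one] at hbm
    have e := c.symm.point_eq hb hb' hu1
    refine hnc ?_
    simp only [collinear, Finset.mem_biUnion, mem_meeting]
    refine ⟨W ^ᶜ b, ⟨⟨b, rfl⟩, hbm⟩, Finset.mem_erase.2 ⟨hne, mem_meeting.2 ⟨⟨a, rfl⟩, ?_⟩⟩⟩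
    rw [inf_comm, ← e]
    exact hbm'
  have hodd : Odd (Nat.card D) := by
    rw [← Nat.not_even_iff_odd]
    intro hev
    haveI : Fact (Nat.Prime 2) := ⟨Nat.prime_two⟩
    obtain ⟨u, hu⟩ := exists_prime_orderOf_dvd_card' (G := D) 2 (even_iff_two_dvd.1 hev)
    have hu2 : (u : G) * u = 1 := by
      have := congrArg Subtype.val (hu ▸ pow_orderOf_eq_one u : u ^ 2 = 1)
      simpa [pow_two] using this
    have := hnoinv u u.2 hu2
    rw [show u = 1 from Subtype.ext this, orderOf_one] at hu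
    norm_num at hu
  -- the action on the five lines
  have hmem : ∀ (y : ↥D) (l : {l // l ∈ meeting W V}), l.1 ^ᶜ (y : G) ∈ meeting W V := by
    intro y l
    obtain ⟨⟨b, hb⟩, hlne⟩ := mem_meeting.1 l.2
    refine mem_meeting.2 ⟨⟨(y : G) * b, by rw [hb, conjSub_conjSub]⟩, fun e => hlne ?_⟩
    refine (conjSub_eq_bot (g := (y : G))).1 ?_
    rw [conjSub_inf, conj_map_eq_self y.2.1, e]
  letI : MulAction D {l // l ∈ meeting W V} :=
    { smul := fun y l => ⟨l.1 ^ᶜ (y : G), hmem y l⟩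
      one_smul := fun l => Subtype.ext (show l.1 ^ᶜ (1 : G) = l.1 from conj_map_one _)
      mul_smul := fun x y l => Subtype.ext (show l.1 ^ᶜ ((x : G) * y) = (l.1 ^ᶜ (y : G)) ^ᶜ (x : G) from
        (conjSub_conjSub _ _ _).symm) }
  let ψ := MulAction.toPermHom D {l // l ∈ meeting W V}
  have hψ : Function.Injective ψ := by
    rw [injective_iff_map_eq_one]
    intro y hy
    obtain ⟨P', P'', τ, u₀, t⟩ := c.shape.exists_tri c.cit
    have hτn := t.τ_normalizer
    have hun := c.shape.le_normalizerV t.hu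
    have hfix : ∀ g ∈ Subgroup.normalizer (V : Set G), (W ^ᶜ g) ^ᶜ (y : G) = W ^ᶜ g := by
      intro g hg
      have hl : W ^ᶜ g ∈ meeting W V := by
        refine mem_meeting.2 ⟨⟨g, rfl⟩, fun e => ?_⟩
        have h4 := c.hq
        have h5 : (V ⊓ W) ^ᶜ g = ⊥ := by rw [conjSub_inf, conj_map_eq_self hg, e]
        rw [conjSub_eq_bot.1 h5, Subgroup.card_bot] at h4
        omega
      exact congrArg (fun p : Equiv.Perm {l // l ∈ meeting W V} => (p ⟨_, hl⟩).1) hy
    have hP := c.fix_sylow y.2.1 (one_mem _) (hfix 1 (one_mem _))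
    rw [conj_map_one] at hP
    have hP' := c.fix_sylow y.2.1 hτn (hfix τ hτn)
    rw [t.swap] at hP'
    have hP'' := c.fix_sylow y.2.1 (mul_mem hun hτn) (hfix _ (mul_mem hun hτn))
    rw [← conjSub_conjSub, t.swap, t.move] at hP''
    have hyV := t.fix_three c.cit ⟨⟨y.2.1, hP⟩, hP'⟩ (conj_map_eq_self hP'')
    exact Subtype.ext (hnoinv _ y.2 (c.shape.sq hyV))
  have hdvd := Subgroup.card_dvd_of_injective ψ hψ
  rw [Nat.card_perm, Nat.card_eq_finsetCard, c.five] at hdvd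
  by_contra hgt
  have hle := Nat.le_of_dvd (by decide) hdvd
  have h15 : Nat.card D = 15 := by
    obtain ⟨k, hk⟩ := hodd
    have h120 : Nat.factorial 5 = 120 := rfl
    rw [h120] at hdvd hle
    have h8 : Nat.card D ∣ 15 := by
      refine Nat.Coprime.dvd_of_dvd_mul_left ?_ (hdvd.trans (dvd_of_eq (show 120 = 8 * 15 by norm_num)))
      rw [show (8 : ℕ) = 2 ^ 3 by norm_num]
      exact Nat.Coprime.pow_right _ (Nat.coprime_two_right.2 ⟨k, hk⟩)
    have key : ∀ m ∈ Finset.range 16, m ∣ 15 → 5 < m → m = 15 := by decide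
    have := Nat.le_of_dvd (by norm_num) h8
    exact key _ (Finset.mem_range.2 (by omega)) h8 (by omega)
  have e5 : Fintype.card {l // l ∈ meeting W V} = 5 := by rw [Fintype.card_coe, c.five]
  let e := (Fintype.equivFinOfCardEq e5).permCongrHom
  exact not_fifteen h15 (e.toMonoidHom.comp ψ) (e.injective.comp hψ)

open Classical in
/-- The points. -/
noncomputable def points (_c : PlaneCase V W P) : Finset (Subgroup G) :=
  Finset.univ.filter fun X => ∃ g, X = V ^ᶜ g

omit [Finite G] in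
theorem mem_points {X : Subgroup G} : X ∈ c.points ↔ ∃ g, X = V ^ᶜ g :=
  Finset.mem_filter.trans (and_iff_right (Finset.mem_univ _))

omit [Finite G] in
theorem V_mem_points : V ∈ c.points := c.mem_points.2 ⟨1, (conj_map_one V).symm⟩

theorem collinear_subset : insert V c.collinear ⊆ c.points := by
  classical
  intro X hX
  rcases Finset.mem_insert.1 hX with rfl | hX
  · exact c.V_mem_points
  · simp only [collinear, Finset.mem_biUnion] at hX
    obtain ⟨l, -, hX⟩ := hX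
    exact c.mem_points.2 (mem_meeting.1 (Finset.mem_erase.1 hX).2).1

theorem insert_collinear : (insert V c.collinear).card = 21 := by
  classical
  rw [Finset.card_insert_of_notMem, c.card_collinear]
  intro h
  simp only [collinear, Finset.mem_biUnion] at h
  obtain ⟨l, -, h⟩ := h
  exact (Finset.mem_erase.1 h).1 rfl

/-- There are exactly twenty-one points, each collinear with `V`. -/
theorem points_eq : insert V c.collinear = c.points := by
  classical
  refine Finset.eq_of_subset_of_card_le c.collinear_subset ?_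
  rw [c.insert_collinear]
  set n := c.points.card with hn
  set I : Finset G := c.points.biUnion sharp with hI
  have hmemI : ∀ t, t ∈ I ↔ t * t = 1 ∧ t ≠ 1 := by
    intro t
    simp only [hI, Finset.mem_biUnion, mem_sharp]
    constructor
    · rintro ⟨X, hX, ht, ht1⟩
      obtain ⟨g, rfl⟩ := c.mem_points.1 hX
      exact ⟨c.conj_sq ht, ht1⟩
    · rintro ⟨ht, ht1⟩
      obtain ⟨a, b, ha, -⟩ := c.exists_flag ht ht1
      exact ⟨V ^ᶜ a, c.mem_points.2 ⟨a, rfl⟩, ha, ht1⟩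
  have hIcard : I.card = n * 15 := by
    rw [hI, Finset.card_biUnion, Finset.sum_congr rfl (g := fun _ => 15), Finset.sum_const, smul_eq_mul]
    · intro X hX
      obtain ⟨g, rfl⟩ := c.mem_points.1 hX
      have := card_sharp (V ^ᶜ g)
      rw [card_conjSub, c.card_V] at this
      omega
    · intro X hX Y hY hne
      rw [Function.onFun, Finset.disjoint_left]
      intro t ht ht'
      obtain ⟨g, rfl⟩ := c.mem_points.1 hX
      obtain ⟨g', rfl⟩ := c.mem_points.1 hY
      exact hne (c.point_eq (mem_sharp.1 ht').1 (mem_sharp.1 ht).1 (mem_sharp.1 ht).2)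
  -- the three kinds of involutions
  set A := (meeting W V).biUnion sharp with hA
  set B := (meeting W V).biUnion fun l => ((meeting V l).erase V).biUnion fun p => sharp p \ sharp l with hB
  set C := (c.points \ insert V c.collinear).biUnion fun p => I.filter fun t => V ^ᶜ t = p with hC
  have hsub : I ⊆ A ∪ (B ∪ C) := by
    intro t ht
    obtain ⟨ht2, ht1⟩ := (hmemI t).1 ht
    by_cases hfix : V ^ᶜ t = V
    · refine Finset.mem_union_left _ ?_
      obtain ⟨b, hb, hbm⟩ := c.meet_of_normalizes (a := 1) ht2 ht1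
        (by rw [conj_map_one]; exact mem_normalizer_iff_map.2 hfix)
      rw [conj_map_one] at hbm
      simp only [hA, Finset.mem_biUnion, mem_sharp, mem_meeting]
      exact ⟨W ^ᶜ b, ⟨⟨b, rfl⟩, hbm⟩, hb, ht1⟩
    refine Finset.mem_union_right _ ?_
    by_cases hcol : V ^ᶜ t ∈ c.collinear
    · refine Finset.mem_union_left _ ?_
      simp only [collinear, Finset.mem_biUnion] at hcol
      obtain ⟨l, hl, hp⟩ := hcol
      obtain ⟨hpV, hp⟩ := Finset.mem_erase.1 hp
      obtain ⟨⟨b, rfl⟩, hbm⟩ := mem_meeting.1 hl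
      obtain ⟨-, hpm⟩ := mem_meeting.1 hp
      rw [inf_comm] at hpm
      -- `t` normalises the common line
      have hVtt : (V ^ᶜ t) ^ᶜ t = V := by rw [conjSub_conjSub, ht2, conj_map_one]
      have htl : t ∈ Subgroup.normalizer (W ^ᶜ b : Set G) := by
        rw [mem_normalizer_iff_map, conjSub_conjSub]
        refine c.line_unique hpV ?_ ?_ hbm hpm
        · intro e
          refine hpm ((conjSub_eq_bot (g := t)).1 ?_)
          rw [conjSub_inf, hVtt, conjSub_conjSub, e]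
        · intro e
          refine hbm ((conjSub_eq_bot (g := t)).1 ?_)
          rw [conjSub_inf, conjSub_conjSub, e]
      obtain ⟨a, hta, htm⟩ := c.symm.meet_of_normalizes ht2 ht1 htl
      simp only [hB, Finset.mem_biUnion, Finset.mem_sdiff, mem_sharp]
      refine ⟨W ^ᶜ b, hl, V ^ᶜ a, Finset.mem_erase.2 ⟨fun e => hfix ?_, mem_meeting.2 ⟨⟨a, rfl⟩, htm⟩⟩,
        ⟨hta, ht1⟩, fun h => hfix ?_⟩
      · exact conj_map_eq_self (Subgroup.le_normalizer (e ▸ hta))
      · have h1 := c.le_normalizer_of_meet (a := 1) (b := b) (by rw [conj_map_one]; exact hbm)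
        rw [conj_map_one] at h1
        exact conj_map_eq_self (h1 h.1)
    · refine Finset.mem_union_right _ ?_
      simp only [hC, Finset.mem_biUnion, Finset.mem_sdiff, Finset.mem_insert, Finset.mem_filter]
      exact ⟨V ^ᶜ t, ⟨c.mem_points.2 ⟨t, rfl⟩, fun h => h.elim hfix hcol⟩, ht, rfl⟩
  have hAc : A.card ≤ 75 := by
    refine Finset.card_biUnion_le.trans ((Finset.sum_le_card_nsmul _ _ 15 fun l hl => ?_).trans ?_)
    · obtain ⟨⟨b, rfl⟩, -⟩ := mem_meeting.1 hl
      have := card_sharp (W ^ᶜ b)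
      rw [card_conjSub, c.shape.card_W c.cit, c.card_V] at this
      omega
    · rw [c.five, smul_eq_mul]
  have hBc : B.card ≤ 240 := by
    refine Finset.card_biUnion_le.trans ((Finset.sum_le_card_nsmul _ _ 48 fun l hl => ?_).trans ?_)
    · obtain ⟨⟨b, rfl⟩, hbm⟩ := mem_meeting.1 hl
      refine Finset.card_biUnion_le.trans ((Finset.sum_le_card_nsmul _ _ 12 fun p hp => ?_).trans ?_)
      · obtain ⟨⟨a, rfl⟩, hpm⟩ := mem_meeting.1 (Finset.mem_erase.1 hp).2
        rw [inf_comm] at hpm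
        have e : sharp (W ^ᶜ b) ∩ sharp (V ^ᶜ a) = sharp (V ^ᶜ a ⊓ W ^ᶜ b) := by
          ext x
          simp only [Finset.mem_inter, mem_sharp, Subgroup.mem_inf]
          tauto
        have h1 := card_sharp (V ^ᶜ a ⊓ W ^ᶜ b)
        rw [c.card_inter hpm] at h1
        have h2 := card_sharp (V ^ᶜ a)
        rw [card_conjSub, c.card_V] at h2
        rw [Finset.card_sdiff, e]
        omega
      · rw [Finset.card_erase_of_mem, c.five_conj, smul_eq_mul]
        exact mem_meeting.2 ⟨⟨1, (conj_map_one V).symm⟩, by rwa [inf_comm]⟩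
    · rw [c.five, smul_eq_mul]
  have hCc : C.card ≤ (n - 21) * 5 := by
    refine Finset.card_biUnion_le.trans ((Finset.sum_le_card_nsmul _ _ 5 fun p hp => ?_).trans ?_)
    · obtain ⟨hp, hpn⟩ := Finset.mem_sdiff.1 hp
      obtain ⟨a, rfl⟩ := c.mem_points.1 hp
      simp only [Finset.mem_insert, not_or] at hpn
      rcases (I.filter fun t => V ^ᶜ t = V ^ᶜ a).eq_empty_or_nonempty with e | ⟨t₀, ht₀⟩
      · rw [e]; simp
      refine le_trans ?_ (c.card_common_le hpn.1 hpn.2)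
      rw [Nat.card_eq_fintype_card, Fintype.card_subtype]
      refine Finset.card_le_card_of_injOn (fun t => t₀ * t) ?_ ((mul_right_injective t₀).injOn)
      intro t ht
      obtain ⟨ht₀I, ht₀e⟩ := Finset.mem_filter.1 ht₀
      obtain ⟨htI, hte⟩ := Finset.mem_filter.1 ht
      have ht₀2 := ((hmemI _).1 ht₀I).1
      have ht2 := ((hmemI _).1 htI).1
      refine Finset.mem_filter.2 ⟨Finset.mem_univ _, Subgroup.mem_inf.2 ⟨?_, ?_⟩⟩
      · rw [mem_normalizer_iff_map, ← conjSub_conjSub, hte, ← ht₀e, conjSub_conjSub, ht₀2, conj_map_one]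
      · rw [mem_normalizer_iff_map, ← conjSub_conjSub _ t₀ t]
        conv_lhs => rw [← hte, conjSub_conjSub V t t, ht2, conj_map_one]
        exact ht₀e
    · rw [Finset.card_sdiff_of_subset c.collinear_subset, c.insert_collinear, smul_eq_mul]
  have h1 := Finset.card_le_card hsub
  have h2 := Finset.card_union_le A (B ∪ C)
  have h3 := Finset.card_union_le B C
  omega

theorem card_points : c.points.card = 21 := by rw [← c.points_eq, c.insert_collinear]

/-- Any other point is on exactly one line with `V`. -/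
theorem exists_line {a : G} (hne : V ^ᶜ a ≠ V) :
    ∃ b : G, V ⊓ W ^ᶜ b ≠ ⊥ ∧ V ^ᶜ a ⊓ W ^ᶜ b ≠ ⊥ := by
  classical
  have h : V ^ᶜ a ∈ insert V c.collinear := by rw [c.points_eq]; exact c.mem_points.2 ⟨a, rfl⟩
  simp only [Finset.mem_insert, hne, false_or, collinear, Finset.mem_biUnion] at h
  obtain ⟨l, hl, hp⟩ := h
  obtain ⟨⟨b, rfl⟩, hb⟩ := mem_meeting.1 hl
  exact ⟨b, hb, by rw [inf_comm]; exact (mem_meeting.1 (Finset.mem_erase.1 hp).2).2⟩

theorem card_normalizer : Nat.card ↥(Subgroup.normalizer (V : Set G)) = 960 := by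
  classical
  haveI : Fact (Nat.Prime 2) := ⟨Nat.prime_two⟩
  set N := Subgroup.normalizer (V : Set G) with hN
  set B := borel V P with hB
  have hBcard : Nat.card B = 192 := by
    have hle := c.shape.card_borel c.cit c.hq
    have hP : Nat.card P = 64 := by rw [c.shape.card_P c.cit, c.card_V, c.hq]
    have hPB : P ≤ B := le_inf c.shape.le_normalizerV Subgroup.le_normalizer
    obtain ⟨k, hk⟩ := Subgroup.card_dvd_of_le hPB
    obtain ⟨x, hx, hx1, hxo⟩ := c.shape.exists_odd_borel c.cit (by rw [c.hq]; norm_num)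
    have hd : orderOf x ∣ Nat.card B := Subgroup.orderOf_dvd_natCard B hx
    have hx3 : orderOf x ≠ 1 := fun e => hx1 (orderOf_eq_one_iff.1 e)
    rw [hP] at hk hle
    have hdk : orderOf x ∣ k := by
      refine (Nat.Coprime.dvd_mul_left ?_).1 (hk ▸ hd)
      rw [show (64 : ℕ) = 2 ^ 6 by norm_num]
      exact Nat.Coprime.pow_right _ (Nat.coprime_two_right.2 hxo)
    obtain ⟨r, hr⟩ := hxo
    simp only [hB] at hk ⊢
    have hkpos : 0 < k := by
      rcases Nat.eq_zero_or_pos k with e | e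
      · rw [e, mul_zero] at hk; exact absurd hk Nat.card_pos.ne'
      · exact e
    have := Nat.le_of_dvd hkpos hdk
    omega
  have hBN : B ≤ N := inf_le_left
  have hfix : ∀ g ∈ N, (W ^ᶜ g = W ↔ g ∈ B) := by
    intro g hg
    constructor
    · intro e
      refine Subgroup.mem_inf.2 ⟨hg, ?_⟩
      have := c.fix_sylow hg (one_mem _) (by rw [conj_map_one, e])
      rwa [conj_map_one] at this
    · intro h
      exact conj_map_eq_self (c.shape.borel_le c.cit h).1
  have hmem : ∀ g : ↥N, W ^ᶜ (g : G) ∈ meeting W V := by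
    intro g
    refine mem_meeting.2 ⟨⟨g, rfl⟩, fun e => ?_⟩
    have h4 := c.hq
    have h5 : (V ⊓ W) ^ᶜ (g : G) = ⊥ := by rw [conjSub_inf, conj_map_eq_self g.2, e]
    rw [conjSub_eq_bot.1 h5,
      Subgroup.card_bot] at h4
    omega
  set B' := B.subgroupOf N with hB'
  let f : ↥N ⧸ B' → {l // l ∈ meeting W V} := fun q => ⟨W ^ᶜ (q.out : G), hmem q.out⟩
  have hf : Function.Bijective f := by
    refine ⟨fun q q' e => ?_, fun l => ?_⟩
    · rw [← QuotientGroup.out_eq' q, ← QuotientGroup.out_eq' q']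
      refine QuotientGroup.eq.2 (Subgroup.mem_subgroupOf.2 ?_)
      have e' : W ^ᶜ (q.out : G) = W ^ᶜ (q'.out : G) := congrArg Subtype.val e
      refine (hfix _ (mul_mem (inv_mem q.out.2) q'.out.2)).1 ?_
      show W ^ᶜ ((q.out : G)⁻¹ * (q'.out : G)) = W
      rw [← conjSub_conjSub, ← e', conjSub_inv_cancel]
    · obtain ⟨⟨b, hb⟩, hbm⟩ := mem_meeting.1 l.2
      obtain ⟨g, hgV, hgW⟩ := c.exists_flag_map (a := 1) (b := b) (by rw [conj_map_one, ← hb]; exact hbm)
      rw [conj_map_one] at hgV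
      have hgN : g⁻¹ ∈ N := inv_mem (mem_normalizer_iff_map.2 hgV)
      refine ⟨QuotientGroup.mk ⟨g⁻¹, hgN⟩, Subtype.ext ?_⟩
      obtain ⟨h, hh⟩ := QuotientGroup.mk_out_eq_mul B' ⟨g⁻¹, hgN⟩
      show W ^ᶜ ((QuotientGroup.mk (s := B') (⟨g⁻¹, hgN⟩ : ↥N)).out : G) = l.1
      rw [hh, Subgroup.coe_mul, ← conjSub_conjSub,
        (hfix _ ((h : ↥N)).2).2 (Subgroup.mem_subgroupOf.1 h.2), hb]
      show W ^ᶜ g⁻¹ = W ^ᶜ b
      conv_lhs => rw [← hgW, conjSub_inv_cancel]
  have h1 := Nat.card_eq_of_bijective f hf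
  rw [Nat.card_eq_finsetCard, c.five, ← Subgroup.index_eq_card] at h1
  have h2 := B'.card_mul_index
  rw [Nat.card_congr (Subgroup.subgroupOfEquivOfLe hBN).toEquiv, hBcard, h1] at h2
  omega

/-- The group is `PSL(3,4)`. -/
theorem psl [IsSimpleGroup G] :
    ∃ (F : Type) (_ : Field F) (_ : Fintype F), Fintype.card F = 4 ∧
      Nonempty (G ≃* Matrix.ProjectiveSpecialLinearGroup (Fin 3) F) := by
  classical
  haveI : Fact (Nat.Prime 2) := ⟨Nat.prime_two⟩
  let Ω := {X : Subgroup G // ∃ g, X = V ^ᶜ g}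
  letI : MulAction G Ω :=
    { smul := fun g X => ⟨X.1 ^ᶜ g, by obtain ⟨h, hh⟩ := X.2; exact ⟨g * h, by rw [hh, conjSub_conjSub]⟩⟩
      one_smul := fun X => Subtype.ext (show X.1 ^ᶜ (1 : G) = X.1 from conj_map_one _)
      mul_smul := fun x y X => Subtype.ext (show X.1 ^ᶜ (x * y) = (X.1 ^ᶜ y) ^ᶜ x from
        (conjSub_conjSub _ _ _).symm) }
  haveI : Fintype Ω := Fintype.ofFinite _
  have hΩ : Fintype.card Ω = 21 := by
    rw [← c.card_points, ← Fintype.card_coe c.points]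
    exact Fintype.card_congr (Equiv.subtypeEquivRight fun X => c.mem_points.symm)
  let o : Ω := ⟨V, 1, (conj_map_one V).symm⟩
  have hsmul : ∀ (g : G) (X : Ω), (g • X).1 = X.1 ^ᶜ g := fun _ _ => rfl
  haveI htrans : MulAction.IsPretransitive G Ω := (MulAction.isPretransitive_iff_base o).2 fun X => by
    obtain ⟨g, hg⟩ := X.2
    exact ⟨g, Subtype.ext hg.symm⟩
  have hstab : MulAction.stabilizer G o = Subgroup.normalizer (V : Set G) := by
    ext g
    rw [MulAction.mem_stabilizer_iff, mem_normalizer_iff_map, Subtype.ext_iff]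
    rfl
  have hcardG : Nat.card G = 20160 := by
    have h1 := MulAction.index_stabilizer_of_transitive G o
    rw [hstab, Nat.card_eq_fintype_card, hΩ] at h1
    rw [← (Subgroup.normalizer (V : Set G)).card_mul_index, h1, c.card_normalizer]
  let line : Subgroup G → Finset Ω := fun l => Finset.univ.filter fun X => X.1 ⊓ l ≠ ⊥
  let L : Set (Finset Ω) := {b | ∃ g, b = line (W ^ᶜ g)}
  have hline5 : ∀ b : G, (line (W ^ᶜ b)).card = 5 := by
    intro b
    rw [← c.five_conj (b := b)]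
    refine Finset.card_bij (fun X _ => X.1) (fun X hX => ?_) (fun X _ Y _ e => Subtype.ext e) ?_
    · exact mem_meeting.2 ⟨X.2, by rw [inf_comm]; exact (Finset.mem_filter.1 hX).2⟩
    · intro X hX
      obtain ⟨h1, h2⟩ := mem_meeting.1 hX
      exact ⟨⟨X, h1⟩, Finset.mem_filter.2 ⟨Finset.mem_univ _, by rw [inf_comm]; exact h2⟩, rfl⟩
  have hmove : ∀ (g : G) (l : Subgroup G) (X : Ω), g • X ∈ line (l ^ᶜ g) ↔ X ∈ line l := by
    intro g l X
    simp only [line, Finset.mem_filter, Finset.mem_univ, true_and, hsmul, ← conjSub_inf, ne_eq,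
      conjSub_eq_bot]
  have hL : Cfsg.IsSteinerSystem 2 5 L := by
    refine ⟨?_, fun s hs => ?_⟩
    · rintro _ ⟨g, rfl⟩; exact hline5 g
    obtain ⟨X, Y, hXY, rfl⟩ := Finset.card_eq_two.1 hs
    obtain ⟨g, hg⟩ := MulAction.exists_smul_eq G o X
    obtain ⟨a, ha⟩ := (g⁻¹ • Y).2
    have hne : V ^ᶜ a ≠ V := by
      intro e
      refine hXY ?_
      have : g⁻¹ • Y = o := Subtype.ext (ha.trans e)
      rw [← hg, ← this, smul_inv_smul]
    obtain ⟨b, hb1, hb2⟩ := c.exists_line hne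
    have hX : ∀ l, X ∈ line (l ^ᶜ g) ↔ V ⊓ l ≠ ⊥ := fun l => by
      rw [← hg, hmove]
      exact Finset.mem_filter.trans (and_iff_right (Finset.mem_univ _))
    have hY : ∀ l, Y ∈ line (l ^ᶜ g) ↔ V ^ᶜ a ⊓ l ≠ ⊥ := fun l => by
      rw [← smul_inv_smul g Y, hmove]; simp [line, ha]
    refine ⟨line ((W ^ᶜ b) ^ᶜ g), ⟨⟨g * b, by rw [conjSub_conjSub]⟩, ?_⟩, ?_⟩
    · rw [Finset.insert_subset_iff, Finset.singleton_subset_iff]
      exact ⟨(hX _).2 hb1, (hY _).2 hb2⟩
    rintro _ ⟨⟨h, rfl⟩, hh⟩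
    rw [Finset.insert_subset_iff, Finset.singleton_subset_iff] at hh
    have e : W ^ᶜ h = (W ^ᶜ (g⁻¹ * h)) ^ᶜ g := by rw [conjSub_conjSub, mul_inv_cancel_left]
    rw [e] at hh ⊢
    rw [hX, hY] at hh
    rw [c.line_unique hne hh.1 hh.2 hb1 hb2]
  refine psl_of_plane hcardG hΩ hL (MulAction.toPermHom G Ω) ?_ fun g => ?_
  · rw [← MonoidHom.ker_eq_bot_iff]
    refine ((inferInstance : (MulAction.toPermHom G Ω).ker.Normal).eq_bot_or_eq_top).resolve_right fun h => ?_
    have hall : ∀ X : Ω, X = o := fun X => by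
      obtain ⟨g, hg⟩ := MulAction.exists_smul_eq G o X
      rw [← hg]
      exact congrArg (fun p : Equiv.Perm Ω => p o) (MonoidHom.mem_ker.1 (h ▸ Subgroup.mem_top g))
    have := Fintype.card_le_one_iff.2 fun X Y => (hall X).trans (hall Y).symm
    omega
  · rw [MulAction.mem_stabilizer_iff]
    refine Set.eq_of_subset_of_ncard_le ?_ (by rw [Set.ncard_smul_set]) (Set.toFinite _)
    rintro _ ⟨_, ⟨h, rfl⟩, rfl⟩
    refine ⟨g * h, ?_⟩
    ext X
    rw [Finset.mem_smul_finset, ← conjSub_conjSub]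
    constructor
    · rintro ⟨Y, hY, rfl⟩
      exact (hmove g _ Y).2 hY
    · intro hX
      exact ⟨g⁻¹ • X, (hmove g _ _).1 (by rw [smul_inv_smul]; exact hX), smul_inv_smul g X⟩

end PlaneCase

end Counting

end Cfsg.Agent.Lib.CIT
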