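import Cfsg.Agent.Lib.CIT.TISylow
import Cfsg.Agent.Lib.CIT.Plane
import Cfsg.Agent.Lib.OddOrder.FeitThompson

/-!
# The classification of simple CIT groups

Owner: helper2.
-/

set_option autoImplicit false
set_option linter.style.haveILetI false

open Cfsg

namespace Cfsg.Agent.Lib.CIT

open Cfsg.Agent.Lib.CosetGraph.SylowIn

variable {G : Type*} [Group G] [Finite G]

theorem two_dvd_card [IsSimpleGroup G] (hna : ∃ a b : G, a * b ≠ b * a) : 2 ∣ Nat.card G := by
  rw [← even_iff_two_dvd, ← Nat.not_odd_iff_even]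
  intro hodd
  have := Cfsg.Agent.Lib.OddOrder.FeitThompson.isSolvable_of_odd_card hodd
  obtain ⟨a, b, hab⟩ := hna
  exact hab (IsSimpleGroup.comm_iff_isSolvable.2 this a b)

/-- The amalgam case. -/
theorem psl_of_pair [IsSimpleGroup G] (hG : IsCIT G) (hna : ∃ a b : G, a * b ≠ b * a)
    (hp : ∃ M₁ M₂ P : Subgroup G, Pair M₁ M₂ P) :
    (∃ (F : Type) (_ : Field F) (_ : Fintype F),
        (Fintype.card F = 9 ∨ (∃ n : ℕ, Fintype.card F = 2 ^ n) ∨
          ((Fintype.card F).Prime ∧ ∃ k : ℕ, Fintype.card F = 2 ^ k + 1 ∨ Fintype.card F + 1 = 2 ^ k)) ∧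
        Nonempty (G ≃* Matrix.ProjectiveSpecialLinearGroup (Fin 2) F)) ∨
    (∃ (F : Type) (_ : Field F) (_ : Fintype F), Fintype.card F = 4 ∧
        Nonempty (G ≃* Matrix.ProjectiveSpecialLinearGroup (Fin 3) F)) := by
  haveI : Fact (Nat.Prime 2) := ⟨Nat.prime_two⟩
  obtain ⟨M₁, M₂, P, p⟩ := hp
  obtain ⟨V, W, Q, s⟩ := p.shape hG
  letI := Fintype.ofFinite G
  obtain ⟨k, hk⟩ := IsPGroup.iff_card.1 (s.isP.to_le (inf_le_left.trans s.V_le : V ⊓ W ≤ Q))
  have h4 := s.card_inf_le hG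
  have h1 := s.one_lt hG
  rw [hk] at h4 h1
  have hk2 : k ≤ 2 := by
    by_contra hlt
    have := Nat.pow_le_pow_right two_pos (show 3 ≤ k by omega)
    omega
  interval_cases k
  · simp at h1
  · exact Or.inl (s.psl_of_two hG hna (by rw [hk]; norm_num))
  · have hq : Nat.card ↥(V ⊓ W) = 4 := by rw [hk]; norm_num
    exact Or.inr (PlaneCase.psl ⟨hG, s, hq, s.maxTwo_of_four hG hq⟩)

/-- Simple CIT groups. -/
theorem classification [IsSimpleGroup G] (hna : ∃ a b : G, a * b ≠ b * a) (hG : IsCIT G) :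
    (∃ (F : Type) (_ : Field F) (_ : Fintype F),
        (Fintype.card F = 9 ∨ (∃ n : ℕ, Fintype.card F = 2 ^ n) ∨
          ((Fintype.card F).Prime ∧ ∃ k : ℕ, Fintype.card F = 2 ^ k + 1 ∨ Fintype.card F + 1 = 2 ^ k)) ∧
        Nonempty (G ≃* Matrix.ProjectiveSpecialLinearGroup (Fin 2) F)) ∨
    (∃ (F : Type) (_ : Field F) (_ : Fintype F), Fintype.card F = 4 ∧
        Nonempty (G ≃* Matrix.ProjectiveSpecialLinearGroup (Fin 3) F)) ∨
    Cfsg.IsSuzuki G := by
  haveI : Fact (Nat.Prime 2) := ⟨Nat.prime_two⟩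
  rcases exists_pair_or_ti hG with hp | hti
  · exact (psl_of_pair hG hna hp).imp id Or.inl
  obtain ⟨T⟩ := (inferInstance : Nonempty (Sylow 2 G))
  have hnn : ¬ (T : Subgroup G).Normal := by
    intro hn
    rcases hn.eq_bot_or_eq_top with e | e
    · have := T.dvd_card_of_dvd_card (two_dvd_card hna)
      rw [e, Subgroup.card_bot] at this
      omega
    · obtain ⟨a, b, hab⟩ := hna
      haveI : Group.IsNilpotent G :=
        (IsPGroup.of_equiv T.2 ((MulEquiv.subgroupCongr e).trans Subgroup.topEquiv)).isNilpotent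
      exact hab (IsSimpleGroup.comm_iff_isSolvable.2 inferInstance a b)
  have c : TICase T := ⟨hG, Involutions.StronglyEmbedded.isStronglyEmbedded_normalizer_of_ti T hnn (fun g hg => by
      rw [inf_comm]
      exact hti T g fun hn => hg (conj_map_eq_self hn)), hti T⟩
  exact c.psl_or_suzuki.imp id Or.inr

end Cfsg.Agent.Lib.CIT
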