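import Cfsg.Agent.Lib.CIT.Basic
import Cfsg.Agent.Lib.Involutions.StronglyEmbedded

/-!
# Quadratic offenders in CIT locals

Owner: helper2. If a non-2-closed local `H` contains a 2-subgroup `A ≥ Q = O₂(H)` acting quadratically on
`V = Ω₁(Z(Q))` with `|A/Q| = |C_V(A)|`, then `A` is a Sylow 2-subgroup of `H`, there are `|C_V(A)| + 1`
conjugates of it and their fixed spaces partition `V`.
-/

set_option autoImplicit false
set_option linter.style.haveILetI false
set_option linter.unusedSectionVars false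

open Cfsg

namespace Cfsg.Agent.Lib.CIT

open Cfsg.Agent.Lib.CosetGraph.SylowIn

variable {G : Type*} [Group G]

/-- `C_V(A)`. -/
abbrev Rof (H A : Subgroup G) : Subgroup G := Vof H ⊓ Subgroup.centralizer (A : Set G)

/-- A quadratic offender, given by its preimage in `H`. -/
structure Off (H A : Subgroup G) : Prop where
  le : A ≤ H
  isP : IsPGroup 2 A
  Qle : pCoreOf 2 H ≤ A
  ne : ¬ A ≤ pCoreOf 2 H
  sq : ∀ u ∈ A, u * u ∈ pCoreOf 2 H
  quad : ∀ u ∈ A, ∀ v ∈ Vof H, ∀ a ∈ A, a * (u * v * u⁻¹ * v⁻¹) = u * v * u⁻¹ * v⁻¹ * a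
  card : Nat.card A = Nat.card (pCoreOf 2 H) * Nat.card (Rof H A)

theorem mem_Rof {H A : Subgroup G} {v : G} :
    v ∈ Rof H A ↔ v ∈ Vof H ∧ ∀ a ∈ A, a * v = v * a :=
  ⟨fun h => ⟨h.1, Subgroup.mem_centralizer_iff.1 h.2⟩, fun h => ⟨h.1, Subgroup.mem_centralizer_iff.2 h.2⟩⟩

theorem comm_mem {H : Subgroup G} {g v : G} (hg : g ∈ H) (hv : v ∈ Vof H) :
    g * v * g⁻¹ * v⁻¹ ∈ Vof H :=
  (Vof H).mul_mem (conj_mem_Vof hg hv) ((Vof H).inv_mem hv)

theorem conj_map_map (A : Subgroup G) (a b : G) :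
    (A.map (MulAut.conj b).toMonoidHom).map (MulAut.conj a).toMonoidHom
      = A.map (MulAut.conj (a * b)).toMonoidHom := by
  rw [Subgroup.map_map]
  congr 1
  ext x
  simp [mul_assoc]

theorem conj_map_one (A : Subgroup G) : A.map (MulAut.conj (1 : G)).toMonoidHom = A := by
  rw [map_one]; exact A.map_id

namespace Off

variable {H P A B : Subgroup G}

theorem mem_R (hA : Off H A) {u v : G} (hu : u ∈ A) (hv : v ∈ Vof H) :
    u * v * u⁻¹ * v⁻¹ ∈ Rof H A :=
  mem_Rof.2 ⟨comm_mem (hA.le hu) hv, hA.quad u hu v hv⟩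

theorem map_conj (hA : Off H A) {g : G} (hg : g ∈ H) :
    Off H (A.map (MulAut.conj g).toMonoidHom) := by
  have hH : H.map (MulAut.conj g).toMonoidHom = H := conj_map_eq_self (Subgroup.le_normalizer hg)
  have hQ := conj_map_eq_self (le_normalizer_pCoreOf 2 H hg)
  have hV := conj_map_eq_self (le_normalizer_Vof H hg)
  have hinj : Function.Injective (MulAut.conj g).toMonoidHom := (MulAut.conj g).injective
  refine ⟨?_, hA.isP.map _, ?_, ?_, ?_, ?_, ?_⟩
  · exact (Subgroup.map_mono hA.le).trans hH.le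
  · exact hQ.ge.trans (Subgroup.map_mono hA.Qle)
  · exact fun h => hA.ne ((Subgroup.map_le_map_iff_of_injective hinj).1 (h.trans hQ.ge))
  · rintro _ ⟨u, hu, rfl⟩
    rw [← map_mul]
    exact hQ.le ⟨_, hA.sq u hu, rfl⟩
  · rintro _ ⟨u, hu, rfl⟩ v hv _ ⟨a, ha, rfl⟩
    obtain ⟨w, hw, rfl⟩ := hV.ge hv
    simp only [← map_mul, ← map_inv]
    rw [hA.quad u hu w hw a ha]
  · rw [Subgroup.card_map_of_injective hinj, hA.card]
    congr 1
    have e : Rof H (A.map (MulAut.conj g).toMonoidHom) = (Rof H A).map (MulAut.conj g).toMonoidHom := by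
      rw [Subgroup.map_inf_eq _ _ _ hinj, centralizer_map_equiv, hV]
    rw [e, Subgroup.card_map_of_injective hinj]

variable [Finite G] (hG : IsCIT G) (h : Loc H P) (hA : Off H A)
include hG h hA

theorem fix_eq {u : G} (hu : u ∈ A) (huQ : u ∉ pCoreOf 2 H) :
    Vof H ⊓ Subgroup.centralizer ({u} : Set G) = Rof H A := by
  refine le_antisymm (fun c hc => ?_) (inf_le_inf le_rfl (Subgroup.centralizer_le (by simpa using hu)))
  obtain ⟨v, hv, rfl⟩ := (h.free hG (hA.le hu) (hA.sq u hu) huQ).2.2 c hc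
  exact hA.mem_R hu hv

theorem card_sq : Nat.card (Rof H A) * Nat.card (Rof H A) = Nat.card (Vof H) := by
  obtain ⟨u, hu, huQ⟩ := SetLike.not_le_iff_exists.1 hA.ne
  rw [← hA.fix_eq hG h hu huQ]
  exact (h.free hG (hA.le hu) (hA.sq u hu) huQ).1

theorem one_lt_card : 1 < Nat.card (Rof H A) := by
  by_contra hle
  have h1 : Nat.card (Rof H A) = 1 := le_antisymm (not_lt.1 hle) Nat.card_pos
  have h2 := hA.card_sq hG h
  rw [h1, one_mul] at h2
  exact h.Vof_ne_bot (Subgroup.card_eq_one.1 h2.symm)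

theorem R_ne_bot : Rof H A ≠ ⊥ := fun e => by
  have h1 := hA.one_lt_card hG h
  rw [e, Subgroup.card_bot] at h1
  omega

theorem exists_notMem_R : ∃ v ∈ Vof H, v ∉ Rof H A := by
  by_contra hno
  push Not at hno
  have h1 := Subgroup.card_le_of_le (show Vof H ≤ Rof H A from hno)
  have h2 := hA.card_sq hG h
  have h3 := hA.one_lt_card hG h
  nlinarith

/-- A group acting quadratically with fixed space `R` is no larger than `A`. -/
theorem card_le (hBH : B ≤ H) (hsq : ∀ u ∈ B, u * u ∈ pCoreOf 2 H)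
    (hquad : ∀ u ∈ B, ∀ v ∈ Vof H, u * v * u⁻¹ * v⁻¹ ∈ Rof H A)
    (hcent : ∀ u ∈ B, ∀ c ∈ Rof H A, u * c = c * u) :
    Nat.card B ≤ Nat.card (pCoreOf 2 H) * Nat.card (Rof H A) := by
  obtain ⟨v₀, hv₀, hv₀R⟩ := hA.exists_notMem_R hG h
  let f : ↥B →* ↥(Rof H A) :=
    MonoidHom.mk' (fun u => ⟨(u : G) * v₀ * (u : G)⁻¹ * v₀⁻¹, hquad u u.2 v₀ hv₀⟩) fun a b =>
      Subtype.ext (by
        show (a : G) * b * v₀ * ((a : G) * b)⁻¹ * v₀⁻¹ = _ * _
        have h1 := hcent a a.2 _ (hquad b b.2 v₀ hv₀)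
        have h2 := Vof_comm' (hquad a a.2 v₀ hv₀).1 (hquad b b.2 v₀ hv₀).1
        calc (a : G) * b * v₀ * ((a : G) * b)⁻¹ * v₀⁻¹
            = (a : G) * ((b : G) * v₀ * (b : G)⁻¹ * v₀⁻¹) * (v₀ * (a : G)⁻¹ * v₀⁻¹) := by group
          _ = ((b : G) * v₀ * (b : G)⁻¹ * v₀⁻¹) * ((a : G) * v₀ * (a : G)⁻¹ * v₀⁻¹) := by
              rw [h1]; group
          _ = _ := h2)
  have hker : f.ker ≤ (pCoreOf 2 H).subgroupOf B := by
    intro u hu
    by_contra huQ
    rw [Subgroup.mem_subgroupOf] at huQ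
    have e : (u : G) * v₀ * (u : G)⁻¹ * v₀⁻¹ = 1 := congrArg Subtype.val (MonoidHom.mem_ker.1 hu)
    rw [mul_inv_eq_one, mul_inv_eq_iff_eq_mul] at e
    have h1 := (h.free hG (hBH u.2) (hsq u u.2) huQ).1
    have h2 := hA.card_sq hG h
    have h4 : Rof H A ≤ Vof H ⊓ Subgroup.centralizer ({(u : G)} : Set G) := fun c hc =>
      ⟨hc.1, mem_centralizer_singleton' (hcent u u.2 c hc).symm⟩
    have h5 := Subgroup.eq_of_le_of_card_ge h4 (by nlinarith)
    exact hv₀R (h5 ▸ ⟨hv₀, mem_centralizer_singleton' e.symm⟩)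
  have h1 := f.ker.card_mul_index
  rw [Subgroup.index_ker] at h1
  rw [← h1]
  refine Nat.mul_le_mul ((Subgroup.card_le_of_le hker).trans ?_) (Subgroup.card_le_card_group _)
  exact Nat.card_le_card_of_injective (fun x => (⟨(x : ↥B), x.2⟩ : pCoreOf 2 H))
    fun x y e => Subtype.ext (Subtype.ext (congrArg (fun z : pCoreOf 2 H => (z : G)) e))

theorem eq_of_normalizes {A' : Subgroup G} (hA' : Off H A')
    (hn : A' ≤ Subgroup.normalizer (A : Set G)) : A' = A := by
  have hnR : ∀ σ ∈ A', ∀ c ∈ Rof H A, σ * c * σ⁻¹ ∈ Rof H A := by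
    intro σ hσ c hc
    refine mem_Rof.2 ⟨conj_mem_Vof (hA'.le hσ) hc.1, fun a ha => ?_⟩
    have h1 : σ⁻¹ * a * σ ∈ A := by
      simpa using (Subgroup.mem_normalizer_iff.1 (hn (A'.inv_mem hσ)) a).1 ha
    calc a * (σ * c * σ⁻¹) = σ * (σ⁻¹ * a * σ * c) * σ⁻¹ := by group
      _ = σ * (c * (σ⁻¹ * a * σ)) * σ⁻¹ := by rw [(mem_Rof.1 hc).2 _ h1]
      _ = σ * c * σ⁻¹ * a := by group
  by_cases hR : Rof H A' = Rof H A
  · have hsup : A ⊔ A' ≤ H := sup_le hA.le hA'.le
    let L : Subgroup G :=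
      { carrier := {u | u ∈ H ∧ (∀ v ∈ Vof H, u * v * u⁻¹ * v⁻¹ ∈ Rof H A) ∧
          ∀ c ∈ Rof H A, u * c = c * u}
        one_mem' := ⟨one_mem _, fun v _ => by simp, fun c _ => by rw [one_mul, mul_one]⟩
        mul_mem' := fun {a b} ha hb => ⟨mul_mem ha.1 hb.1, fun v hv => by
            have h1 := (Rof H A).mul_mem (ha.2.1 _ (conj_mem_Vof hb.1 hv)) (hb.2.1 v hv)
            convert h1 using 1; group,
          fun c hc => by rw [mul_assoc, hb.2.2 c hc, ← mul_assoc, ha.2.2 c hc, mul_assoc]⟩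
        inv_mem' := fun {a} ha => ⟨inv_mem ha.1, fun v hv => by
            have h1 := (Rof H A).inv_mem (ha.2.1 _ (conj_mem_Vof (inv_mem ha.1) hv))
            convert h1 using 1; group,
          fun c hc => ((show Commute a c from ha.2.2 c hc).inv_left).eq⟩ }
    have hL : A ⊔ A' ≤ L := by
      refine sup_le (fun u hu => ⟨hA.le hu, fun v hv => hA.mem_R hu hv,
        fun c hc => (mem_Rof.1 hc).2 u hu⟩) fun u hu => ⟨hA'.le hu, fun v hv => hR ▸ hA'.mem_R hu hv,
        fun c hc => (mem_Rof.1 (hR.symm ▸ hc : c ∈ Rof H A')).2 u hu⟩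
    have hsq : ∀ u ∈ A ⊔ A', u * u ∈ pCoreOf 2 H := by
      intro u hu
      obtain ⟨huH, hq, hc⟩ := hL hu
      refine h.mem_Q hG (H.mul_mem huH huH) fun v hv => ?_
      have h1 := hq v hv
      have h2 := hc _ h1
      calc u * u * v = u * (u * v * u⁻¹ * v⁻¹) * (v * u) := by group
        _ = (u * v * u⁻¹ * v⁻¹) * (u * v * u⁻¹ * v⁻¹) * (v * (u * u)) := by rw [h2]; group
        _ = v * (u * u) := by rw [Vof_sq h1.1, one_mul]
    have h1 := hA.card_le hG h (B := A ⊔ A') hsup hsq (fun u hu => (hL hu).2.1) fun u hu => (hL hu).2.2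
    rw [← hA.card] at h1
    have e1 : A = A ⊔ A' := Subgroup.eq_of_le_of_card_ge le_sup_left h1
    have e2 : A' = A ⊔ A' := Subgroup.eq_of_le_of_card_ge le_sup_right (by
      rw [hA'.card, hR, ← hA.card]; exact h1)
    exact e2.trans e1.symm
  · exfalso
    have hcardeq : Nat.card (Rof H A) = Nat.card (Rof H A') :=
      Nat.mul_self_inj.1 ((hA.card_sq hG h).trans (hA'.card_sq hG h).symm)
    obtain ⟨r, hr, hr'⟩ : ∃ r ∈ Rof H A, r ∉ Rof H A' := by
      by_contra hno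
      push Not at hno
      exact hR (Subgroup.eq_of_le_of_card_ge hno hcardeq.ge).symm
    let f : ↥A' →* ↥(Rof H A ⊓ Rof H A') :=
      MonoidHom.mk' (fun σ => ⟨(σ : G) * r * (σ : G)⁻¹ * r⁻¹,
        ⟨(Rof H A).mul_mem (hnR σ σ.2 r hr) ((Rof H A).inv_mem hr), hA'.mem_R σ.2 hr.1⟩⟩)
        fun a b => Subtype.ext (by
          show (a : G) * b * r * ((a : G) * b)⁻¹ * r⁻¹ = _ * _
          have h1 := (mem_Rof.1 (hA'.mem_R b.2 hr.1)).2 a a.2
          have h2 := Vof_comm' (hA'.mem_R a.2 hr.1).1 (hA'.mem_R b.2 hr.1).1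
          calc (a : G) * b * r * ((a : G) * b)⁻¹ * r⁻¹
              = (a : G) * ((b : G) * r * (b : G)⁻¹ * r⁻¹) * (r * (a : G)⁻¹ * r⁻¹) := by group
            _ = ((b : G) * r * (b : G)⁻¹ * r⁻¹) * ((a : G) * r * (a : G)⁻¹ * r⁻¹) := by
                rw [h1]; group
            _ = _ := h2)
    have hker : f.ker ≤ (pCoreOf 2 H).subgroupOf A' := by
      intro u hu
      by_contra huQ
      rw [Subgroup.mem_subgroupOf] at huQ
      have e : (u : G) * r * (u : G)⁻¹ * r⁻¹ = 1 := congrArg Subtype.val (MonoidHom.mem_ker.1 hu)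
      rw [mul_inv_eq_one, mul_inv_eq_iff_eq_mul] at e
      exact hr' (hA'.fix_eq hG h u.2 huQ ▸ ⟨hr.1, mem_centralizer_singleton' e.symm⟩)
    have h1 := f.ker.card_mul_index
    rw [Subgroup.index_ker] at h1
    have h2 : Nat.card f.ker ≤ Nat.card (pCoreOf 2 H) :=
      (Subgroup.card_le_of_le hker).trans
        (Nat.card_le_card_of_injective (fun x => (⟨(x : ↥A'), x.2⟩ : pCoreOf 2 H))
          fun x y e => Subtype.ext (Subtype.ext (congrArg (fun z : pCoreOf 2 H => (z : G)) e)))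
    have h3 : Nat.card ↥(Rof H A ⊓ Rof H A') < Nat.card (Rof H A') := by
      refine lt_of_le_of_ne (Subgroup.card_le_of_le inf_le_right) fun e => ?_
      have h5 : Rof H A' ≤ Rof H A :=
        (Subgroup.eq_of_le_of_card_ge (inf_le_right (a := Rof H A)) e.ge).ge.trans inf_le_left
      exact hR (Subgroup.eq_of_le_of_card_ge h5 hcardeq.le)
    have h4 : Nat.card f.range ≤ Nat.card ↥(Rof H A ⊓ Rof H A') := Subgroup.card_le_card_group _
    rw [hA'.card] at h1
    have h5 : 0 < Nat.card (pCoreOf 2 H) := Nat.card_pos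
    have h6 := Nat.mul_le_mul h2 h4
    nlinarith

theorem le_normalizer {T : Subgroup G} (hAT : A ≤ T) (hTH : T ≤ H) (hT : IsPGroup 2 T) :
    T ≤ Subgroup.normalizer (A : Set G) := by
  haveI : Fact (Nat.Prime 2) := ⟨Nat.prime_two⟩
  set N := T ⊓ Subgroup.normalizer (A : Set G) with hN
  by_contra hne
  have hlt : N < T := lt_of_le_of_ne inf_le_left fun e => hne (e ▸ inf_le_right)
  haveI : Group.IsNilpotent T := hT.isNilpotent
  have hlt' := Involutions.StronglyEmbedded.lt_inf_normalizer (X := N) (P := T) hlt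
  obtain ⟨g, ⟨hgT, hgn⟩, hgN⟩ := SetLike.exists_of_lt hlt'
  refine hgN ⟨hgT, ?_⟩
  change g ∈ Subgroup.normalizer (A : Set G)
  rw [mem_normalizer_iff_map]
  refine hA.eq_of_normalizes hG h (hA.map_conj (hTH hgT)) ?_
  exact ((Subgroup.map_mono (show A ≤ N from le_inf hAT Subgroup.le_normalizer)).trans
    (conj_map_eq_self hgn).le).trans inf_le_right

theorem eq_of_two {A' T : Subgroup G} (hA' : Off H A') (hT : IsPGroup 2 T) (hTH : T ≤ H)
    (hAT : A ≤ T) (hA'T : A' ≤ T) : A' = A :=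
  hA.eq_of_normalizes hG h hA' (hA'T.trans (hA.le_normalizer hG h hAT hTH hT))

theorem disjoint {A' : Subgroup G} (hA' : Off H A') (hne : A' ≠ A) :
    Rof H A ⊓ Rof H A' = ⊥ := by
  rw [Subgroup.eq_bot_iff_forall]
  rintro v ⟨hv, hv'⟩
  by_contra hv1
  refine hne (hA.eq_of_two hG h hA' (T := A ⊔ A') (hG.isPGroup_of_commute (Vof_isPGroup H) hv.1 hv1
    fun g hg => ?_) (sup_le hA.le hA'.le) le_sup_left le_sup_right)
  have hle : A ⊔ A' ≤ Subgroup.centralizer ({v} : Set G) :=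
    sup_le (fun a ha => mem_centralizer_singleton' ((mem_Rof.1 hv).2 a ha))
      fun a ha => mem_centralizer_singleton' ((mem_Rof.1 hv').2 a ha)
  exact Subgroup.mem_centralizer_singleton_iff.1 (hle hg)

theorem not_normalizes {A' : Subgroup G} (hA' : Off H A') (hne : A' ≠ A) {u : G} (hu : u ∈ A)
    (huQ : u ∉ pCoreOf 2 H) : A'.map (MulAut.conj u).toMonoidHom ≠ A' := by
  intro e
  have huR : ∀ c ∈ Rof H A', u * c * u⁻¹ ∈ Rof H A' := by
    intro c hc
    refine mem_Rof.2 ⟨conj_mem_Vof (hA.le hu) hc.1, fun a ha => ?_⟩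
    obtain ⟨b, hb, rfl⟩ := e.ge ha
    show u * b * u⁻¹ * (u * c * u⁻¹) = u * c * u⁻¹ * (u * b * u⁻¹)
    calc u * b * u⁻¹ * (u * c * u⁻¹) = u * (b * c) * u⁻¹ := by group
      _ = u * (c * b) * u⁻¹ := by rw [(mem_Rof.1 hc).2 b hb]
      _ = _ := by group
  obtain ⟨c, hc, hc1⟩ := (Rof H A').bot_or_exists_ne_one.resolve_left (hA'.R_ne_bot hG h)
  have hbot := hA.disjoint hG h hA' hne
  have hd : u * c * u⁻¹ * c⁻¹ ∈ Rof H A ⊓ Rof H A' :=
    ⟨hA.mem_R hu hc.1, (Rof H A').mul_mem (huR c hc) ((Rof H A').inv_mem hc)⟩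
  rw [hbot, Subgroup.mem_bot, mul_inv_eq_one, mul_inv_eq_iff_eq_mul] at hd
  have hcA : c ∈ Rof H A := hA.fix_eq hG h hu huQ ▸ ⟨hc.1, mem_centralizer_singleton' hd.symm⟩
  have h2 : c ∈ Rof H A ⊓ Rof H A' := ⟨hcA, hc⟩
  rw [hbot] at h2
  exact hc1 h2

theorem exists_ne : ∃ g ∈ H, A.map (MulAut.conj g).toMonoidHom ≠ A := by
  by_contra hno
  push Not at hno
  exact hA.ne (le_pCoreOf hA.le (fun g hg => mem_normalizer_iff_map.2 (hno g hg)) hA.isP)

theorem transitive {A' B : Subgroup G} (hA' : Off H A') (hne : A' ≠ A) (hB : Off H B) (hBne : B ≠ A) :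
    ∃ u ∈ A, A'.map (MulAut.conj u).toMonoidHom = B := by
  classical
  by_contra hno
  push Not at hno
  haveI : Fintype G := Fintype.ofFinite G
  set q := Nat.card (Rof H A) with hq
  let f : ↥A → Subgroup G := fun u => A'.map (MulAut.conj (u : G)).toMonoidHom
  have hfib : ∀ a b : ↥A, f a = f b → ((a⁻¹ * b : ↥A) : G) ∈ pCoreOf 2 H := by
    intro a b e
    by_contra hQ
    refine hA.not_normalizes hG h hA' hne (a⁻¹ * b).2 hQ ?_
    rw [Subgroup.coe_mul, Subgroup.coe_inv, ← conj_map_map]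
    change (f b).map _ = _
    rw [← e]
    show (A'.map _).map _ = _
    rw [conj_map_map, inv_mul_cancel, conj_map_one]
  have horb : q ≤ (Finset.univ.image f).card := by
    set K := (pCoreOf 2 H).subgroupOf A with hK
    have h1 : Nat.card (↥A ⧸ K) = q := by
      rw [← Subgroup.index_eq_card]
      have h2 := K.card_mul_index
      rw [Nat.card_congr (Subgroup.subgroupOfEquivOfLe hA.Qle).toEquiv, hA.card] at h2
      exact Nat.eq_of_mul_eq_mul_left Nat.card_pos h2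
    rw [← h1, ← Nat.card_eq_finsetCard]
    refine Nat.card_le_card_of_injective
      (fun x => ⟨f x.out, Finset.mem_image_of_mem f (Finset.mem_univ _)⟩) fun x y e => ?_
    rw [← QuotientGroup.out_eq' x, ← QuotientGroup.out_eq' y]
    exact QuotientGroup.eq.2 (hfib _ _ (congrArg Subtype.val e))
  set s : Finset (Subgroup G) := insert B (insert A (Finset.univ.image f)) with hs
  have hoff : ∀ X ∈ s, Off H X := by
    intro X hX
    rw [hs, Finset.mem_insert, Finset.mem_insert, Finset.mem_image] at hX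
    rcases hX with rfl | rfl | ⟨u, -, rfl⟩
    exacts [hB, hA, hA'.map_conj (hA.le u.2)]
  have hscard : q + 2 ≤ s.card := by
    rw [hs, Finset.card_insert_of_notMem, Finset.card_insert_of_notMem]
    · omega
    · rw [Finset.mem_image]
      rintro ⟨u, -, e⟩
      refine hne ?_
      have h3 := congrArg (Subgroup.map (MulAut.conj (u : G)⁻¹).toMonoidHom) e
      rwa [conj_map_map, inv_mul_cancel, conj_map_one,
        conj_map_eq_self (Subgroup.le_normalizer (A.inv_mem u.2))] at h3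
    · rw [Finset.mem_insert, Finset.mem_image]
      rintro (e | ⟨u, -, e⟩)
      · exact hBne e
      · exact hno u u.2 e
  let g : Subgroup G → Finset G := fun X => Finset.univ.filter fun v => v ∈ Rof H X ∧ v ≠ 1
  have hgcard : ∀ X ∈ s, (g X).card = q - 1 := by
    intro X hX
    have e : g X = (Finset.univ.filter fun v => v ∈ Rof H X).erase 1 := by
      ext v; simp [g, and_comm]
    rw [e, Finset.card_erase_of_mem (by simp)]
    congr 1
    rw [← Fintype.card_subtype, ← Nat.card_eq_fintype_card]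
    exact Nat.mul_self_inj.1 (((hoff X hX).card_sq hG h).trans (hA.card_sq hG h).symm)
  have hdisj : (s : Set (Subgroup G)).PairwiseDisjoint g := by
    intro X hX Y hY hXY
    rw [Function.onFun, Finset.disjoint_left]
    intro v hv hv'
    simp only [g, Finset.mem_filter] at hv hv'
    have h2 : v ∈ Rof H X ⊓ Rof H Y := ⟨hv.2.1, hv'.2.1⟩
    rw [(hoff X hX).disjoint hG h (hoff Y hY) hXY.symm] at h2
    exact hv.2.2 h2
  have hsub : s.biUnion g ⊆ (Finset.univ.filter fun v => v ∈ Vof H).erase 1 := by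
    intro v hv
    simp only [Finset.mem_biUnion, g, Finset.mem_filter] at hv
    obtain ⟨X, -, -, hv, hv1⟩ := hv
    exact Finset.mem_erase.2 ⟨hv1, Finset.mem_filter.2 ⟨Finset.mem_univ _, hv.1⟩⟩
  have h1 := Finset.card_le_card hsub
  rw [Finset.card_biUnion hdisj, Finset.sum_congr rfl hgcard, Finset.sum_const, smul_eq_mul,
    Finset.card_erase_of_mem (by simp), ← Fintype.card_subtype, ← Nat.card_eq_fintype_card] at h1
  have h2 := hA.card_sq hG h
  have h3 := hA.one_lt_card hG h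
  have h4 : Nat.card {v // v ∈ Vof H} = q * q := h2.symm
  rw [h4] at h1
  obtain ⟨c, hc⟩ : ∃ c, q = c + 2 := ⟨q - 2, by omega⟩
  rw [hc] at h1 hscard
  simp only [show c + 2 - 1 = c + 1 by omega] at h1
  have h5 : (c + 4) * (c + 1) ≤ (c + 2) * (c + 2) - 1 :=
    le_trans (Nat.mul_le_mul_right _ (by omega)) h1
  have h6 : (c + 4) * (c + 1) + 1 ≤ (c + 2) * (c + 2) := by
    have : 1 ≤ (c + 2) * (c + 2) := Nat.mul_pos (by omega) (by omega)
    omega
  nlinarith

/-- An offender is a Sylow 2-subgroup. -/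
theorem eq_of_le {T : Subgroup G} (hAT : A ≤ T) (hTH : T ≤ H) (hT : IsPGroup 2 T) : T = A := by
  classical
  by_contra hne
  obtain ⟨σ₀, hσ₀, hσ₀A⟩ := SetLike.exists_of_lt (lt_of_le_of_ne hAT (Ne.symm hne))
  have hTn := hA.le_normalizer hG h hAT hTH hT
  obtain ⟨g, hg, hgne⟩ := hA.exists_ne hG h
  set A' := A.map (MulAut.conj g).toMonoidHom with hA'def
  have hA' : Off H A' := hA.map_conj hg
  obtain ⟨a, ha, hae⟩ := hA.transitive hG h hA' hgne (hA'.map_conj (hTH hσ₀)) (by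
    intro e
    refine hgne ?_
    have h3 := congrArg (Subgroup.map (MulAut.conj σ₀⁻¹).toMonoidHom) e
    rwa [conj_map_map, inv_mul_cancel, conj_map_one, conj_map_eq_self (hTn (T.inv_mem hσ₀))] at h3)
  -- an element of `T` outside `A` normalising `A'`, with square in `Q`
  set τ := a⁻¹ * σ₀ with hτ
  have hτT : τ ∈ T := T.mul_mem (T.inv_mem (hAT ha)) hσ₀
  have hτA : τ ∉ A := fun hm => hσ₀A (by simpa [hτ] using A.mul_mem ha hm)
  have hτN : τ ∈ Subgroup.normalizer (A' : Set G) := by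
    rw [mem_normalizer_iff_map, hτ, ← conj_map_map, ← hae, conj_map_map, inv_mul_cancel, conj_map_one]
  have hτQ : τ ∉ pCoreOf 2 H := fun hm => hτA (hA.Qle hm)
  obtain ⟨k, hk⟩ := hT ⟨τ, hτT⟩
  have hk' : τ ^ 2 ^ k = 1 := by simpa using congrArg Subtype.val hk
  have hex : ∃ j, τ ^ 2 ^ j ∈ pCoreOf 2 H := ⟨k, by rw [hk']; exact one_mem _⟩
  have hj := Nat.find_spec hex
  obtain ⟨j, hjeq⟩ : ∃ j, Nat.find hex = j + 1 := by
    rcases Nat.eq_zero_or_pos (Nat.find hex) with e | e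
    · rw [e] at hj
      exact absurd (by simpa using hj) hτQ
    · exact ⟨_, (Nat.succ_pred_eq_of_pos e).symm⟩
  set σ := τ ^ 2 ^ j with hσdef
  have hσQ : σ ∉ pCoreOf 2 H := Nat.find_min hex (by omega)
  have hσ2 : σ * σ ∈ pCoreOf 2 H := by
    rw [hσdef, ← pow_add, ← two_mul, ← pow_succ', ← hjeq]; exact hj
  have hσT : σ ∈ T := T.pow_mem hτT _
  have hσN' : σ ∈ Subgroup.normalizer (A' : Set G) := Subgroup.pow_mem _ hτN _
  -- a fixed point of `σ` on `X / Q`
  have key : ∀ X : Subgroup G, Off H X → σ ∈ Subgroup.normalizer (X : Set G) →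
      ∃ t ∈ X, t ∉ pCoreOf 2 H ∧ σ * t * σ⁻¹ * t⁻¹ ∈ pCoreOf 2 H := by
    intro X hX hσX
    have hcX : ∀ x ∈ X, σ * x * σ⁻¹ ∈ X := fun x hx => (Subgroup.mem_normalizer_iff.1 hσX x).1 hx
    obtain ⟨x, hx, hxQ⟩ := SetLike.not_le_iff_exists.1 hX.ne
    by_cases hc : σ * x * σ⁻¹ * x⁻¹ ∈ pCoreOf 2 H
    · exact ⟨x, hx, hxQ, hc⟩
    have hQn := fun (y : G) (hy : y ∈ H) (z : G) =>
      (Subgroup.mem_normalizer_iff.1 (le_normalizer_pCoreOf 2 H hy) z)
    set t := σ * x * σ⁻¹ * x⁻¹ with htd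
    have htX : t ∈ X := X.mul_mem (hcX x hx) (X.inv_mem hx)
    refine ⟨t, htX, hc, ?_⟩
    have hQ1 : σ * t * σ⁻¹ * t ∈ pCoreOf 2 H := by
      have e : σ * t * σ⁻¹ * t = σ * σ * x * (σ * σ)⁻¹ * x⁻¹ := by rw [htd]; group
      rw [e, mul_assoc (σ * σ * x)]
      have h1 : x * (σ * σ)⁻¹ * x⁻¹ ∈ pCoreOf 2 H :=
        (hQn x (hX.le hx) _).1 (inv_mem hσ2)
      have h2 := (pCoreOf 2 H).mul_mem hσ2 h1
      convert h2 using 1
      group
    have h3 := (pCoreOf 2 H).mul_mem hQ1 ((pCoreOf 2 H).inv_mem (hX.sq t htX))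
    convert h3 using 1
    group
  obtain ⟨t, ht, htQ, htc⟩ := key A hA (hTn hσT)
  obtain ⟨t', ht', ht'Q, ht'c⟩ := key A' hA' hσN'
  set D := Subgroup.closure ({t, t'} : Set G) with hD
  have hDH : D ≤ H := (Subgroup.closure_le _).2 (by
    rintro y (rfl | rfl); exacts [hA.le ht, hA'.le ht'])
  -- `D` centralises `σ` modulo `Q`
  let C : Subgroup G :=
    { carrier := {g | g ∈ H ∧ σ * g * σ⁻¹ * g⁻¹ ∈ pCoreOf 2 H}
      one_mem' := ⟨one_mem _, by simp⟩
      mul_mem' := fun {a b} ha hb => ⟨mul_mem ha.1 hb.1, by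
        have h1 := (pCoreOf 2 H).mul_mem ha.2
          ((Subgroup.mem_normalizer_iff.1 (le_normalizer_pCoreOf 2 H ha.1) _).1 hb.2)
        convert h1 using 1; group⟩
      inv_mem' := fun {a} ha => ⟨inv_mem ha.1, by
        have h1 := (Subgroup.mem_normalizer_iff.1 (le_normalizer_pCoreOf 2 H (inv_mem ha.1)) _).1
          ((pCoreOf 2 H).inv_mem ha.2)
        convert h1 using 1; group⟩ }
  have hDC : D ≤ C := (Subgroup.closure_le _).2 (by
    rintro y (rfl | rfl); exacts [⟨hA.le ht, htc⟩, ⟨hA'.le ht', ht'c⟩])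
  by_cases hD2 : IsPGroup 2 D
  · -- `D` fixes a point of `V`
    haveI : Fact (Nat.Prime 2) := ⟨Nat.prime_two⟩
    have hDn : D ≤ Subgroup.normalizer (Vof H : Set G) := hDH.trans (le_normalizer_Vof H)
    letI : MulAction D (Vof H) :=
      { smul := fun d v => ⟨(d : G) * v * (d : G)⁻¹, conj_mem_Vof (hDH d.2) v.2⟩
        one_smul := fun v => Subtype.ext (show (1 : G) * v * (1 : G)⁻¹ = v by simp)
        mul_smul := fun a b v => Subtype.ext
          (show ((a : G) * b) * v * ((a : G) * b)⁻¹ = (a : G) * ((b : G) * v * (b : G)⁻¹) * (a : G)⁻¹ by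
            group) }
    have h1 : (1 : Vof H) ∈ MulAction.fixedPoints D (Vof H) := fun d =>
      Subtype.ext (show (d : G) * (1 : G) * (d : G)⁻¹ = 1 by simp)
    haveI : Nontrivial (Vof H) := (Subgroup.nontrivial_iff_ne_bot _).2 h.Vof_ne_bot
    obtain ⟨n, hn, hcardV⟩ := (Vof_isPGroup H).nontrivial_iff_card.mp this
    obtain ⟨v, hv, hv1⟩ := hD2.exists_fixed_point_of_prime_dvd_card_of_fixed_point (Vof H)
      (hcardV ▸ dvd_pow_self 2 (by omega)) h1
    have hfix : ∀ d ∈ D, d * (v : G) = v * d := fun d hd => by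
      have e : d * (v : G) * d⁻¹ = v := congrArg Subtype.val (hv ⟨d, hd⟩)
      exact mul_inv_eq_iff_eq_mul.1 e
    have h2 : (v : G) ∈ Rof H A ⊓ Rof H A' := by
      refine ⟨?_, ?_⟩
      · exact hA.fix_eq hG h ht htQ ▸
          ⟨v.2, mem_centralizer_singleton' (hfix t (Subgroup.subset_closure (Or.inl rfl))).symm⟩
      · exact hA'.fix_eq hG h ht' ht'Q ▸
          ⟨v.2, mem_centralizer_singleton' (hfix t' (Subgroup.subset_closure (Or.inr rfl))).symm⟩
    rw [hA.disjoint hG h hA' hgne] at h2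
    exact hv1 (Subtype.ext (Subgroup.mem_bot.1 h2)).symm
  · obtain ⟨x, hxD, hx1, hxo⟩ := exists_odd_ne_one hD2
    obtain ⟨hxH, hxc⟩ := hDC hxD
    refine hx1 (hG.eq_one_of_mod hT (hA.Qle.trans hAT) hσT hσQ hxo (le_normalizer_pCoreOf 2 H hxH) ?_)
    have h1 := (Subgroup.mem_normalizer_iff.1 (le_normalizer_pCoreOf 2 H (H.inv_mem (hTH hσT))) _).1
      (inv_mem hxc)
    convert h1 using 1
    group

theorem isSylowIn : IsSylowIn 2 A H := by
  haveI : Fact (Nat.Prime 2) := ⟨Nat.prime_two⟩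
  obtain ⟨T, hT, hle⟩ := IsSylowIn.exists_le hA.isP hA.le
  rwa [hA.eq_of_le hG h hle hT.le hT.isPGroup] at hT

end Off

/-- Every Sylow 2-subgroup is an offender. -/
structure FF (H P : Subgroup G) : Prop where
  loc : Loc H P
  off : Off H P

namespace FF

variable [Finite G] {H P : Subgroup G}

theorem of_off (hG : IsCIT G) (h : Loc H P) {A : Subgroup G} (hA : Off H A) : FF H P := by
  haveI : Fact (Nat.Prime 2) := ⟨Nat.prime_two⟩
  obtain ⟨g, hg, rfl⟩ := (hA.isSylowIn hG h).exists_conj h.syl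
  exact ⟨h, hA.map_conj hg⟩

theorem loc_of_syl (h : Loc H P) {T : Subgroup G} (hT : IsSylowIn 2 T H) : Loc H T := by
  haveI : Fact (Nat.Prime 2) := ⟨Nat.prime_two⟩
  refine ⟨hT, h.ne, fun hn => ?_⟩
  obtain ⟨g, hg, rfl⟩ := hT.exists_conj h.syl
  exact h.ncl (by rwa [conj_map_eq_self (hn hg)])

theorem of_syl (hG : IsCIT G) (f : FF H P) {T : Subgroup G} (hT : IsSylowIn 2 T H) : FF H T :=
  of_off hG (loc_of_syl f.loc hT) f.off

/-- `C_V(P) = Ω₁(Z(P))`. -/
theorem R_eq (hG : IsCIT G) (f : FF H P) : Rof H P = omegaCenter 2 P := by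
  refine le_antisymm (fun v hv => ?_) fun v hv =>
    mem_Rof.2 ⟨f.loc.omegaCenter_le hG hv, (mem_omegaCenter.1 hv).2.1⟩
  exact mem_omegaCenter.2 ⟨f.off.Qle (Vof_le H hv.1), (mem_Rof.1 hv).2, Vof_sq hv.1⟩

/-- There are two further Sylow subgroups besides a given one. -/
theorem exists_two (hG : IsCIT G) (f : FF H P) : ∃ g ∈ H, ∃ g' ∈ H,
    P.map (MulAut.conj g).toMonoidHom ≠ P ∧ P.map (MulAut.conj g').toMonoidHom ≠ P ∧
      P.map (MulAut.conj g).toMonoidHom ≠ P.map (MulAut.conj g').toMonoidHom := by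
  obtain ⟨g, hg, hne⟩ := f.off.exists_ne hG f.loc
  obtain ⟨u, hu, huQ⟩ := SetLike.not_le_iff_exists.1 f.off.ne
  refine ⟨g, hg, u * g, H.mul_mem (f.off.le hu) hg, hne, ?_, ?_⟩
  · intro e
    refine hne ?_
    have h3 := congrArg (Subgroup.map (MulAut.conj u⁻¹).toMonoidHom) e
    rwa [conj_map_map, inv_mul_cancel_left,
      conj_map_eq_self (Subgroup.le_normalizer (P.inv_mem hu))] at h3
  · rw [← conj_map_map]
    exact (f.off.not_normalizes hG f.loc (f.off.map_conj hg) hne hu huQ).symm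

end FF

end Cfsg.Agent.Lib.CIT
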