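import Cfsg.Agent.Lib.CIT.Critical

/-!
# The shape of the Sylow subgroup of an amalgam

Owner: helper2. `Shape V W P`: `V`, `W` are elementary abelian of order `q²`, `P = VW` of order `q³` is a
Sylow 2-subgroup of both normalisers, and `V ∩ W = Z(P)` has order `q`.
-/

set_option autoImplicit false
set_option linter.style.haveILetI false
set_option linter.unusedSectionVars false

open Cfsg

namespace Cfsg.Agent.Lib.CIT

open scoped Pointwise
open Cfsg.Agent.Lib.CosetGraph.SylowIn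

variable {G : Type*} [Group G]

/-- An amalgam whose Sylow subgroup is a Sylow subgroup of the normalisers of both `O₂`. -/
structure Pair (M₁ M₂ P : Subgroup G) : Prop where
  amal : Amal M₁ M₂ P
  pu1 : ∀ Y : Subgroup G, IsPGroup 2 Y → P ≤ Y →
    Y ≤ Subgroup.normalizer (pCoreOf 2 M₁ : Set G) → Y = P
  pu2 : ∀ Y : Subgroup G, IsPGroup 2 Y → P ≤ Y →
    Y ≤ Subgroup.normalizer (pCoreOf 2 M₂ : Set G) → Y = P

theorem Pair.symm {M₁ M₂ P : Subgroup G} (p : Pair M₁ M₂ P) : Pair M₂ M₁ P :=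
  ⟨p.amal.symm, p.pu2, p.pu1⟩

theorem Pair.map_conj {M₁ M₂ P : Subgroup G} (p : Pair M₁ M₂ P) (g : G) :
    Pair (M₁ ^ᶜ g) (M₂ ^ᶜ g) (P ^ᶜ g) := by
  have key : ∀ M : Subgroup G, (∀ Y : Subgroup G, IsPGroup 2 Y → P ≤ Y →
      Y ≤ Subgroup.normalizer (pCoreOf 2 M : Set G) → Y = P) → ∀ Y : Subgroup G, IsPGroup 2 Y →
      P ^ᶜ g ≤ Y → Y ≤ Subgroup.normalizer (pCoreOf 2 (M ^ᶜ g) : Set G) → Y = P ^ᶜ g := by
    intro M hM Y hY hPY hYn
    have h1 := Subgroup.map_mono (f := (MulAut.conj g⁻¹).toMonoidHom) hPY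
    have h2 := conjSub_le_normalizer hYn g⁻¹
    rw [conjSub_inv_cancel] at h1
    rw [pCoreOf_conjSub, conjSub_inv_cancel] at h2
    rw [← hM _ (hY.map _) h1 h2, conjSub_cancel_inv]
  exact ⟨p.amal.map_conj g, key _ p.pu1, key _ p.pu2⟩

/-- The shape of an amalgam, in terms of the two elementary abelian subgroups. -/
structure Shape (V W P : Subgroup G) : Prop where
  ffV : FF (Subgroup.normalizer (V : Set G)) P
  ffW : FF (Subgroup.normalizer (W : Set G)) P
  qV : pCoreOf 2 (Subgroup.normalizer (V : Set G)) = V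
  qW : pCoreOf 2 (Subgroup.normalizer (W : Set G)) = W
  vV : Vof (Subgroup.normalizer (V : Set G)) = V
  vW : Vof (Subgroup.normalizer (W : Set G)) = W
  sup_eq : V ⊔ W = P
  center : omegaCenter 2 P = V ⊓ W
  core : ∀ N : Subgroup G, N ≤ P → Subgroup.normalizer (V : Set G) ≤ Subgroup.normalizer (N : Set G) →
    Subgroup.normalizer (W : Set G) ≤ Subgroup.normalizer (N : Set G) → N = ⊥

theorem Shape.symm {V W P : Subgroup G} (s : Shape V W P) : Shape W V P :=
  ⟨s.ffW, s.ffV, s.qW, s.qV, s.vW, s.vV, sup_comm V W ▸ s.sup_eq, inf_comm V W ▸ s.center,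
    fun N h1 h2 h3 => s.core N h1 h3 h2⟩

variable [Finite G]

/-- An amalgam has the shape. -/
theorem Pair.shape {M₁ M₂ P : Subgroup G} (hG : IsCIT G) (p : Pair M₁ M₂ P) :
    ∃ V W Q : Subgroup G, Shape V W Q := by
  haveI : Fact (Nat.Prime 2) := ⟨Nat.prime_two⟩
  obtain ⟨A, B, Q, he, fA, fB, qA, qB, hsup, hcen⟩ := p.amal.shape hG
  have pr : Pair A B Q := by
    obtain ⟨x, rfl, ⟨rfl, rfl⟩ | ⟨rfl, rfl⟩⟩ := he
    exacts [p.map_conj x, (p.map_conj x).symm]
  have up : ∀ A : Subgroup G, FF A Q → pCoreOf 2 A = Vof A → (∀ Y : Subgroup G, IsPGroup 2 Y → Q ≤ Y →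
      Y ≤ Subgroup.normalizer (pCoreOf 2 A : Set G) → Y = Q) →
      FF (Subgroup.normalizer (Vof A : Set G)) Q ∧
        pCoreOf 2 (Subgroup.normalizer (Vof A : Set G)) = Vof A ∧
        Vof (Subgroup.normalizer (Vof A : Set G)) = Vof A := by
    intro A f q pu
    set N := Subgroup.normalizer (Vof A : Set G) with hN
    have hAN : A ≤ N := le_normalizer_Vof A
    obtain ⟨T, hT, hQT⟩ := IsSylowIn.exists_le f.loc.isPGroup (f.loc.syl.le.trans hAN)
    obtain rfl : T = Q := pu T hT.isPGroup hQT (q.symm ▸ hT.le)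
    have hO : pCoreOf 2 N = Vof A := by
      refine le_antisymm ?_ (le_pCoreOf Subgroup.le_normalizer le_rfl (Vof_isPGroup A))
      rw [← q]
      exact le_pCoreOf ((pCoreOf_le_sylow hT).trans f.loc.syl.le)
        (hAN.trans (le_normalizer_pCoreOf 2 N)) (isPGroup_pCoreOf 2 N)
    have hV : Vof N = Vof A := by
      show omegaCenter 2 (pCoreOf 2 N) = omegaCenter 2 (pCoreOf 2 A)
      rw [hO, q]
    refine ⟨⟨⟨hT, ?_, fun hle => f.loc.ncl (hAN.trans hle)⟩, ?_⟩, hO, hV⟩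
    · rw [hO]; exact f.loc.Vof_ne_bot
    refine ⟨hT.le, f.off.isP, ?_, ?_, ?_, ?_, ?_⟩
    · rw [hO, ← q]; exact f.off.Qle
    · rw [hO, ← q]; exact f.off.ne
    · rw [hO, ← q]; exact f.off.sq
    · rw [hV]; exact f.off.quad
    · rw [hO, ← q, Rof, hV]; exact f.off.card
  obtain ⟨f1, o1, v1⟩ := up A fA qA pr.pu1
  obtain ⟨f2, o2, v2⟩ := up B fB qB pr.pu2
  exact ⟨Vof A, Vof B, Q, f1, f2, o1, o2, v1, v2, hsup, hcen, fun N h1 h2 h3 =>
    pr.amal.core N h1 ((le_normalizer_Vof A).trans h2) ((le_normalizer_Vof B).trans h3)⟩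

namespace Shape

variable {V W P : Subgroup G} (s : Shape V W P)
include s

omit [Finite G] in
theorem V_le : V ≤ P := s.sup_eq ▸ le_sup_left

omit [Finite G] in
theorem W_le : W ≤ P := s.sup_eq ▸ le_sup_right

omit [Finite G] in
theorem isP : IsPGroup 2 P := s.ffV.loc.syl.isPGroup

omit [Finite G] in
theorem le_normalizerV : P ≤ Subgroup.normalizer (V : Set G) := s.ffV.off.le

omit [Finite G] in
theorem le_normalizerW : P ≤ Subgroup.normalizer (W : Set G) := s.ffW.off.le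

omit [Finite G] in
theorem sq {v : G} (hv : v ∈ V) : v * v = 1 := by rw [← s.vV] at hv; exact Vof_sq hv

omit [Finite G] in
theorem inv_eq {v : G} (hv : v ∈ V) : v⁻¹ = v := inv_eq_of_mul_eq_one_right (s.sq hv)

omit [Finite G] in
theorem comm {v v' : G} (hv : v ∈ V) (hv' : v' ∈ V) : v * v' = v' * v := by
  rw [← s.vV] at hv hv'
  exact Vof_comm' hv' hv

omit [Finite G] in
theorem conj_mem {g v : G} (hg : g ∈ P) (hv : v ∈ V) : g * v * g⁻¹ ∈ V :=
  (Subgroup.mem_normalizer_iff.1 (s.le_normalizerV hg) v).1 hv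

omit [Finite G] in
/-- `[W, V] ≤ V ∩ W`. -/
theorem comm_mem {v w : G} (hv : v ∈ V) (hw : w ∈ W) : w * v * w⁻¹ * v⁻¹ ∈ V ⊓ W := by
  refine Subgroup.mem_inf.2 ⟨V.mul_mem (s.conj_mem (s.W_le hw) hv) (V.inv_mem hv), ?_⟩
  have h1 := W.mul_mem hw (s.symm.conj_mem (s.V_le hv) (W.inv_mem hw))
  convert h1 using 1
  group

omit [Finite G] in
theorem exists_mul {u : G} (hu : u ∈ P) : ∃ v ∈ V, ∃ w ∈ W, v * w = u := by
  have hset : ((V ⊔ W : Subgroup G) : Set G) = (V : Set G) * (W : Set G) :=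
    Subgroup.coe_mul_of_right_le_normalizer_left _ _ (s.W_le.trans s.le_normalizerV)
  have h1 : u ∈ ((V ⊔ W : Subgroup G) : Set G) := s.sup_eq.symm ▸ hu
  rw [hset] at h1
  obtain ⟨v, hv, w, hw, e⟩ := h1
  exact ⟨v, hv, w, hw, e⟩

omit [Finite G] in
/-- `V ∩ W` is central in `P`. -/
theorem comm_inf {r u : G} (hr : r ∈ V ⊓ W) (hu : u ∈ P) : u * r = r * u := by
  rw [← s.center] at hr
  exact (mem_omegaCenter.1 hr).2.1 u hu

variable (hG : IsCIT G)
include hG

theorem Rof_eq : Rof (Subgroup.normalizer (V : Set G)) P = V ⊓ W := by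
  rw [s.ffV.R_eq hG, s.center]

theorem card_sq : Nat.card ↥(V ⊓ W) * Nat.card ↥(V ⊓ W) = Nat.card V := by
  rw [← s.Rof_eq hG, s.ffV.off.card_sq hG s.ffV.loc, s.vV]

theorem card_W : Nat.card W = Nat.card V := by
  rw [← s.card_sq hG, ← s.symm.card_sq hG, inf_comm]

theorem card_P : Nat.card P = Nat.card V * Nat.card ↥(V ⊓ W) := by
  rw [s.ffV.off.card, s.qV, s.Rof_eq hG]

theorem one_lt : 1 < Nat.card ↥(V ⊓ W) := by
  have := s.ffV.off.one_lt_card hG s.ffV.loc
  rwa [s.Rof_eq hG] at this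

theorem not_W_le : ¬ W ≤ V := fun hle => s.ffV.off.ne (by rw [s.qV, ← s.sup_eq]; exact sup_le le_rfl hle)

theorem ne : V ≠ W := fun e => s.not_W_le hG e.ge

/-- An element of `V` commuting with an element of `P ∖ V` lies in `V ∩ W`. -/
theorem mem_inf_of_comm {u v : G} (hu : u ∈ P) (huV : u ∉ V) (hv : v ∈ V) (hc : v * u = u * v) :
    v ∈ V ⊓ W := by
  have h1 : v ∈ Vof (Subgroup.normalizer (V : Set G)) ⊓ Subgroup.centralizer ({u} : Set G) :=
    ⟨s.vV.symm ▸ hv, mem_centralizer_singleton' hc⟩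
  rwa [s.ffV.off.fix_eq hG s.ffV.loc hu (s.qV.symm ▸ huV), s.Rof_eq hG] at h1

/-- `C_P(v) = V` for `v ∈ V ∖ W`. -/
theorem mem_V_of_comm {u v : G} (hu : u ∈ P) (hv : v ∈ V) (hvW : v ∉ W) (hc : v * u = u * v) :
    u ∈ V := by
  by_contra huV
  exact hvW (s.mem_inf_of_comm hG hu huV hv hc).2

/-- The involutions of `P` lie in `V ∪ W`. -/
theorem mem_or_mem {u : G} (hu : u ∈ P) (h2 : u * u = 1) : u ∈ V ∨ u ∈ W := by
  obtain ⟨v, hv, w, hw, rfl⟩ := s.exists_mul hu
  have hc : v * w = w * v := by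
    calc v * w = (v * w * (v * w)) * (w⁻¹ * v⁻¹) := by group
      _ = w * v := by rw [h2, one_mul, s.inv_eq hv, s.symm.inv_eq hw]
  by_cases hwV : w ∈ V
  · exact Or.inl (V.mul_mem hv hwV)
  · exact Or.inr (W.mul_mem (s.mem_inf_of_comm hG (s.W_le hw) hwV hv hc).2 hw)

/-- The only elementary abelian subgroups of `P` of order `|V|` are `V` and `W`. -/
theorem eq_or_eq {E : Subgroup G} (hE : E ≤ P) (h2 : ∀ e ∈ E, e * e = 1)
    (hcard : Nat.card E = Nat.card V) : E = V ∨ E = W := by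
  by_cases hV : E ≤ V
  · exact Or.inl (Subgroup.eq_of_le_of_card_ge hV hcard.ge)
  refine Or.inr (Subgroup.eq_of_le_of_card_ge ?_ ((s.card_W hG).trans hcard.symm).le)
  obtain ⟨e, he, heV⟩ := SetLike.not_le_iff_exists.1 hV
  have heW := (s.mem_or_mem hG (hE he) (h2 e he)).resolve_left heV
  intro x hx
  rcases s.mem_or_mem hG (hE hx) (h2 x hx) with h | h
  · rcases s.mem_or_mem hG (hE (E.mul_mem hx he)) (h2 _ (E.mul_mem hx he)) with h' | h'
    · exact absurd ((V.mul_mem_cancel_left h).1 h') heV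
    · exact (W.mul_mem_cancel_right heW).1 h'
  · exact h

/-- `V` is self-centralising in `G`. -/
theorem centralizer_le : Subgroup.centralizer (V : Set G) ≤ V := by
  have hne : V ≠ ⊥ := fun e => by
    have h1 := s.ffV.loc.Vof_ne_bot
    rw [s.vV] at h1
    exact h1 e
  have hp := hG.isPGroup_of_le_centralizer (s.isP.to_le s.V_le) hne
    (le_refl (Subgroup.centralizer (V : Set G)))
  have h1 : Subgroup.centralizer (V : Set G) ≤ Subgroup.normalizer (V : Set G) := by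
    intro g hg
    rw [Subgroup.mem_normalizer_iff]
    intro x
    constructor <;> intro hx
    · rw [← (Subgroup.mem_centralizer_iff.1 hg x hx), mul_inv_cancel_right]; exact hx
    · have h2 := Subgroup.mem_centralizer_iff.1 hg _ hx
      have h3 : g * x * g⁻¹ = x := by
        have h4 : g * x = g * (g * x * g⁻¹) := by rw [← h2]; group
        exact (mul_left_cancel h4).symm
      rwa [h3] at hx
  have h2 : Subgroup.centralizer (V : Set G) ≤ pCoreOf 2 (Subgroup.normalizer (V : Set G)) := by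
    refine le_pCoreOf h1 (fun g hg => ?_) hp
    rw [mem_normalizer_iff_map, centralizer_map_equiv, conj_map_eq_self hg]
  rwa [s.qV] at h2

omit hG in
omit [Finite G] in
theorem map_conj (g : G) : Shape (V ^ᶜ g) (W ^ᶜ g) (P ^ᶜ g) := by
  have hn : ∀ X : Subgroup G, Subgroup.normalizer (X ^ᶜ g : Set G) =
      Subgroup.normalizer (X : Set G) ^ᶜ g := fun X =>
    (Subgroup.map_equiv_normalizer_eq X (MulAut.conj g)).symm
  have hff : ∀ {H P : Subgroup G}, FF H P → FF (H ^ᶜ g) (P ^ᶜ g) := by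
    intro H P f
    have hinj : Function.Injective (MulAut.conj g).toMonoidHom := (MulAut.conj g).injective
    refine ⟨f.loc.map_conj g, ⟨Subgroup.map_mono f.off.le, f.off.isP.map _, ?_, ?_, ?_, ?_, ?_⟩⟩
    · rw [pCoreOf_conjSub]; exact Subgroup.map_mono f.off.Qle
    · rw [pCoreOf_conjSub]
      exact fun h => f.off.ne ((Subgroup.map_le_map_iff_of_injective hinj).1 h)
    · rintro _ ⟨u, hu, rfl⟩
      rw [pCoreOf_conjSub, ← map_mul]
      exact ⟨_, f.off.sq u hu, rfl⟩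
    · rw [Vof_conjSub]
      rintro _ ⟨u, hu, rfl⟩ _ ⟨v, hv, rfl⟩ _ ⟨a, ha, rfl⟩
      simp only [← map_mul, ← map_inv]
      rw [f.off.quad u hu v hv a ha]
    · rw [Rof, pCoreOf_conjSub, Vof_conjSub, ← centralizer_map_equiv,
        ← Subgroup.map_inf_eq _ _ _ hinj, Subgroup.card_map_of_injective hinj,
        Subgroup.card_map_of_injective hinj, Subgroup.card_map_of_injective hinj, f.off.card]
  refine ⟨?_, ?_, ?_, ?_, ?_, ?_, ?_, ?_, ?_⟩
  · rw [hn]; exact hff s.ffV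
  · rw [hn]; exact hff s.ffW
  · rw [hn, pCoreOf_conjSub, s.qV]
  · rw [hn, pCoreOf_conjSub, s.qW]
  · rw [hn, Vof_conjSub, s.vV]
  · rw [hn, Vof_conjSub, s.vW]
  · rw [← Subgroup.map_sup, s.sup_eq]
  · rw [← omegaCenter_conj, s.center, Subgroup.map_inf_eq _ _ _ (MulAut.conj g).injective]
  · intro N h1 h2 h3
    rw [hn] at h2 h3
    have e1 := conjSub_le_normalizer h2 g⁻¹
    have e2 := conjSub_le_normalizer h3 g⁻¹
    have e3 := Subgroup.map_mono (f := (MulAut.conj g⁻¹).toMonoidHom) h1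
    rw [conjSub_inv_cancel] at e1 e2 e3
    exact (Subgroup.map_eq_bot_iff_of_injective _ (MulAut.conj g⁻¹).injective).1 (s.core _ e3 e1 e2)

end Shape

end Cfsg.Agent.Lib.CIT
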