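import Cfsg.Agent.Lib.CIT.Torus

/-!
# The field has two or four elements

Owner: helper2. Seen from `N(V)` the action on `W/R` is the square of the one on `R`, seen from `N(W)` it is
its inverse; so `λ ↦ λ⁻²` is additive.
-/

set_option autoImplicit false
set_option linter.style.haveILetI false
set_option linter.unusedSectionVars false

open Cfsg

namespace Cfsg.Agent.Lib.CIT

open scoped Pointwise
open Cfsg.Agent.Lib.CosetGraph.SylowIn

variable {G : Type*} [Group G] [Finite G] {V W P P' P'' : Subgroup G} {τ u₀ : G}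

/-- The common stabiliser of `V`, `W` and `P`. -/
abbrev borel (V P : Subgroup G) : Subgroup G :=
  Subgroup.normalizer (V : Set G) ⊓ Subgroup.normalizer (P : Set G)

theorem Shape.borel_le (hG : IsCIT G) (s : Shape V W P) : borel V P ≤ borel W P := by
  intro g hg
  refine Subgroup.mem_inf.2 ⟨?_, hg.2⟩
  rw [mem_normalizer_iff_map]
  have hP := conj_map_eq_self hg.2
  have hV := conj_map_eq_self hg.1
  refine (s.eq_or_eq hG ((Subgroup.map_mono s.W_le).trans hP.le) ?_ ?_).resolve_left fun e => s.ne hG ?_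
  · rintro _ ⟨w, hw, rfl⟩
    rw [← map_mul, s.symm.sq hw, map_one]
  · rw [Subgroup.card_map_of_injective (MulAut.conj g).injective, s.card_W hG]
  · exact (Subgroup.map_injective (f := (MulAut.conj g).toMonoidHom) (MulAut.conj g).injective
      (hV.trans e.symm))

/-- What one half of a shape says about the action of the Borel subgroup on `R`. -/
structure Half (V W P : Subgroup G) : Prop where
  comm : ∀ x ∈ borel V P, ∀ y ∈ borel V P, ∀ r ∈ V ⊓ W, cj x (cj y r) = cj y (cj x r)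
  add : ∀ x ∈ borel V P, ∀ y ∈ borel V P, (∀ r ∈ V ⊓ W, cj x r = cj y r) ∨
    ∃ z ∈ borel V P, ∀ r ∈ V ⊓ W, cj x r * cj y r = cj z r
  trans : ∀ r ∈ V ⊓ W, r ≠ 1 → ∀ r' ∈ V ⊓ W, r' ≠ 1 → ∃ x ∈ borel V P, cj x r = r'
  left : ∃ (m : G → G) (w₀ r₀ : G), w₀ ∈ W ∧ r₀ ∈ V ⊓ W ∧ r₀ ≠ 1 ∧ m w₀ = r₀ ∧
    (∀ w ∈ W, ∀ w' ∈ W, m (w * w') = m w * m w') ∧ (∀ w ∈ W, m w = 1 ↔ w ∈ V ⊓ W) ∧
    ∀ x ∈ borel V P, m (cj x w₀) = cj x (cj x r₀)
  right : ∃ c : G → G, (∀ v ∈ V, c v ∈ V ⊓ W) ∧ (∀ v ∈ V, ∀ v' ∈ V, c (v * v') = c v * c v') ∧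
    (∀ v ∈ V, c v = 1 ↔ v ∈ V ⊓ W) ∧ ∀ x ∈ borel V P, ∀ v ∈ V, c (cj x v) = cj x⁻¹ (c v)

theorem Tri.half (hG : IsCIT G) (t : Tri V W P P' P'' τ u₀) : Half V W P := by
  have s := t.shape
  have memB : ∀ {x : G}, x ∈ torus V P P' → x ∈ borel V P := fun hx => hx.1
  have hstab : ∀ {x r : G}, x ∈ borel V P → r ∈ V ⊓ W → cj x r ∈ V ⊓ W := by
    intro x r hx hr
    exact ⟨cj_mem hx.1 hr.1, cj_mem (s.borel_le hG hx).1 hr.2⟩
  have pick : ∀ x ∈ borel V P, ∃ p ∈ P, p⁻¹ * x ∈ torus V P P' := fun x hx => t.exists_torus hG hx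
  have hsq : ∀ x ∈ borel V P, ∃ y ∈ torus V P P', ∀ r ∈ V ⊓ W, cj x r = cj y (cj y r) := by
    intro x hx
    obtain ⟨p, hp, hpx⟩ := pick x hx
    obtain ⟨y, hy, he⟩ := t.exists_sqrt hG hpx
    exact ⟨y, hy, fun r hr => by rw [t.cj_torus hp hpx hr, he r hr]⟩
  have hslope : ∀ y ∈ torus V P P', ∀ r ∈ V ⊓ W, slope τ (cj y u₀) r = cj y (cj y r) := fun y hy r hr => by
    rw [t.slope_conj hG hy hr, t.slope_base hG (t.mem_inf_normalizer hy hr)]
  refine ⟨?_, ?_, ?_, ?_, ?_⟩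
  · intro x hx y hy r hr
    obtain ⟨p, hp, hpx⟩ := pick x hx
    obtain ⟨q, hq, hqy⟩ := pick y hy
    rw [t.cj_torus hp hpx (hstab hy hr), t.cj_torus hq hqy hr, t.cj_torus hq hqy (hstab hx hr),
      t.cj_torus hp hpx hr, t.comm_torus hG hpx hqy hr]
  · intro x hx y hy
    obtain ⟨x', hx', hxe⟩ := hsq x hx
    obtain ⟨y', hy', hye⟩ := hsq y hy
    have hux : cj x' u₀ ∈ P := cj_mem hx'.1.2 t.hu
    have huy : cj y' u₀ ∈ P := cj_mem hy'.1.2 t.hu
    have hm : ∀ r ∈ V ⊓ W, slope τ (cj x' u₀ * cj y' u₀) r = cj x r * cj y r := fun r hr => by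
      rw [t.slope_mul_left hG hux huy hr, hslope x' hx' r hr, hslope y' hy' r hr, hxe r hr, hye r hr]
    by_cases huV : cj x' u₀ * cj y' u₀ ∈ V
    · left
      intro r hr
      have h1 := hm r hr
      rw [t.slope_V huV hr] at h1
      rw [← s.inv_eq (hstab hy hr).1]
      exact eq_inv_of_mul_eq_one_left h1.symm
    · right
      obtain ⟨z, hz, hze⟩ := t.slope_eq hG (P.mul_mem hux huy) huV
      exact ⟨z * z, (borel V P).mul_mem (memB hz) (memB hz),
        fun r hr => by rw [← hm r hr, hze r hr, cj_cj]⟩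
  · intro r hr hr1 r' hr' hr'1
    let f : ↥P →* ↥(V ⊓ W) := MonoidHom.mk' (fun u => ⟨slope τ u r, t.slope_mem hG u.2 hr⟩)
      fun a b => Subtype.ext (t.slope_mul_left hG a.2 b.2 hr)
    have hker : f.ker ≤ V.subgroupOf P := fun u hu =>
      Subgroup.mem_subgroupOf.2 (t.mem_V_of_slope hG u.2 hr hr1 (congrArg Subtype.val (MonoidHom.mem_ker.1 hu)))
    have h1 := f.ker.card_mul_index
    rw [Subgroup.index_ker, s.card_P hG] at h1
    have h2 : Nat.card f.ker ≤ Nat.card V :=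
      (Subgroup.card_le_of_le hker).trans
        (Nat.card_congr (Subgroup.subgroupOfEquivOfLe s.V_le).toEquiv).le
    have h3 : Nat.card f.range ≤ Nat.card ↥(V ⊓ W) := Subgroup.card_le_card_group _
    have hV0 : 0 < Nat.card V := Nat.card_pos
    have h4 : Nat.card ↥(V ⊓ W) ≤ Nat.card f.range := by
      by_contra hlt
      have h5 : Nat.card f.ker * Nat.card f.range < Nat.card V * Nat.card ↥(V ⊓ W) :=
        Nat.mul_lt_mul_of_le_of_lt h2 (not_le.1 hlt) hV0
      omega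
    obtain ⟨⟨u, hu⟩, hue⟩ := MonoidHom.range_eq_top.1 (Subgroup.eq_top_of_le_card _ h4) ⟨r', hr'⟩
    have hue' : slope τ u r = r' := congrArg Subtype.val hue
    have huV : u ∉ V := fun h => hr'1 (by rw [← hue', t.slope_V h hr])
    obtain ⟨x, hx, hxe⟩ := t.slope_eq hG hu huV
    exact ⟨x * x, (borel V P).mul_mem (memB hx) (memB hx), by rw [← cj_cj, ← hxe r hr, hue']⟩
  · obtain ⟨r₀, hr₀, hr₀1⟩ := (V ⊓ W).bot_or_exists_ne_one.resolve_left fun e => by
      have := s.one_lt hG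
      rw [e, Subgroup.card_bot] at this
      omega
    obtain ⟨v, hv, w₀, hw₀, hu₀⟩ := s.exists_mul t.hu
    have hw0u : ∀ r ∈ V ⊓ W, slope τ w₀ r = slope τ u₀ r := fun r hr => by
      rw [← hu₀, t.slope_mul_left hG (s.V_le hv) (s.W_le hw₀) hr, t.slope_V hv hr, one_mul]
    refine ⟨fun w => slope τ w r₀, w₀, r₀, hw₀, hr₀, hr₀1, ?_, ?_, ?_, ?_⟩
    · show slope τ w₀ r₀ = r₀
      rw [hw0u r₀ hr₀, t.slope_base hG hr₀]
    · exact fun w hw w' hw' => t.slope_mul_left hG (s.W_le hw) (s.W_le hw') hr₀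
    · exact fun w hw => ⟨fun h => ⟨t.mem_V_of_slope hG (s.W_le hw) hr₀ hr₀1 h, hw⟩,
        fun h => t.slope_V h.1 hr₀⟩
    · intro x hx
      obtain ⟨p, hp, hpx⟩ := pick x hx
      set y := p⁻¹ * x with hy
      have hw' : cj x w₀ ∈ W := cj_mem (s.borel_le hG hx).1 hw₀
      have hyw : cj y w₀ ∈ W := cj_mem (s.borel_le hG (memB hpx)).1 hw₀
      obtain ⟨v', hv', w', hw'', hp'⟩ := s.exists_mul hp
      have e1 : cj x w₀ = cj v' (cj y w₀) := by
        calc cj x w₀ = cj p (cj y w₀) := by rw [cj_cj, hy, mul_inv_cancel_left]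
          _ = cj v' (cj w' (cj y w₀)) := by rw [cj_cj, cj_cj, ← hp', cj_cj, mul_assoc]
          _ = cj v' (cj y w₀) := by rw [cj_eq_self (s.symm.comm hw'' hyw)]
      have e2 : (cj y w₀)⁻¹ * cj x w₀ ∈ V := by
        rw [e1]
        have h1 := V.mul_mem (cj_mem (inv_mem (s.le_normalizerV (s.W_le hyw))) hv') (V.inv_mem hv')
        convert h1 using 1
        simp only [cj]; group
      show slope τ (cj x w₀) r₀ = _
      rw [t.slope_congr hG (s.W_le hyw) e2 hr₀, t.slope_conj hG hpx hr₀,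
        hw0u _ (t.mem_inf_normalizer hpx hr₀), t.slope_base hG (t.mem_inf_normalizer hpx hr₀),
        t.cj_torus hp hpx (hstab hx hr₀), t.cj_torus hp hpx hr₀]
  · refine ⟨fun v => cj u₀ v * v⁻¹, fun v hv => t.comm_mem hG t.hu hv, ?_, ?_, ?_⟩
    · intro a ha b hb
      have h1 := t.comm_mem hG t.hu hb
      show cj u₀ (a * b) * (a * b)⁻¹ = (cj u₀ a * a⁻¹) * (cj u₀ b * b⁻¹)
      calc cj u₀ (a * b) * (a * b)⁻¹ = cj u₀ a * ((cj u₀ b * b⁻¹) * a⁻¹) := by rw [cj_mul]; group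
        _ = cj u₀ a * (a⁻¹ * (cj u₀ b * b⁻¹)) := by rw [s.comm h1.1 (V.inv_mem ha)]
        _ = _ := by rw [mul_assoc]
    · intro v hv
      constructor
      · intro h
        exact s.mem_inf_of_comm hG t.hu t.u₀_notMem hv
          (mul_inv_eq_iff_eq_mul.1 (mul_inv_eq_one.1 h)).symm
      · intro hr
        show cj u₀ v * v⁻¹ = 1
        rw [t.cj_P t.hu hr, mul_inv_cancel]
    · intro x hx v hv
      obtain ⟨r, hr, r', hr', rfl⟩ := t.decomp hG hv
      obtain ⟨p, hp, hpx⟩ := pick x hx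
      set y := p⁻¹ * x with hy
      have hτr' : cj τ r' ∈ V := cj_mem t.τ_normalizer hr'.1
      -- `c` kills `R` and is `r'` on `τ r' τ⁻¹`
      have key : ∀ a ∈ V ⊓ W, ∀ b ∈ V, cj u₀ (a * b) * (a * b)⁻¹ = cj u₀ b * b⁻¹ := by
        intro a ha b hb
        calc cj u₀ (a * b) * (a * b)⁻¹ = a * (cj u₀ b * b⁻¹) * a⁻¹ := by
              rw [cj_mul, t.cj_P t.hu ha]; group
          _ = _ := by rw [s.comm ha.1 (t.comm_mem hG t.hu hb).1, mul_inv_cancel_right]
      have hc1 : cj u₀ (r * cj τ r') * (r * cj τ r')⁻¹ = r' := by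
        rw [key r hr _ hτr']; exact t.slope_base hG hr'
      beta_reduce
      rw [hc1]
      have hyv : cj y (r * cj τ r') ∈ V := cj_mem hpx.1.1 (V.mul_mem hr.1 hτr')
      have e1 : cj x (r * cj τ r') =
          (cj p (cj y (r * cj τ r')) * (cj y (r * cj τ r'))⁻¹) * cj y (r * cj τ r') := by
        rw [inv_mul_cancel_right, cj_cj, hy, mul_inv_cancel_left]
      rw [e1, key _ (t.comm_mem hG hp hyv) _ hyv, cj_mul y,
        key _ (t.mem_inf_normalizer hpx hr) _ (cj_mem hpx.1.1 hτr')]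
      have e2 : cj y (cj τ r') = cj τ (cj y⁻¹ r') := by
        have hxi : τ⁻¹ * y * τ ∈ torus V P P' := by
          have h1 := t.τ_conj hG hpx
          have hv := t.V_le_torus (t.τ_sq hG)
          have := mul_mem (mul_mem (inv_mem hv) h1) hv
          convert this using 1
          group
        have h2 := t.inverts hG hxi hr'
        rw [show τ * (τ⁻¹ * y * τ) * τ⁻¹ = y by group] at h2
        have h3 := congrArg (cj y⁻¹) h2
        rw [cj_inv_cancel] at h3
        rw [← h3]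
        simp only [cj]; group
      rw [e2, show cj u₀ (cj τ (cj y⁻¹ r')) * (cj τ (cj y⁻¹ r'))⁻¹ = slope τ u₀ (cj y⁻¹ r') from rfl,
        t.slope_base hG (t.mem_inf_normalizer (inv_mem hpx) hr')]
      have e3 : cj x (cj y⁻¹ r') = r' := by
        rw [t.cj_torus hp hpx (t.mem_inf_normalizer (inv_mem hpx) hr'), cj_cancel_inv]
      conv_rhs => rw [← e3]
      rw [cj_inv_cancel]

theorem Shape.half (hG : IsCIT G) (s : Shape V W P) : Half V W P := by
  obtain ⟨P', P'', τ, u₀, t⟩ := s.exists_tri hG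
  exact t.half hG

/-- `|R| ≤ 4`. -/
theorem Shape.card_inf_le (hG : IsCIT G) (s : Shape V W P) : Nat.card ↥(V ⊓ W) ≤ 4 := by
  classical
  haveI : Fintype G := Fintype.ofFinite G
  have h := s.half hG
  obtain ⟨m, w₀, r₀, hw₀, hr₀, hr₀1, hm₀, hmul, hker, heq⟩ := h.left
  obtain ⟨c, hcmem, hcmul, hcker, hceq⟩ := (s.symm.half hG).right
  rw [inf_comm W V] at hcmem hcker
  set R := V ⊓ W with hR
  set B := borel V P with hB
  have hBW : ∀ {x : G}, x ∈ B → x ∈ borel W P := fun hx => s.borel_le hG hx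
  have hstab : ∀ {x r : G}, x ∈ B → r ∈ R → cj x r ∈ R := fun hx hr =>
    ⟨cj_mem hx.1 hr.1, cj_mem (hBW hx).1 hr.2⟩
  have hsq : ∀ {r : G}, r ∈ R → r * r = 1 := fun hr => s.sq hr.1
  have hcomm : ∀ {a b : G}, a ∈ R → b ∈ R → a * b = b * a := fun ha hb => s.comm ha.1 hb.1
  set e := c w₀ with he_def
  have he : e ∈ R := hcmem _ hw₀
  have he1 : e ≠ 1 := fun e1 => hr₀1 <| by
    rw [← hm₀, (hker _ hw₀).2 ((hcker _ hw₀).1 e1)]
  have hz : ∀ {x z : G}, x ∈ B → z ∈ B → (∀ r ∈ R, cj x r * r = cj z r) →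
      ∀ r ∈ R, cj z (cj z r) = cj x (cj x r) * r := by
    intro x z hx hz hadd r hr
    rw [← hadd r hr, cj_mul, h.comm z hz x hx r hr, ← hadd r hr, cj_mul]
    calc cj x (cj x r) * cj x r * (cj x r * r) = cj x (cj x r) * (cj x r * cj x r) * r := by group
      _ = _ := by rw [hsq (hstab hx hr), mul_one]
  -- the key identity
  have key : ∀ x ∈ B, cj x e ≠ e → cj x (cj x e) = cj x e * e := by
    intro x hx hne
    rcases h.add x hx 1 (one_mem _) with h1 | ⟨z, hzB, h1⟩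
    · exact absurd (by rw [h1 e he, cj_one]) hne
    have hadd : ∀ r ∈ R, cj x r * r = cj z r := fun r hr => by
      have := h1 r hr
      rwa [cj_one] at this
    have hxw : cj x w₀ ∈ W := cj_mem (hBW hx).1 hw₀
    have hzw : cj z w₀ ∈ W := cj_mem (hBW hzB).1 hw₀
    have hprod : cj x w₀ * w₀ * cj z w₀ ∈ R := by
      refine (hker _ (W.mul_mem (W.mul_mem hxw hw₀) hzw)).1 ?_
      rw [hmul _ (W.mul_mem hxw hw₀) _ hzw, hmul _ hxw _ hw₀, heq x hx, hm₀, heq z hzB,
        ← hz hx hzB hadd r₀ hr₀]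
      exact hsq (hstab hzB (hstab hzB hr₀))
    have h2 := (hcker _ (W.mul_mem (W.mul_mem hxw hw₀) hzw)).2 hprod
    rw [hcmul _ (W.mul_mem hxw hw₀) _ hzw, hcmul _ hxw _ hw₀, hceq x (hBW hx) _ hw₀,
      hceq z (hBW hzB) _ hw₀, ← he_def] at h2
    have hzi : cj z⁻¹ e ∈ R := hstab (inv_mem hzB) he
    have hxi : cj x⁻¹ e ∈ R := hstab (inv_mem hx) he
    have h3 : cj x⁻¹ e * e = cj z⁻¹ e := by
      rw [eq_inv_of_mul_eq_one_left h2, s.inv_eq hzi.1]
    have h4 : cj x (cj x⁻¹ e * e) * (cj x⁻¹ e * e) = e := by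
      rw [hadd _ (R.mul_mem hxi he), h3, cj_cancel_inv]
    rw [cj_mul, cj_cancel_inv] at h4
    have h5 : cj x e * cj x⁻¹ e = e := by
      calc cj x e * cj x⁻¹ e = (e * e) * (cj x e * cj x⁻¹ e) := by rw [hsq he, one_mul]
        _ = e * (e * cj x e * cj x⁻¹ e) := by group
        _ = e * (e * cj x e * cj x⁻¹ e * (e * e)) := by rw [hsq he, mul_one]
        _ = e * (e * cj x e * (cj x⁻¹ e * e)) * e := by group
        _ = e := by rw [h4, hsq he, one_mul]
    have h6 := congrArg (cj x) h5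
    rw [cj_mul, cj_cancel_inv] at h6
    calc cj x (cj x e) = cj x (cj x e) * e * e := by rw [mul_assoc, hsq he, mul_one]
      _ = cj x e * e := by rw [h6]
  have two : ∀ {f g : G}, f ∈ R → f ≠ 1 → f ≠ e → g ∈ R → g ≠ 1 → g ≠ e → g ≠ f → g = f * e := by
    intro f g hf hf1 hfe hg hg1 hge hgf
    obtain ⟨x, hx, hxf⟩ := h.trans e he he1 f hf hf1
    obtain ⟨y, hy, hyg⟩ := h.trans e he he1 g hg hg1
    rcases h.add x hx y hy with h1 | ⟨z, hzB, h1⟩
    · exact absurd (by rw [← hxf, ← hyg, h1 e he]) hgf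
    have e1 : cj z e = f * g := by rw [← h1 e he, hxf, hyg]
    have hkx := key x hx (by rw [hxf]; exact hfe)
    have hky := key y hy (by rw [hyg]; exact hge)
    have e2 : cj z (cj z e) = cj z e := by
      calc cj z (cj z e) = cj z (cj x e) * cj z (cj y e) := by rw [← cj_mul, ← h1 e he]
        _ = cj x (cj z e) * cj y (cj z e) := by rw [h.comm z hzB x hx e he, h.comm z hzB y hy e he]
        _ = cj x (cj x e) * cj x (cj y e) * (cj y (cj x e) * cj y (cj y e)) := by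
            rw [← h1 e he, cj_mul, cj_mul]
        _ = cj x (cj x e) * (cj y (cj x e) * cj y (cj x e)) * cj y (cj y e) := by
            rw [h.comm x hx y hy e he]; group
        _ = f * e * (g * e) := by rw [hsq (hstab hy (hstab hx he)), mul_one, hkx, hky, hxf, hyg]
        _ = f * g * (e * e) := by rw [mul_assoc f e, ← mul_assoc e g e, hcomm he hg]; group
        _ = cj z e := by rw [hsq he, mul_one, e1]
    have e3 : f * g = e := by rw [← e1]; exact cj_injective z e2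
    calc g = f * f * g := by rw [hsq hf, one_mul]
      _ = f * e := by rw [mul_assoc, e3]
  by_cases hall : ∀ f ∈ R, f = 1 ∨ f = e
  · have hsub : (Finset.univ.filter fun f => f ∈ R) ⊆ ({1, e} : Finset G) := fun f hf => by
      simpa using hall f (Finset.mem_filter.1 hf).2
    rw [Nat.card_eq_fintype_card, Fintype.card_subtype]
    exact ((Finset.card_le_card hsub).trans Finset.card_le_two).trans (by norm_num)
  push Not at hall
  obtain ⟨f, hf, hf1, hfe⟩ := hall
  have hsub : (Finset.univ.filter fun g => g ∈ R) ⊆ ({1, e, f, f * e} : Finset G) := fun g hg => by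
    have hgR := (Finset.mem_filter.1 hg).2
    simp only [Finset.mem_insert, Finset.mem_singleton]
    by_cases h1 : g = 1; · exact Or.inl h1
    by_cases h2 : g = e; · exact Or.inr (Or.inl h2)
    by_cases h3 : g = f; · exact Or.inr (Or.inr (Or.inl h3))
    exact Or.inr (Or.inr (Or.inr (two hf hf1 hfe hgR h1 h2 h3)))
  rw [Nat.card_eq_fintype_card, Fintype.card_subtype]
  exact (Finset.card_le_card hsub).trans Finset.card_le_four

end Cfsg.Agent.Lib.CIT
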