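import Cfsg.Agent.Lib.CIT.CaseTwo
import Cfsg.Agent.Lib.CIT.Plane
import Cfsg.Agent.Lib.BenderOne20.Bridge
import Cfsg.Agent.Lib.Induced.FrobeniusKernel
import Cfsg.Agent.Lib.PSLTwo.ClassSizeValues
import Cfsg.Agent.Lib.Linear.Order
import Cfsg.Agent.S0340

/-!
# CIT groups with TI Sylow 2-subgroups

Owner: helper2. The points are the cosets of `M = N(T)`; every involution fixes exactly one point.
All two-point stabilisers have order `i`, the number of involutions of `T`, are inverted by their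
swappers, and no non-trivial element fixes three points; counting gives double transitivity.
-/

set_option autoImplicit false
set_option linter.style.haveILetI false
set_option linter.unusedSectionVars false

open Cfsg

namespace Cfsg.Agent.Lib.CIT

open MulAction Cfsg.Agent.Lib.BenderOne20 Cfsg.Agent.Lib.Involutions.Basic
open Cfsg.Agent.Lib.CosetGraph.SylowIn

variable {G : Type*} [Group G] [Finite G]

/-- The data of the TI case. -/
structure TICase (T : Sylow 2 G) : Prop where
  cit : IsCIT G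
  se : Cfsg.IsStronglyEmbedded (Subgroup.normalizer ((T : Subgroup G) : Set G))
  ti : ∀ g ∉ Subgroup.normalizer ((T : Subgroup G) : Set G), (T : Subgroup G) ⊓ (T : Subgroup G) ^ᶜ g = ⊥

namespace TICase

variable {T : Sylow 2 G} (c : TICase T)
include c

local notation "M" => Subgroup.normalizer ((T : Subgroup G) : Set G)
local notation "Ω" => G ⧸ Subgroup.normalizer ((T : Subgroup G) : Set G)
local notation "o" => ((1 : G) : G ⧸ Subgroup.normalizer ((T : Subgroup G) : Set G))

theorem oneFix : OneFix G Ω := oneFix_of_stronglyEmbedded c.se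

omit c in
theorem mem_stab {g : G} : g • o = o ↔ g ∈ M := by
  rw [← MulAction.mem_stabilizer_iff, MulAction.stabilizer_quotient]

omit c in
theorem mem_sylow {t : G} (ht : orderOf t = 2) (htM : t ∈ M) : t ∈ (T : Subgroup G) := by
  haveI : Fact (Nat.Prime 2) := ⟨Nat.prime_two⟩
  have hsup : IsPGroup 2 ↥((T : Subgroup G) ⊔ Subgroup.zpowers t) :=
    IsPGroup.to_sup_of_normal_left' T.2
      (IsPGroup.of_card (n := 1) (by rw [Nat.card_zpowers, ht, pow_one])) (Subgroup.zpowers_le.2 htM)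
  rw [← T.3 hsup le_sup_left]
  exact Subgroup.mem_sup_right (Subgroup.mem_zpowers t)

theorem centralizer_le {s : G} (hs : s ∈ (T : Subgroup G)) (hs1 : s ≠ 1) :
    Subgroup.centralizer ({s} : Set G) ≤ T := by
  haveI : Fact (Nat.Prime 2) := ⟨Nat.prime_two⟩
  have h2 := c.cit.isPGroup_centralizer T.2 hs hs1
  have hM : Subgroup.centralizer ({s} : Set G) ≤ M := by
    intro g hg
    by_contra hgM
    refine hs1 (Subgroup.mem_bot.1 (c.ti g hgM ▸ ⟨hs, s, hs, ?_⟩))
    show g * s * g⁻¹ = s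
    rw [Subgroup.mem_centralizer_singleton_iff.1 hg, mul_inv_cancel_right]
  rw [← T.3 (IsPGroup.to_sup_of_normal_left' T.2 h2 hM) le_sup_left]
  exact le_sup_right

/-- A product of two involutions fixing a common point is a 2-element. -/
theorem eq_one_of_odd_prod {x : Ω} {u v : G} (hu : u ∈ invAt G x) (hv : v ∈ invAt G x)
    (hodd : Odd (orderOf (u * v))) : u * v = 1 := by
  haveI := c.oneFix.trans
  obtain ⟨g, rfl⟩ := exists_smul_eq G o x
  have hin : ∀ w ∈ invAt G (g • o), g⁻¹ * w * g ∈ (T : Subgroup G) := by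
    intro w hw
    have h := OneFix.conj_mem_invAt (g := g⁻¹) hw
    rw [inv_inv, inv_smul_smul] at h
    exact mem_sylow h.1 (mem_stab.1 h.2)
  have h1 : g⁻¹ * (u * v) * g⁻¹⁻¹ = 1 := by
    refine eq_one_of_odd_of_two T.2 ?_ ((orderOf_conj_eq g⁻¹ (u * v)).symm ▸ hodd)
    have := mul_mem (hin u hu) (hin v hv)
    simpa [mul_assoc] using this
  exact conj_eq_one_iff.1 h1

theorem odd_of_mem {x y : Ω} (hxy : x ≠ y) {d : G} (hd : d ∈ pairStab G x y) : Odd (orderOf d) :=
  (c.oneFix.odd_pairStab hxy).of_dvd_nat (Subgroup.orderOf_dvd_natCard _ hd)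

theorem card_pairStab {x y : Ω} (hxy : x ≠ y) :
    Nat.card ↥(pairStab G x y) = Nat.card ↥(invAt G o) := by
  obtain ⟨s, hs⟩ := c.oneFix.exists_invAt x
  rw [c.oneFix.card_pairStab_invAt hxy hs, c.oneFix.card_invAt x o]
  suffices h : pairStab G x y ⊓ Subgroup.centralizer {s} = ⊥ by rw [h, Subgroup.card_bot, mul_one]
  rw [Subgroup.eq_bot_iff_forall]
  rintro d ⟨hd, hds⟩
  exact eq_one_of_odd_of_two (c.cit _ hs.1) hds (c.odd_of_mem hxy hd)

/-- A swapper of two points inverts their stabiliser. -/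
theorem swap_inverts {x y : Ω} (hxy : x ≠ y) {w d : G} (hw : w ∈ swapSet G x y)
    (hd : d ∈ pairStab G x y) : w * d * w⁻¹ = d⁻¹ := by
  haveI : Finite ↥(swapSet G x y) := Subtype.finite
  let f : ↥(swapSet G x y) → ↥(pairStab G x y) := fun v => ⟨w * v.1, by
    refine ⟨?_, ?_⟩
    · show (w * v.1) • x = x
      rw [mul_smul, v.2.2, smul_swap hw]
    · show (w * v.1) • y = y
      rw [mul_smul, smul_swap v.2, hw.2]⟩
  have hf : Function.Bijective f := by
    refine (Nat.bijective_iff_injective_and_card f).2 ⟨fun a b e => Subtype.ext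
      (mul_left_cancel (congrArg Subtype.val e)), ?_⟩
    rw [c.oneFix.card_swapSet hxy, c.oneFix.card_invAt y o, c.card_pairStab hxy]
  obtain ⟨v, hv⟩ := hf.2 ⟨d, hd⟩
  have hd' : d = w * v.1 := (congrArg Subtype.val hv).symm
  rw [hd', invol_inv hw.1, mul_inv_rev, invol_inv hw.1, invol_inv v.2.1, ← mul_assoc w w, invol_mul_self hw.1,
    one_mul]

/-- No non-trivial element fixes three points. -/
theorem fix_two {x y z : Ω} (hxy : x ≠ y) {d : G} (hd : d ∈ pairStab G x y) (hd1 : d ≠ 1)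
    (hz : d • z = z) : z = x ∨ z = y := by
  by_contra hzne
  simp only [not_or] at hzne
  obtain ⟨hzx, hzy⟩ := hzne
  have hO := c.oneFix
  obtain ⟨w, hw⟩ := hO.swapSet_nonempty hxy
  set A := Subgroup.centralizer ({d} : Set G) with hA
  have hodd : Odd (Nat.card A) := by
    rw [odd_card_iff_no_invol]
    intro t ht h2
    exact hd1 (eq_one_of_odd_of_two (c.cit t h2)
      (mem_centralizer_singleton' (Subgroup.mem_centralizer_singleton_iff.1 ht).symm) (c.odd_of_mem hxy hd))
  have hwd := c.swap_inverts hxy hw hd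
  have hwinv : w⁻¹ = w := invol_inv hw.1
  have hww : w * w = 1 := invol_mul_self hw.1
  have hwA : ∀ a ∈ A, w * a * w ∈ A := by
    intro a ha
    have h1 : Commute a d := Subgroup.mem_centralizer_singleton_iff.1 ha
    have h2 : Commute (w * a * w⁻¹) (w * d⁻¹ * w⁻¹) := Commute.conj_iff _ |>.2 h1.inv_right
    have h3 : w * d⁻¹ * w⁻¹ = d := by rw [← conj_inv, hwd, inv_inv]
    rw [h3, hwinv] at h2
    exact mem_centralizer_singleton' h2.eq
  -- `w` inverts `A`
  have hinvA : ∀ a ∈ A, w * a * w = a⁻¹ := by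
    let f : ↥A → ↥A := fun a => ⟨a * (w * (a : G)⁻¹ * w), mul_mem a.2 (hwA _ (inv_mem a.2))⟩
    have hf : Function.Surjective f := by
      refine Finite.injective_iff_surjective.1 fun a b e => ?_
      have e1 : (a : G) * (w * (a : G)⁻¹ * w) = b * (w * (b : G)⁻¹ * w) := congrArg Subtype.val e
      have e2 : ((b : G)⁻¹ * a) * w = w * ((b : G)⁻¹ * a) := by
        have e3 := congrArg (fun g => (b : G)⁻¹ * g * w * a) e1
        simp only [mul_assoc, inv_mul_cancel_left] at e3 ⊢
        rw [← mul_assoc w w, hww, one_mul, inv_mul_cancel, mul_one] at e3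
        exact e3
      have hba : (b : G)⁻¹ * a ∈ A := mul_mem (inv_mem b.2) a.2
      have h1 := eq_one_of_odd_of_two (c.cit w hw.1) (mem_centralizer_singleton' e2)
        (hodd.of_dvd_nat (Subgroup.orderOf_dvd_natCard A hba))
      exact Subtype.ext (inv_mul_eq_one.1 h1).symm
    intro a ha
    obtain ⟨b, hb⟩ := hf ⟨a, ha⟩
    have hab : a = (b : G) * (w * (b : G)⁻¹ * w) := (congrArg Subtype.val hb).symm
    rw [hab]
    calc w * ((b : G) * (w * (b : G)⁻¹ * w)) * w = w * b * w * ((b : G)⁻¹ * (w * w)) := by group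
      _ = _ := by rw [hww, mul_inv_rev, mul_inv_rev, mul_inv_rev, hwinv, inv_inv, mul_one]; group
  have key : ∀ {p q : Ω} {v : G}, v ∈ swapSet G p q → p ≠ q → d ∈ pairStab G p q → w * v ∈ A := by
    intro p q v hv hpq hdpq
    have h1 := c.swap_inverts hpq hv hdpq
    refine mem_centralizer_singleton' ?_
    have h2 : v * d = d⁻¹ * v := mul_inv_eq_iff_eq_mul.1 h1
    have h3 : w * d⁻¹ = d * w := by
      have := mul_inv_eq_iff_eq_mul.1 hwd
      calc w * d⁻¹ = d * (d⁻¹ * w) * d⁻¹ := by group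
        _ = d * (w * d) * d⁻¹ := by rw [this]
        _ = d * w := by group
    rw [mul_assoc, h2, ← mul_assoc, h3, mul_assoc]
  obtain ⟨v, hv⟩ := hO.swapSet_nonempty (Ne.symm hzx)
  obtain ⟨v', hv'⟩ := hO.swapSet_nonempty (Ne.symm hzy)
  have ha := key hv (Ne.symm hzx) ⟨hd.1, hz⟩
  have hb := key hv' (Ne.symm hzy) ⟨hd.2, hz⟩
  set e := (w * v')⁻¹ * (w * v) with he
  have heA : e ∈ A := mul_mem (inv_mem hb) ha
  have hex : e • x = y := by
    rw [he, mul_smul, mul_smul w v, hv.2, inv_smul_eq_iff, mul_smul, hv'.2]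
  set u := w * e with hu
  have hu2 : u * u = 1 := by
    have := hinvA e heA
    calc u * u = (w * e * w) * e := by rw [hu]; group
      _ = 1 := by rw [this, inv_mul_cancel]
  have hux : u • x = x := by rw [hu, mul_smul, hex, smul_swap hw]
  have hud : u * d * u⁻¹ = d⁻¹ := by
    rw [hu, show w * e * d * (w * e)⁻¹ = w * (e * d * e⁻¹) * w⁻¹ by group,
      Subgroup.mem_centralizer_singleton_iff.1 heA, mul_inv_cancel_right, hwd]
  have hodd_d := c.odd_of_mem hxy hd
  have hu1 : u ≠ 1 := by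
    intro e1
    rw [e1] at hud
    have : d ^ 2 = (1 : G) ^ 2 := by
      rw [one_pow, pow_two]; simpa [mul_eq_one_iff_eq_inv] using hud
    exact hd1 (eq_of_sq_eq hodd_d (by rw [orderOf_one]; exact odd_one) this)
  have huinv : u⁻¹ = u := inv_eq_of_mul_eq_one_right hu2
  have huI : u ∈ invAt G x := ⟨orderOf_eq_prime (by rw [pow_two]; exact hu2) hu1, hux⟩
  have hdu : d * u * d⁻¹ ∈ invAt G x := by
    have h := OneFix.conj_mem_invAt (g := d) huI
    rwa [(hd.1 : d • x = x)] at h
  have hprod : u * (d * u * d⁻¹) = d⁻¹ * d⁻¹ := by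
    calc u * (d * u * d⁻¹) = (u * d * u⁻¹) * d⁻¹ := by rw [huinv]; group
      _ = _ := by rw [hud]
  have h1 := c.eq_one_of_odd_prod huI hdu (by
    rw [hprod, ← pow_two]
    exact (orderOf_inv d ▸ hodd_d).of_dvd_nat (orderOf_pow_dvd 2))
  rw [hprod, ← pow_two] at h1
  have h2 := eq_of_sq_eq (a := d⁻¹) (b := 1) (orderOf_inv d ▸ hodd_d) (by rw [orderOf_one]; exact odd_one)
    (by rw [one_pow]; exact h1)
  exact hd1 (inv_eq_one.1 h2)

end TICase

/-- In odd characteristic a CIT `PSL₂(q)` has `q` next to a power of two. -/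
theorem card_of_cit_psl {F : Type*} [Field F] [Fintype F] (hodd : Odd (Fintype.card F))
    (h : IsCIT (Matrix.ProjectiveSpecialLinearGroup (Fin 2) F)) :
    ∃ k : ℕ, Fintype.card F = 2 ^ k + 1 ∨ Fintype.card F + 1 = 2 ^ k := by
  open PSLTwo.ClassSize PSLTwo.ClassSizeValues PSLTwo.Sylow SL2Tori.Products in
  classical
  haveI : Fact (Nat.Prime 2) := ⟨Nat.prime_two⟩
  have h2n : ¬ 2 ∣ Fintype.card F := fun e => Nat.not_even_iff_odd.2 hodd (even_iff_two_dvd.2 e)
  have h20 : (2 : F) ≠ 0 := fun e => h2n (cast_two_zero_iff.mp e)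
  obtain ⟨g, hg, ht⟩ := exists_nonScalar_trace (0 : F)
  have hgg : g * g = negOne := by
    have hd := det_eq g
    have hd' : g.1 1 1 = -g.1 0 0 := by
      simp only [slTr] at ht
      linear_combination ht
    apply slExt <;> simp only [mul_apply', negOne_00, negOne_01, negOne_10, negOne_11, hd'] at hd ⊢ <;>
      first | linear_combination -hd | ring
  set y := SL2Tori.Products.proj g with hy
  have hy2 : orderOf y = 2 := by
    refine orderOf_eq_prime ?_ ?_
    · rw [hy, pow_two, ← map_mul, hgg, proj_eq_one_iff]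
      exact Or.inr rfl
    · rw [hy, ne_eq, proj_eq_one_iff]
      rintro (rfl | rfl) <;> simp [PSLTwo.Sylow.NonScalar, one_apply'] at hg
  obtain ⟨m, hm⟩ := IsPGroup.iff_card.1 (h y hy2)
  have h1 := index_mul_card_pre g
  rw [card_pre_zero h20 ht, ← Linear.two_mul_card_PSL_two_of_odd hodd,
    ← (Subgroup.centralizer ({y} : Set _)).card_mul_index, hm] at h1
  have hi : (Subgroup.centralizer ({y} : Set _)).index ≠ 0 := Subgroup.index_ne_zero_of_finite
  have ht2 : Nat.card (SL2Tori.torus g) = 2 ^ m := by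
    refine Nat.eq_of_mul_eq_mul_left (by omega : 0 < 2 * (Subgroup.centralizer ({y} : Set _)).index) ?_
    rw [hy] at h1 ⊢
    linarith
  have hq1 := Fintype.one_lt_card (α := F)
  rcases (by
    have := Nat.odd_iff.1 hodd
    omega : Fintype.card F % 4 = 1 ∨ Fintype.card F % 4 = 3) with h4 | h4
  · rw [torus_zero_one h2n h4 hg ht] at ht2
    exact ⟨m, Or.inl (by omega)⟩
  · rw [torus_zero_three h4 hg ht] at ht2
    exact ⟨m, Or.inr ht2⟩

namespace TICase

variable {T : Sylow 2 G} (c : TICase T)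
include c

local notation "M" => Subgroup.normalizer ((T : Subgroup G) : Set G)
local notation "Ω" => G ⧸ Subgroup.normalizer ((T : Subgroup G) : Set G)
local notation "o" => ((1 : G) : G ⧸ Subgroup.normalizer ((T : Subgroup G) : Set G))

theorem exists_other : ∃ y : Ω, o ≠ y := by
  haveI := c.oneFix.nontrivial
  obtain ⟨y, hy⟩ := exists_ne o
  exact ⟨y, hy.symm⟩

theorem inter_sylow {y : Ω} (hy : o ≠ y) {t : G} (ht : t ∈ (T : Subgroup G)) (hty : t • y = y) : t = 1 :=
  eq_one_of_odd_of_two T.2 ht (c.odd_of_mem hy ⟨mem_stab.2 (Subgroup.le_normalizer ht), hty⟩)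

theorem card_stab : Nat.card ↥M = Nat.card ↥(invAt G o) * Nat.card ↥(T : Subgroup G) := by
  obtain ⟨y, hy⟩ := c.exists_other
  obtain ⟨s, hs⟩ := c.oneFix.exists_invAt o
  have hsT : s ∈ (T : Subgroup G) := mem_sylow hs.1 (mem_stab.1 hs.2)
  have h1 := OneFix.card_eq_orbit_mul M hs
    (fun d hd t ht => by
      have h := OneFix.conj_mem_invAt (g := d) ht
      rwa [mem_stab.2 hd] at h)
    fun t ht => by
      obtain ⟨d, hd, hdt⟩ := c.oneFix.pairStab_conj_invAt hy hs ht
      exact ⟨d, mem_stab.1 hd.1, hdt⟩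
  set D := pairStab G o y with hD
  have hDM : D ≤ M := fun d hd => mem_stab.1 hd.1
  have h2 := OffenderComp.Aux.card_sup_inf (H := D) (K := (T : Subgroup G)) hDM
  have hbot : D ⊓ (T : Subgroup G) = ⊥ := by
    rw [Subgroup.eq_bot_iff_forall]
    exact fun t ht => c.inter_sylow hy ht.2 ht.1.2
  rw [hbot, Subgroup.card_bot, mul_one, hD, c.card_pairStab hy] at h2
  have h3 := Subgroup.card_le_of_le (sup_le hDM Subgroup.le_normalizer : D ⊔ (T : Subgroup G) ≤ M)
  have h4 := Subgroup.card_le_of_le ((inf_le_right : M ⊓ Subgroup.centralizer {s} ≤ _).trans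
    (c.centralizer_le hsT (invol_ne_one hs.1)))
  rw [hD, h2] at h3
  exact le_antisymm (h1 ▸ Nat.mul_le_mul_left _ h4) h3

theorem one_lt_invol [IsSimpleGroup G] : 1 < Nat.card ↥(invAt G o) := by
  haveI : Nonempty ↥(invAt G o) := by
    obtain ⟨s, hs⟩ := c.oneFix.exists_invAt o
    exact ⟨⟨s, hs⟩⟩
  by_contra hle
  have hi : Nat.card ↥(invAt G o) = 1 := le_antisymm (by omega) Nat.card_pos
  have hMT : (T : Subgroup G) = M := Subgroup.eq_of_le_of_card_ge Subgroup.le_normalizer
    (by rw [c.card_stab, hi, one_mul])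
  have hTtop : (T : Subgroup G) ≠ ⊤ := hMT.symm ▸ c.se.1
  have hTbot : (T : Subgroup G) ≠ ⊥ := by
    intro e
    obtain ⟨s, hs⟩ := c.oneFix.exists_invAt o
    have := mem_sylow (T := T) hs.1 (mem_stab.1 hs.2)
    rw [e, Subgroup.mem_bot] at this
    exact invol_ne_one hs.1 this
  obtain ⟨K, hK, -, hc⟩ := Induced.FrobeniusKernel.exists_frobeniusKernel_subgroup
    (H := (T : Subgroup G)) ⟨hTbot, hTtop, fun g hg => c.ti g (hMT ▸ hg)⟩
  rcases hK.eq_bot_or_eq_top with rfl | rfl
  · exact hTtop (Subgroup.isComplement'_bot_left.1 hc)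
  · exact hTbot (Subgroup.isComplement'_top_left.1 hc)

theorem zassenhaus [IsSimpleGroup G] : Cfsg.IsZassenhausGroup G Ω := by
  classical
  letI := Fintype.ofFinite G
  have hO := c.oneFix
  obtain ⟨y₀, hy₀⟩ := c.exists_other
  have hi := c.one_lt_invol
  have h3 : ∀ g : G, ∀ a b e : Ω, a ≠ b → b ≠ e → a ≠ e → g • a = a → g • b = b → g • e = e → g = 1 := by
    intro g a b e hab hbe hae ha hb he
    by_contra hg
    rcases c.fix_two hab ⟨ha, hb⟩ hg he with h | h
    · exact hae h.symm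
    · exact hbe h.symm
  let Y := {y : Ω // o ≠ y}
  have hsharp : Nat.card Y ≤ Nat.card ↥(T : Subgroup G) := by
    let f : (Σ y : Y, {d : G // d ∈ pairStab G o y.1 ∧ d ≠ 1}) → {g : G // g ∈ M ∧ g ∉ (T : Subgroup G)} :=
      fun p => ⟨p.2.1, mem_stab.1 p.2.2.1.1, fun hT => p.2.2.2 (c.inter_sylow p.1.2 hT p.2.2.1.2)⟩
    have hf : Function.Injective f := by
      rintro ⟨y, d, hd, hd1⟩ ⟨y', d', hd', hd1'⟩ e
      obtain rfl : d = d' := congrArg Subtype.val e
      obtain rfl : y = y' := by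
        rcases c.fix_two y.2 hd hd1 hd'.2 with h | h
        · exact absurd h.symm y'.2
        · exact Subtype.ext h.symm
      rfl
    have h1 := Nat.card_le_card_of_injective f hf
    haveI := Fintype.ofFinite Y
    rw [Nat.card_sigma] at h1
    have h2 : ∀ y : Y, Nat.card {d : G // d ∈ pairStab G o y.1 ∧ d ≠ 1} + 1 = Nat.card ↥(invAt G o) := by
      intro y
      rw [← c.card_pairStab y.2, ← card_sharp (pairStab G o y.1), Nat.card_eq_fintype_card,
        Fintype.card_subtype]
      rfl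
    have h4 : Nat.card {g : G // g ∈ M ∧ g ∉ (T : Subgroup G)} + Nat.card ↥(T : Subgroup G) =
        Nat.card ↥M := by
      rw [Nat.card_eq_fintype_card, Nat.card_eq_fintype_card, Nat.card_eq_fintype_card,
        Fintype.card_subtype, Fintype.card_subtype, Fintype.card_subtype,
        ← Finset.card_union_of_disjoint (Finset.disjoint_left.2 fun a ha ha' =>
          (Finset.mem_filter.1 ha).2.2 (Finset.mem_filter.1 ha').2)]
      refine congrArg Finset.card (Finset.ext fun a => ?_)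
      simp only [Finset.mem_union, Finset.mem_filter, Finset.mem_univ, true_and]
      exact ⟨fun h => h.elim (fun h => h.1) (fun h => Subgroup.le_normalizer h),
        fun h => (em (a ∈ (T : Subgroup G))).symm.imp (fun h' => ⟨h, h'⟩) id⟩
    rw [c.card_stab] at h4
    set i := Nat.card ↥(invAt G o) with hidef
    rw [Finset.sum_congr rfl (g := fun _ => i - 1) (fun y _ => by have := h2 y; omega),
      Finset.sum_const, Finset.card_univ, smul_eq_mul, ← Nat.card_eq_fintype_card] at h1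
    obtain ⟨j, hj⟩ : ∃ j, i = j + 2 := ⟨i - 2, by omega⟩
    rw [hj] at h4 h1
    simp only [show j + 2 - 1 = j + 1 from rfl] at h1
    nlinarith
  have htrans : ∀ y : Y, ∃ t ∈ (T : Subgroup G), t • y₀ = y.1 := by
    let f : ↥(T : Subgroup G) → Y := fun t => ⟨(t : G) • y₀, fun e => hy₀ (smul_left_cancel (t : G)
      ((mem_stab.2 (Subgroup.le_normalizer t.2)).trans e))⟩
    have hf : Function.Injective f := by
      intro a b e
      have e1 : (a : G) • y₀ = (b : G) • y₀ := congrArg Subtype.val e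
      exact Subtype.ext (inv_mul_eq_one.1 (c.inter_sylow hy₀ (mul_mem (inv_mem b.2) a.2)
        (by rw [mul_smul, e1, inv_smul_smul]))).symm
    have hb := hf.bijective_of_nat_card_le hsharp
    intro y
    obtain ⟨t, ht⟩ := hb.2 y
    exact ⟨t, t.2, congrArg Subtype.val ht⟩
  refine ⟨?_, ?_, h3, ?_, ?_⟩
  · refine ⟨fun {a b} hab => ?_⟩
    have hk : b⁻¹ * a ∈ (M).normalCore := by
      rw [Subgroup.normalCore_eq_ker]
      ext z
      show (b⁻¹ * a) • z = z
      rw [mul_smul, hab, inv_smul_smul]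
    rcases (inferInstance : (M).normalCore.Normal).eq_bot_or_eq_top with e | e
    · rw [e, Subgroup.mem_bot] at hk
      exact (inv_mul_eq_one.1 hk).symm
    · exact absurd (top_le_iff.1 (e ▸ Subgroup.normalCore_le M)) c.se.1
  · rw [MulAction.is_two_pretransitive_iff]
    intro a b a' b' hab hab'
    haveI := hO.trans
    have key : ∀ p q : Ω, p ≠ q → ∃ g : G, g • o = p ∧ g • y₀ = q := by
      intro p q hpq
      obtain ⟨g, hg⟩ := exists_smul_eq G o p
      obtain ⟨t, ht, hty⟩ := htrans ⟨g⁻¹ • q, fun e => hpq (by rw [← hg, e, smul_inv_smul])⟩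
      exact ⟨g * t, by rw [mul_smul, mem_stab.2 (Subgroup.le_normalizer ht), hg],
        by rw [mul_smul, hty, smul_inv_smul]⟩
    obtain ⟨g, hga, hgb⟩ := key a b hab
    obtain ⟨g', hga', hgb'⟩ := key a' b' hab'
    exact ⟨g' * g⁻¹, by rw [← hga, mul_smul, inv_smul_smul, hga'],
      by rw [← hgb, mul_smul, inv_smul_smul, hgb']⟩
  · have h := c.card_pairStab hy₀
    obtain ⟨d, hd, hd1⟩ := (pairStab G o y₀).bot_or_exists_ne_one.resolve_left fun e => by
      rw [e, Subgroup.card_bot] at h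
      omega
    exact ⟨d, hd1, o, y₀, hy₀, hd.1, hd.2⟩
  · intro N hN htr
    refine ⟨o, fun e => ?_⟩
    rcases hN.eq_bot_or_eq_top with rfl | rfl
    · obtain ⟨n, hn⟩ := htr.exists_smul_eq o y₀
      refine hy₀ ?_
      rw [← hn]
      show o = (n : G) • o
      rw [Subgroup.mem_bot.1 n.2, one_smul]
    · obtain ⟨s, hs⟩ := hO.exists_invAt o
      have h1 : (⟨s, Subgroup.mem_top s⟩ : (⊤ : Subgroup G)) ∈ stabilizer (⊤ : Subgroup G) o := hs.2
      exact invol_ne_one hs.1 (congrArg Subtype.val (Subgroup.mem_bot.1 ((SetLike.ext_iff.1 e _).1 h1)))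

theorem psl_or_suzuki [IsSimpleGroup G] :
    (∃ (F : Type) (_ : Field F) (_ : Fintype F),
      (Fintype.card F = 9 ∨ (∃ n : ℕ, Fintype.card F = 2 ^ n) ∨
        ((Fintype.card F).Prime ∧ ∃ k : ℕ, Fintype.card F = 2 ^ k + 1 ∨ Fintype.card F + 1 = 2 ^ k)) ∧
      Nonempty (G ≃* Matrix.ProjectiveSpecialLinearGroup (Fin 2) F)) ∨ Cfsg.IsSuzuki G := by
  rcases Cfsg.Agent.S0340.result c.zassenhaus with ⟨F, iF, iT, ⟨e⟩⟩ | h
  · refine Or.inl ⟨F, iF, iT, ?_, ⟨e⟩⟩
    obtain ⟨p, hpF⟩ := CharP.exists F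
    haveI : Fact p.Prime := ⟨CharP.char_is_prime F p⟩
    obtain ⟨k, hp, hk⟩ := FiniteField.card F p
    rcases hp.eq_two_or_odd' with rfl | hpo
    · exact Or.inr (Or.inl ⟨k, hk⟩)
    have hodd : Odd (Fintype.card F) := hk ▸ hpo.pow
    have hcit : IsCIT (Matrix.ProjectiveSpecialLinearGroup (Fin 2) F) := by
      intro t ht x
      obtain ⟨n, hn⟩ := c.cit (e.symm t) ((MulEquiv.orderOf_eq e.symm t).trans ht)
        ⟨e.symm (x : _), mem_centralizer_singleton' (by
          rw [← map_mul, ← map_mul, Subgroup.mem_centralizer_singleton_iff.1 x.2])⟩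
      refine ⟨n, Subtype.ext (e.symm.injective ?_)⟩
      have h1 := congrArg Subtype.val hn
      simpa using h1
    obtain ⟨m, hm⟩ := card_of_cit_psl hodd hcit
    rw [hk] at hm ⊢
    rcases prime_or_nine hp hpo k.pos hm with h | h
    · exact Or.inr (Or.inr ⟨h, m, hm⟩)
    · exact Or.inl h
  · exact Or.inr h

end TICase

end Cfsg.Agent.Lib.CIT
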