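import Cfsg.Agent.Lib.CIT.Shape

/-!
# The torus of one half of a shape

Owner: helper2. In `N(V)` fix three Sylow subgroups `P`, `P'`, `P''` and `τ ∈ P''` interchanging the first
two. The stabiliser of `P` and `P'` acts on `R = V ∩ W` as an abelian group transitive on `R#`, whose
elements together with `0` are closed under addition, and `τ` inverts it.
-/

set_option autoImplicit false
set_option linter.style.haveILetI false
set_option linter.unusedSectionVars false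

open Cfsg

namespace Cfsg.Agent.Lib.CIT

open scoped Pointwise
open Cfsg.Agent.Lib.CosetGraph.SylowIn

variable {G : Type*} [Group G]

/-- Conjugation of elements. -/
def cj (x r : G) : G := x * r * x⁻¹

theorem cj_cj (x y r : G) : cj x (cj y r) = cj (x * y) r := by simp only [cj]; group
theorem cj_mul (x a b : G) : cj x (a * b) = cj x a * cj x b := by simp only [cj]; group
theorem cj_one (r : G) : cj 1 r = r := by simp [cj]
theorem cj_eq_one {x r : G} : cj x r = 1 ↔ r = 1 := conj_eq_one_iff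
theorem cj_inv_cancel (x r : G) : cj x⁻¹ (cj x r) = r := by rw [cj_cj, inv_mul_cancel, cj_one]
theorem cj_cancel_inv (x r : G) : cj x (cj x⁻¹ r) = r := by rw [cj_cj, mul_inv_cancel, cj_one]
theorem cj_injective (x : G) : Function.Injective (cj x) := fun a b e => by
  rw [← cj_inv_cancel x a, e, cj_inv_cancel]

theorem cj_eq_self {x r : G} (h : x * r = r * x) : cj x r = r := by
  rw [cj, h, mul_inv_cancel_right]

theorem conjSub_cj {H : Subgroup G} {x r : G} (hr : r ∈ H) : cj x r ∈ H ^ᶜ x := ⟨r, hr, rfl⟩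

theorem cj_mem {H : Subgroup G} {x r : G} (hx : x ∈ Subgroup.normalizer (H : Set G)) (hr : r ∈ H) :
    cj x r ∈ H := (Subgroup.mem_normalizer_iff.1 hx r).1 hr

/-- Three Sylow subgroups of `N(V)` and two elements moving them. -/
structure Tri (V W P P' P'' : Subgroup G) (τ u₀ : G) : Prop where
  shape : Shape V W P
  syl' : IsSylowIn 2 P' (Subgroup.normalizer (V : Set G))
  syl'' : IsSylowIn 2 P'' (Subgroup.normalizer (V : Set G))
  ne' : P' ≠ P
  ne'' : P'' ≠ P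
  ne3 : P'' ≠ P'
  hτ : τ ∈ P''
  swap : P ^ᶜ τ = P'
  hu : u₀ ∈ P
  move : P' ^ᶜ u₀ = P''

variable [Finite G] {V W P P' P'' : Subgroup G} {τ u₀ : G}

theorem Shape.exists_tri (hG : IsCIT G) (s : Shape V W P) :
    ∃ P' P'' τ u₀, Tri V W P P' P'' τ u₀ := by
  obtain ⟨g, hg, g', hg', hne, hne', hne''⟩ := s.ffV.exists_two hG
  have hsyl : ∀ x ∈ Subgroup.normalizer (V : Set G),
      IsSylowIn 2 (P ^ᶜ x) (Subgroup.normalizer (V : Set G)) := fun x hx => by
    have := s.ffV.loc.syl.conj x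
    rwa [conj_map_eq_self (Subgroup.le_normalizer hx)] at this
  have f' := s.ffV.of_syl hG (hsyl g hg)
  have f'' := s.ffV.of_syl hG (hsyl g' hg')
  obtain ⟨τ, hτ, hτe⟩ := f''.off.transitive hG f''.loc s.ffV.off hne'.symm f'.off hne''
  obtain ⟨u, hu, hue⟩ := s.ffV.off.transitive hG s.ffV.loc f'.off hne f''.off hne'
  exact ⟨_, _, τ, u, s, hsyl g hg, hsyl g' hg', hne, hne', hne''.symm, hτ, hτe, hu, hue⟩

/-- Stabiliser of `P` and `P'` in `N(V)`. -/
abbrev torus (V P P' : Subgroup G) : Subgroup G :=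
  Subgroup.normalizer (V : Set G) ⊓ Subgroup.normalizer (P : Set G) ⊓ Subgroup.normalizer (P' : Set G)

/-- `[u, τ r τ⁻¹]`. -/
def slope (τ u r : G) : G := cj u (cj τ r) * (cj τ r)⁻¹

namespace Tri

variable (hG : IsCIT G) (t : Tri V W P P' P'' τ u₀)
include hG t

theorem ff' : FF (Subgroup.normalizer (V : Set G)) P' := t.shape.ffV.of_syl hG t.syl'

theorem ff'' : FF (Subgroup.normalizer (V : Set G)) P'' := t.shape.ffV.of_syl hG t.syl''

omit hG in
theorem V_le_syl {X : Subgroup G} (hX : IsSylowIn 2 X (Subgroup.normalizer (V : Set G))) : V ≤ X :=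
  le_of_eq_of_le t.shape.qV.symm (pCoreOf_le_sylow hX)

omit hG in
theorem notMem_Q {u : G} (hu : u ∉ V) : u ∉ pCoreOf 2 (Subgroup.normalizer (V : Set G)) := by
  rwa [t.shape.qV]

theorem not_fix {X : Subgroup G} (hX : IsSylowIn 2 X (Subgroup.normalizer (V : Set G))) (hne : X ≠ P)
    {u : G} (hu : u ∈ P) (hn : X ^ᶜ u = X) : u ∈ V := by
  by_contra huV
  exact t.shape.ffV.off.not_normalizes hG t.shape.ffV.loc (t.shape.ffV.of_syl hG hX).off hne hu
    (t.notMem_Q huV) hn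

omit hG in
theorem τ_normalizer : τ ∈ Subgroup.normalizer (V : Set G) := t.syl''.le t.hτ

theorem τ_sq : τ * τ ∈ V := by
  have := (t.ff'' hG).off.sq τ t.hτ
  rwa [t.shape.qV] at this

theorem τ_notMem : τ ∉ V := fun h => t.ne' <| by
  rw [← t.swap, conj_map_eq_self (Subgroup.le_normalizer (t.shape.V_le h))]

omit hG in
theorem fix_V_P {v : G} (hv : v ∈ V) : P ^ᶜ v = P :=
  conj_map_eq_self (Subgroup.le_normalizer (t.shape.V_le hv))

theorem swap' : P' ^ᶜ τ = P := by rw [← t.swap, conj_map_map, t.fix_V_P (t.τ_sq hG)]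

theorem swap_inv : P ^ᶜ τ⁻¹ = P' := by
  conv_lhs => rw [← t.swap' hG]
  rw [conjSub_inv_cancel]

theorem swap_inv' : P' ^ᶜ τ⁻¹ = P := by
  conv_lhs => rw [← t.swap]
  rw [conjSub_inv_cancel]

omit hG in
theorem cj_V {v r : G} (hv : v ∈ V) (hr : r ∈ V) : cj v r = r := cj_eq_self (t.shape.comm hv hr)

omit hG in
theorem cj_P {p r : G} (hp : p ∈ P) (hr : r ∈ V ⊓ W) : cj p r = r :=
  cj_eq_self (t.shape.comm_inf hr hp)

theorem mem_R' {r : G} (hr : r ∈ V ⊓ W) : cj τ r ∈ Rof (Subgroup.normalizer (V : Set G)) P' := by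
  rw [← t.shape.Rof_eq hG] at hr
  obtain ⟨hrV, hrc⟩ := mem_Rof.1 hr
  refine mem_Rof.2 ⟨conj_mem_Vof t.τ_normalizer hrV, fun a ha => ?_⟩
  rw [← t.swap] at ha
  obtain ⟨b, hb, rfl⟩ := ha
  show cj τ b * cj τ r = cj τ r * cj τ b
  rw [← cj_mul, hrc b hb, cj_mul]

theorem eq_one_of_mem {r : G} (hr : r ∈ V ⊓ W) (h : cj τ r ∈ V ⊓ W) : r = 1 := by
  have h2 : cj τ r ∈ Rof (Subgroup.normalizer (V : Set G)) P ⊓
      Rof (Subgroup.normalizer (V : Set G)) P' := ⟨(t.shape.Rof_eq hG).symm ▸ h, t.mem_R' hG hr⟩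
  rw [t.shape.ffV.off.disjoint hG t.shape.ffV.loc (t.ff' hG).off t.ne', Subgroup.mem_bot] at h2
  exact cj_eq_one.1 h2

theorem decomp {v : G} (hv : v ∈ V) :
    ∃ r ∈ V ⊓ W, ∃ r' ∈ V ⊓ W, v = r * cj τ r' := by
  set R := V ⊓ W with hR
  set R' := R ^ᶜ τ with hR'
  have hR'V : R' ≤ V := by
    rintro _ ⟨r, hr, rfl⟩
    exact cj_mem t.τ_normalizer (inf_le_left (b := W) hr)
  have hbot : R ⊓ R' = ⊥ := by
    rw [Subgroup.eq_bot_iff_forall]
    rintro x ⟨hx, r, hr, rfl⟩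
    exact cj_eq_one.2 (t.eq_one_of_mem hG hr hx)
  have hn : R ≤ Subgroup.normalizer (R' : Set G) := fun r hr => by
    refine Subgroup.mem_normalizer_iff.2 fun x => ⟨fun hx => ?_, fun hx => ?_⟩
    · rwa [t.shape.comm hr.1 (hR'V hx), mul_inv_cancel_right]
    · have h1 : r⁻¹ * (r * x * r⁻¹) * r = r * x * r⁻¹ := by
        rw [t.shape.comm (V.inv_mem hr.1) (hR'V hx), mul_assoc, inv_mul_cancel, mul_one]
      have h2 : r⁻¹ * (r * x * r⁻¹) * r = x := by group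
      rw [← h2, h1]; exact hx
  have hc := OffenderComp.Aux.card_sup_inf hn
  rw [hbot, Subgroup.card_bot, mul_one, hR', Subgroup.card_map_of_injective (MulAut.conj τ).injective,
    hR, t.shape.card_sq hG] at hc
  have he : R ⊔ R' = V := Subgroup.eq_of_le_of_card_ge (sup_le inf_le_left hR'V) hc.ge
  have hset : ((R ⊔ R' : Subgroup G) : Set G) = (R : Set G) * (R' : Set G) :=
    Subgroup.coe_mul_of_left_le_normalizer_right _ _ hn
  have h1 : v ∈ ((R ⊔ R' : Subgroup G) : Set G) := by rw [he]; exact hv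
  rw [hset] at h1
  obtain ⟨r, hr, _, ⟨r', hr', rfl⟩, e⟩ := h1
  exact ⟨r, hr, r', hr', e.symm⟩

theorem comm_mem {u v : G} (hu : u ∈ P) (hv : v ∈ V) : cj u v * v⁻¹ ∈ V ⊓ W := by
  rw [← t.shape.Rof_eq hG]
  exact t.shape.ffV.off.mem_R hu (t.shape.vV.symm ▸ hv)

theorem slope_mem {u r : G} (hu : u ∈ P) (hr : r ∈ V ⊓ W) : slope τ u r ∈ V ⊓ W :=
  t.comm_mem hG hu (cj_mem t.τ_normalizer hr.1)

theorem slope_mul_left {u u' r : G} (hu : u ∈ P) (hu' : u' ∈ P) (hr : r ∈ V ⊓ W) :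
    slope τ (u * u') r = slope τ u r * slope τ u' r := by
  have h1 := t.slope_mem hG hu' hr
  have e : cj u (slope τ u' r) = slope τ u' r := t.cj_P hu h1
  have h2 := t.shape.comm (t.slope_mem hG hu hr).1 h1.1
  unfold slope at *
  rw [h2]
  calc cj (u * u') (cj τ r) * (cj τ r)⁻¹
      = cj u (cj u' (cj τ r) * (cj τ r)⁻¹) * (cj u (cj τ r) * (cj τ r)⁻¹) := by
        simp only [cj]; group
    _ = _ := by rw [e]

omit hG in
theorem slope_V {v r : G} (hv : v ∈ V) (hr : r ∈ V ⊓ W) : slope τ v r = 1 := by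
  rw [slope, t.cj_V hv (cj_mem t.τ_normalizer hr.1), mul_inv_cancel]

theorem slope_congr {u u' r : G} (hu : u ∈ P) (h : u⁻¹ * u' ∈ V) (hr : r ∈ V ⊓ W) :
    slope τ u' r = slope τ u r := by
  have := t.slope_mul_left hG hu (t.shape.V_le h) hr
  rwa [mul_inv_cancel_left, t.slope_V h hr, mul_one] at this

theorem mem_V_of_slope {u r : G} (hu : u ∈ P) (hr : r ∈ V ⊓ W) (hr1 : r ≠ 1) (h : slope τ u r = 1) :
    u ∈ V := by
  by_contra huV
  refine hr1 (t.eq_one_of_mem hG hr (t.shape.mem_inf_of_comm hG hu huV (cj_mem t.τ_normalizer hr.1) ?_))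
  exact (mul_inv_eq_iff_eq_mul.1 (mul_inv_eq_one.1 h)).symm

theorem slope_base {r : G} (hr : r ∈ V ⊓ W) : slope τ u₀ r = r := by
  have hR'' : ∀ {a : G}, a ∈ V ⊓ W → a * cj τ a ∈ Rof (Subgroup.normalizer (V : Set G)) P'' := by
    intro a ha
    have h1 := (t.ff'' hG).off.mem_R t.hτ (v := a) (t.shape.vV.symm ▸ ha.1)
    have e : τ * a * τ⁻¹ * a⁻¹ = a * cj τ a := by
      rw [t.shape.inv_eq ha.1, t.shape.comm ha.1 (cj_mem t.τ_normalizer ha.1)]; rfl
    rwa [e] at h1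
  have h2 : cj u₀ (cj τ r) ∈ Rof (Subgroup.normalizer (V : Set G)) P'' := by
    obtain ⟨hV, hc⟩ := mem_Rof.1 (t.mem_R' hG hr)
    refine mem_Rof.2 ⟨conj_mem_Vof (t.shape.le_normalizerV t.hu) hV, fun a ha => ?_⟩
    rw [← t.move] at ha
    obtain ⟨b, hb, rfl⟩ := ha
    show cj u₀ b * cj u₀ (cj τ r) = cj u₀ (cj τ r) * cj u₀ b
    rw [← cj_mul, hc b hb, cj_mul]
  have h3 : slope τ u₀ r * r⁻¹ ∈ Rof (Subgroup.normalizer (V : Set G)) P'' := by
    have h4 := (Rof (Subgroup.normalizer (V : Set G)) P'').mul_mem h2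
      ((Rof (Subgroup.normalizer (V : Set G)) P'').inv_mem (hR'' hr))
    unfold slope
    convert h4 using 1
    group
  have h5 : slope τ u₀ r * r⁻¹ ∈ Rof (Subgroup.normalizer (V : Set G)) P :=
    (t.shape.Rof_eq hG).symm ▸ (V ⊓ W).mul_mem (t.slope_mem hG t.hu hr) ((V ⊓ W).inv_mem hr)
  have h6 : slope τ u₀ r * r⁻¹ ∈ Rof (Subgroup.normalizer (V : Set G)) P ⊓
      Rof (Subgroup.normalizer (V : Set G)) P'' := ⟨h5, h3⟩
  rw [t.shape.ffV.off.disjoint hG t.shape.ffV.loc (t.ff'' hG).off t.ne'', Subgroup.mem_bot] at h6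
  exact mul_inv_eq_one.1 h6

omit hG in
theorem u₀_notMem : u₀ ∉ V := fun h => t.ne3 <| by
  rw [← t.move, conj_map_eq_self (Subgroup.le_normalizer (t.V_le_syl t.syl' h))]

/-! ### The torus -/

omit hG in
theorem mem_inf_normalizer {x r : G} (hx : x ∈ torus V P P') (hr : r ∈ V ⊓ W) : cj x r ∈ V ⊓ W := by
  rw [← t.shape.center] at hr ⊢
  have h := conjSub_cj (x := x) hr
  rwa [omegaCenter_conj, conj_map_eq_self hx.1.2] at h

theorem two_elem {x : G} (hx : x ∈ torus V P P') (h2 : IsPGroup 2 ↥(Subgroup.zpowers x)) : x ∈ V := by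
  haveI : Fact (Nat.Prime 2) := ⟨Nat.prime_two⟩
  have hsup := IsPGroup.to_sup_of_normal_left' t.shape.isP h2 (Subgroup.zpowers_le.2 hx.1.2)
  obtain ⟨T, hT, hle⟩ := IsSylowIn.exists_le hsup
    (sup_le t.shape.le_normalizerV (Subgroup.zpowers_le.2 hx.1.1))
  have e : P = T := Subgroup.eq_of_le_of_card_ge (le_sup_left.trans hle)
    (by rw [hT.card_eq, t.shape.ffV.loc.syl.card_eq])
  refine t.not_fix hG t.syl' t.ne' ?_ (conj_map_eq_self hx.2)
  rw [e]
  exact hle (Subgroup.mem_sup_right (Subgroup.mem_zpowers x))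

/-- Fixing three Sylow subgroups. -/
theorem fix_three {x : G} (hx : x ∈ torus V P P') (h : P'' ^ᶜ x = P'') : x ∈ V := by
  haveI : Fact (Nat.Prime 2) := ⟨Nat.prime_two⟩
  obtain ⟨a, m, hm, hord⟩ := Nat.exists_eq_two_pow_mul_odd (n := orderOf x) (orderOf_pos x).ne'
  set y := x ^ 2 ^ a with hy
  have hyord : orderOf y = m := by
    rw [hy, orderOf_pow_of_dvd (by positivity) (hord ▸ dvd_mul_right _ _), hord,
      Nat.mul_div_cancel_left _ (by positivity)]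
  have hy1 : y = 1 := by
    have hyT : y ∈ torus V P P' := Subgroup.pow_mem _ hx _
    have hy'' : P'' ^ᶜ y = P'' :=
      conj_map_eq_self (Subgroup.pow_mem _ (mem_normalizer_iff_map.2 h) _)
    refine hG.eq_one_of_mod t.shape.isP t.shape.V_le t.hu t.u₀_notMem (hyord.symm ▸ hm) hyT.1.1 ?_
    refine t.not_fix hG t.syl' t.ne' (P.mul_mem (P.inv_mem t.hu) (cj_mem hyT.1.2 t.hu)) ?_
    rw [← conj_map_map, ← conj_map_map, ← conj_map_map, conj_map_eq_self (inv_mem hyT.2), t.move, hy'',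
      ← t.move, conjSub_inv_cancel]
  refine t.two_elem hG hx (IsPGroup.of_card (n := a) ?_)
  have hm1 : m = 1 := by rw [← hyord, hy1, orderOf_one]
  rw [Nat.card_zpowers, hord, hm1, mul_one]

omit hG in
theorem V_le_torus : V ≤ torus V P P' :=
  le_inf (le_inf Subgroup.le_normalizer (t.shape.V_le.trans Subgroup.le_normalizer))
    ((t.V_le_syl t.syl').trans Subgroup.le_normalizer)

theorem τ_conj {x : G} (hx : x ∈ torus V P P') : τ * x * τ⁻¹ ∈ torus V P P' := by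
  refine Subgroup.mem_inf.2 ⟨Subgroup.mem_inf.2 ⟨mul_mem (mul_mem t.τ_normalizer hx.1.1) (inv_mem t.τ_normalizer), ?_⟩, ?_⟩
  · change _ ∈ Subgroup.normalizer (P : Set G)
    rw [mem_normalizer_iff_map, ← conj_map_map, ← conj_map_map, t.swap_inv hG, conj_map_eq_self hx.2,
      t.swap' hG]
  · change _ ∈ Subgroup.normalizer (P' : Set G)
    rw [mem_normalizer_iff_map, ← conj_map_map, ← conj_map_map, t.swap_inv' hG, conj_map_eq_self hx.1.2,
      t.swap]

omit hG in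
theorem cj_mem_V {x v : G} (hx : x ∈ Subgroup.normalizer (V : Set G)) (hv : v ∈ V) : cj x v ∈ V :=
  cj_mem hx hv

/-- `τ` inverts the torus on `R`. -/
theorem inverts {y : G} (hy : y ∈ torus V P P') {r : G} (hr : r ∈ V ⊓ W) :
    cj (τ * y * τ⁻¹) (cj y r) = r := by
  set T := torus V P P' with hT
  set V' := V.subgroupOf T with hV'
  let g : ↥T ⧸ V' → ↥T ⧸ V' := fun c =>
    QuotientGroup.mk ⟨(c.out : G)⁻¹ * (τ * c.out * τ⁻¹), mul_mem (inv_mem c.out.2) (t.τ_conj hG c.out.2)⟩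
  have hg : Function.Injective g := by
    intro c d e
    rw [← QuotientGroup.out_eq' c, ← QuotientGroup.out_eq' d]
    refine QuotientGroup.eq.2 ?_
    have e1 := QuotientGroup.eq.1 e
    refine Subgroup.mem_subgroupOf.2 ?_
    replace e1 := Subgroup.mem_subgroupOf.1 e1
    simp only [Subgroup.coe_mul, Subgroup.coe_inv] at e1 ⊢
    set a := (c.out : G) with ha
    set b := (d.out : G) with hb
    have haT : a ∈ T := c.out.2
    have hbT : b ∈ T := d.out.2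
    -- `τ⁻¹ d τ d⁻¹ ∈ V` for `d = a b⁻¹`
    have h1 : cj τ⁻¹ ((a⁻¹ * (τ * a * τ⁻¹))⁻¹ * (b⁻¹ * (τ * b * τ⁻¹))) ∈ V :=
      cj_mem (inv_mem t.τ_normalizer) e1
    have h2 : cj a (cj τ⁻¹ ((a⁻¹ * (τ * a * τ⁻¹))⁻¹ * (b⁻¹ * (τ * b * τ⁻¹)))) ∈ V :=
      cj_mem haT.1.1 h1
    have e2 : cj a (cj τ⁻¹ ((a⁻¹ * (τ * a * τ⁻¹))⁻¹ * (b⁻¹ * (τ * b * τ⁻¹)))) =
        τ⁻¹ * (a * b⁻¹) * τ * (a * b⁻¹)⁻¹ := by simp only [cj]; group
    rw [e2] at h2
    have hdT : a * b⁻¹ ∈ T := mul_mem haT (inv_mem hbT)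
    have hsyl : IsSylowIn 2 (P'' ^ᶜ (a * b⁻¹)) (Subgroup.normalizer (V : Set G)) := by
      have := t.syl''.conj (a * b⁻¹)
      rwa [conj_map_eq_self (Subgroup.le_normalizer hdT.1.1)] at this
    have h3 : τ ∈ P'' ^ᶜ (a * b⁻¹) := by
      have e3 : τ = cj (a * b⁻¹) τ * (cj (a * b⁻¹) τ⁻¹ * τ) := by simp only [cj]; group
      rw [e3]
      refine mul_mem (conjSub_cj t.hτ) (t.V_le_syl hsyl ?_)
      have h4 := V.inv_mem h2
      convert h4 using 1
      simp only [cj]; group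
    have hfix := (t.ff'' hG).unique_sylow hG hsyl t.hτ h3 (t.notMem_Q (t.τ_notMem hG))
    have h5 := cj_mem (inv_mem haT.1.1) (t.fix_three hG hdT hfix)
    have e4 : a⁻¹ * b = (cj a⁻¹ (a * b⁻¹))⁻¹ := by simp only [cj]; group
    rw [e4]
    exact V.inv_mem h5
  obtain ⟨c, hc⟩ := (Finite.injective_iff_surjective.1 hg) (QuotientGroup.mk ⟨y, hy⟩)
  have e1 := QuotientGroup.eq.1 hc
  replace e1 := Subgroup.mem_subgroupOf.1 e1
  simp only [Subgroup.coe_mul, Subgroup.coe_inv] at e1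
  set x := (c.out : G) with hx
  set v := (x⁻¹ * (τ * x * τ⁻¹))⁻¹ * y with hv
  have hxT : x ∈ T := c.out.2
  have hye : y = x⁻¹ * (τ * x * τ⁻¹) * v := by rw [hv]; group
  have hxr : cj x⁻¹ (cj (τ * x * τ⁻¹) r) = cj y r := by
    have e5 : cj y r = cj (x⁻¹ * (τ * x * τ⁻¹)) (cj v r) := by rw [cj_cj, ← hye]
    rw [e5, t.cj_V e1 hr.1, cj_cj]
  have hsR : cj y r ∈ V ⊓ W := t.mem_inf_normalizer hy hr
  have hcc : cj x (cj y r) = cj (τ * x * τ⁻¹) r := by rw [← hxr, cj_cancel_inv]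
  have e3 : cj (τ * y * τ⁻¹) (cj y r) = cj (τ * x⁻¹ * τ⁻¹)
      (cj (τ * τ) (cj x (cj (τ * τ)⁻¹ (cj (τ * v * τ⁻¹) (cj y r))))) := by
    simp only [cj, hye]; group
  rw [e3, t.cj_V (show τ * v * τ⁻¹ ∈ V from cj_mem t.τ_normalizer e1) hsR.1,
    t.cj_V (V.inv_mem (t.τ_sq hG)) hsR.1, hcc,
    t.cj_V (t.τ_sq hG) (t.mem_inf_normalizer (t.τ_conj hG hxT) hr).1, cj_cj]
  rw [show τ * x⁻¹ * τ⁻¹ * (τ * x * τ⁻¹) = 1 by group, cj_one]

theorem cj_inv_τ {y : G} (hy : y ∈ torus V P P') {r : G} (hr : r ∈ V ⊓ W) :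
    cj (τ * y * τ⁻¹) r = cj y⁻¹ r := by
  conv_lhs => rw [← cj_cancel_inv y r]
  rw [t.inverts hG hy (t.mem_inf_normalizer (inv_mem hy) hr)]

theorem comm_torus {x y : G} (hx : x ∈ torus V P P') (hy : y ∈ torus V P P') {r : G} (hr : r ∈ V ⊓ W) :
    cj x (cj y r) = cj y (cj x r) := by
  have h1 : ∀ {a b : G}, a ∈ torus V P P' → b ∈ torus V P P' → ∀ {r : G}, r ∈ V ⊓ W →
      cj a⁻¹ (cj b⁻¹ r) = cj b⁻¹ (cj a⁻¹ r) := by
    intro a b ha hb r hr
    have e := t.cj_inv_τ hG (mul_mem ha hb) hr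
    rw [show τ * (a * b) * τ⁻¹ = τ * a * τ⁻¹ * (τ * b * τ⁻¹) by group, ← cj_cj, t.cj_inv_τ hG hb hr,
      t.cj_inv_τ hG ha (t.mem_inf_normalizer (inv_mem hb) hr), mul_inv_rev, ← cj_cj] at e
    exact e
  have := h1 (inv_mem hx) (inv_mem hy) hr
  rwa [inv_inv, inv_inv] at this

theorem slope_conj {x : G} (hx : x ∈ torus V P P') {u r : G} (hr : r ∈ V ⊓ W) :
    slope τ (cj x u) r = cj x (slope τ u (cj x r)) := by
  have hxi : τ⁻¹ * x⁻¹ * τ ∈ torus V P P' := by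
    have h1 := t.τ_conj hG (inv_mem hx)
    have hv := t.V_le_torus (t.τ_sq hG)
    have := mul_mem (mul_mem (inv_mem hv) h1) hv
    convert this using 1
    group
  have e : cj (τ⁻¹ * x⁻¹ * τ) r = cj x r := by
    have h2 := t.inverts hG hxi hr
    rw [show τ * (τ⁻¹ * x⁻¹ * τ) * τ⁻¹ = x⁻¹ by group] at h2
    have h3 := congrArg (cj x) h2
    rwa [cj_cancel_inv] at h3
  have e2 : cj τ r = cj x (cj τ (cj x r)) := by
    rw [← e]; simp only [cj]; group
  unfold slope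
  rw [e2]
  simp only [cj]; group

theorem exists_move {X : Subgroup G} (hX : IsSylowIn 2 X (Subgroup.normalizer (V : Set G)))
    (hXP : X ≠ P) (hXP' : X ≠ P') : ∃ x ∈ torus V P P', P'' ^ᶜ x = X := by
  classical
  set T := torus V P P' with hT
  set V' := V.subgroupOf T with hV'
  let S3 := {X : Subgroup G // IsSylowIn 2 X (Subgroup.normalizer (V : Set G)) ∧ X ≠ P ∧ X ≠ P'}
  have hmap : ∀ x ∈ T, IsSylowIn 2 (P'' ^ᶜ x) (Subgroup.normalizer (V : Set G)) ∧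
      P'' ^ᶜ x ≠ P ∧ P'' ^ᶜ x ≠ P' := by
    intro x hx
    refine ⟨?_, fun e => t.ne'' ?_, fun e => t.ne3 ?_⟩
    · have := t.syl''.conj x
      rwa [conj_map_eq_self (Subgroup.le_normalizer hx.1.1)] at this
    · rw [← conjSub_inv_cancel P'' x, e, conj_map_eq_self (inv_mem hx.1.2)]
    · rw [← conjSub_inv_cancel P'' x, e, conj_map_eq_self (inv_mem hx.2)]
  let g : ↥T ⧸ V' → S3 := fun c => ⟨P'' ^ᶜ (c.out : G), hmap _ c.out.2⟩
  have hg : Function.Injective g := by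
    intro c d e
    rw [← QuotientGroup.out_eq' c, ← QuotientGroup.out_eq' d]
    refine QuotientGroup.eq.2 ?_
    refine Subgroup.mem_subgroupOf.2 ?_
    refine t.fix_three hG (mul_mem (inv_mem c.out.2) d.out.2) ?_
    have e' : P'' ^ᶜ (c.out : G) = P'' ^ᶜ (d.out : G) := congrArg Subtype.val e
    show P'' ^ᶜ ((c.out : G)⁻¹ * (d.out : G)) = P''
    rw [← conj_map_map, ← e', conjSub_inv_cancel]
  have hswap : ∀ X : S3, ∃ u ∈ X.1, P ^ᶜ u = P' := fun X =>
    (t.shape.ffV.of_syl hG X.2.1).off.transitive hG t.shape.ffV.loc t.shape.ffV.off X.2.2.1.symm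
      (t.ff' hG).off X.2.2.2.symm
  choose τX hτX hτXs using hswap
  have hτXT : ∀ X : S3, τX X * τ⁻¹ ∈ T := by
    intro X
    have hf := (t.shape.ffV.of_syl hG X.2.1).off
    have hsq : τX X * τX X ∈ V := by
      have := hf.sq _ (hτX X)
      rwa [t.shape.qV] at this
    have hs' : P' ^ᶜ τX X = P := by rw [← hτXs X, conj_map_map, t.fix_V_P hsq]
    refine Subgroup.mem_inf.2 ⟨Subgroup.mem_inf.2 ⟨mul_mem (hf.le (hτX X)) (inv_mem t.τ_normalizer), ?_⟩, ?_⟩
    · change _ ∈ Subgroup.normalizer (P : Set G)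
      rw [mem_normalizer_iff_map, ← conj_map_map, t.swap_inv hG, hs']
    · change _ ∈ Subgroup.normalizer (P' : Set G)
      rw [mem_normalizer_iff_map, ← conj_map_map, t.swap_inv' hG, hτXs X]
  let h : S3 → ↥T ⧸ V' := fun X => QuotientGroup.mk ⟨_, hτXT X⟩
  have hh : Function.Injective h := by
    intro X Y e
    have e1 := QuotientGroup.eq.1 e
    replace e1 := Subgroup.mem_subgroupOf.1 e1
    simp only [Subgroup.coe_mul, Subgroup.coe_inv] at e1
    have h2 : (τX X)⁻¹ * τX Y ∈ V := by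
      have := cj_mem (inv_mem t.τ_normalizer) e1
      convert this using 1
      simp only [cj]; group
    have h3 : τX Y ∈ X.1 := by
      have := X.1.mul_mem (hτX X) (t.V_le_syl X.2.1 h2)
      rwa [mul_inv_cancel_left] at this
    refine Subtype.ext ((t.shape.ffV.of_syl hG Y.2.1).unique_sylow hG X.2.1 (hτX Y) h3 (t.notMem_Q ?_))
    intro hm
    refine t.ne' ?_
    rw [← hτXs Y, t.fix_V_P hm]
  obtain ⟨c, hc⟩ := (hg.bijective_of_nat_card_le (Nat.card_le_card_of_injective h hh)).2 ⟨X, hX, hXP, hXP'⟩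
  exact ⟨_, c.out.2, congrArg Subtype.val hc⟩

/-- Every slope off `V` is the square of a torus element. -/
theorem slope_eq {u : G} (hu : u ∈ P) (huV : u ∉ V) :
    ∃ x ∈ torus V P P', ∀ r ∈ V ⊓ W, slope τ u r = cj x (cj x r) := by
  have hsyl : IsSylowIn 2 (P' ^ᶜ u) (Subgroup.normalizer (V : Set G)) := by
    have := t.syl'.conj u
    rwa [conj_map_eq_self (Subgroup.le_normalizer (t.shape.le_normalizerV hu))] at this
  obtain ⟨x, hx, hxe⟩ := t.exists_move hG hsyl (fun e => t.ne' (by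
    rw [← conjSub_inv_cancel P' u, e, conj_map_eq_self (Subgroup.le_normalizer (P.inv_mem hu))]))
    (fun e => huV (t.not_fix hG t.syl' t.ne' hu e))
  refine ⟨x, hx, fun r hr => ?_⟩
  have hxu : cj x u₀ ∈ P := cj_mem hx.1.2 t.hu
  have h1 : (cj x u₀)⁻¹ * u ∈ V := by
    refine t.not_fix hG t.syl' t.ne' (P.mul_mem (P.inv_mem hxu) hu) ?_
    rw [← conj_map_map, ← hxe, ← t.move, conj_map_map, conj_map_map,
      show (cj x u₀)⁻¹ * x * u₀ = x by simp only [cj]; group, conj_map_eq_self hx.2]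
  rw [t.slope_congr hG hxu h1 hr, t.slope_conj hG hx hr, t.slope_base hG (t.mem_inf_normalizer hx hr)]

theorem exists_sqrt {y : G} (hy : y ∈ torus V P P') :
    ∃ x ∈ torus V P P', ∀ r ∈ V ⊓ W, cj y r = cj x (cj x r) := by
  obtain ⟨a, m, hm, hord⟩ := Nat.exists_eq_two_pow_mul_odd (n := orderOf y) (orderOf_pos y).ne'
  obtain ⟨k, rfl⟩ := hm
  refine ⟨y ^ (k + 1), Subgroup.pow_mem _ hy _, fun r hr => ?_⟩
  have hym : y ^ (2 * k + 1) ∈ V := by
    refine t.two_elem hG (Subgroup.pow_mem _ hy _) (IsPGroup.of_card (n := a) ?_)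
    rw [Nat.card_zpowers, orderOf_pow_of_dvd (by omega) (hord ▸ dvd_mul_left _ _), hord,
      Nat.mul_div_cancel _ (by omega)]
  rw [cj_cj, ← pow_add, show k + 1 + (k + 1) = (2 * k + 1) + 1 by omega, pow_succ', ← cj_cj,
    t.cj_V hym hr.1]

/-- Every element of `N(V) ∩ N(P)` is a torus element modulo `P`. -/
theorem exists_torus {x : G} (hx : x ∈ Subgroup.normalizer (V : Set G) ⊓ Subgroup.normalizer (P : Set G)) :
    ∃ p ∈ P, p⁻¹ * x ∈ torus V P P' := by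
  have hsyl : IsSylowIn 2 (P' ^ᶜ x) (Subgroup.normalizer (V : Set G)) := by
    have := t.syl'.conj x
    rwa [conj_map_eq_self (Subgroup.le_normalizer hx.1)] at this
  obtain ⟨p, hp, hpe⟩ := t.shape.ffV.off.transitive hG t.shape.ffV.loc (t.ff' hG).off t.ne'
    (t.shape.ffV.of_syl hG hsyl).off (fun e => t.ne' (by
      rw [← conjSub_inv_cancel P' x, e, conj_map_eq_self (inv_mem hx.2)]))
  refine ⟨p, hp, Subgroup.mem_inf.2 ⟨Subgroup.mem_inf.2 ⟨mul_mem (inv_mem (t.shape.le_normalizerV hp)) hx.1,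
    mul_mem (inv_mem (Subgroup.le_normalizer hp)) hx.2⟩, ?_⟩⟩
  change _ ∈ Subgroup.normalizer (P' : Set G)
  rw [mem_normalizer_iff_map, ← conj_map_map, ← hpe, conjSub_inv_cancel]

omit hG in
theorem cj_torus {x p r : G} (hp : p ∈ P) (hx : p⁻¹ * x ∈ torus V P P') (hr : r ∈ V ⊓ W) :
    cj x r = cj (p⁻¹ * x) r := by
  conv_lhs => rw [← mul_inv_cancel_left p x]
  rw [← cj_cj p, t.cj_P hp (t.mem_inf_normalizer hx hr)]

end Tri

end Cfsg.Agent.Lib.CIT
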